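import Groth.Agent.H14.Chart.QC
import Groth.Agent.H14.Sep.Main4
import Groth.Agent.H14.Sep.Cover
import Mathlib.CategoryTheory.Limits.Constructions.Over.Products

/-!
Permanence of quasi-compactness of morphisms of algebraic stacks.
-/

set_option autoImplicit false
set_option backward.isDefEq.respectTransparency false
set_option backward.isDefEq.respectTransparency.types false

universe u

open CategoryTheory CategoryTheory.Limits AlgebraicGeometry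

namespace Groth.Agent.H14.Chart.QC2

open Groth.Agent.Lib.AlgStack
open Groth.Agent.H14.Sep
open Groth.Agent.Lib.AlgStack.FibProd (fpMap congrLeft congrRight swap)
open FibCat (IsEquivOver fp fpFst fpSnd fpLift fpIso overCat IsFibGrpd toSelf diag selfOver)
open AlgSt (ofSp ofSpMap ofOverCat toOverCat spMapOfOver overMap RepByAlgSp1 RepByAlgSpWith IsAlgStack)
open AlgSp (Sp yon IsAlgSpace LocP RepWith)

variable {S : Scheme.{u}} {𝒳 𝒴 𝒵 : AlgSt.Cat S}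

/-- A functor to the base category is the structure functor. -/
theorem eq_toSelf {𝒳 : AlgSt.Cat S} (F : 𝒳 ⥤ᵇ selfOver (Over S)) : F = toSelf 𝒳 := by
  obtain ⟨F, hF⟩ := F
  have : F = 𝒳.p := (Functor.comp_id F).symm.trans hF
  subst this
  rfl

theorem isAlgStack_selfOver : IsAlgStack Scheme.fppfPrecoverage (selfOver (Over S)) :=
  IsAlg.isAlgStack_of_isEquivOver (e := toOverCat (Over.mk (𝟙 S)) |>.comp (toSelf _))
    (BasedBasic.IsEquivOver.comp (Rep.isEquivOver_toOverCat _)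
      (IsAlgFp.isEquivOver_toSelf_overCat Over.mkIdTerminal))
    (IsAlg.isAlgStack_ofSp ((AlgSp.ofScheme S).obj (Over.mk (𝟙 S))))

theorem isQuasiCompactMor_iso (h𝒳 : IsAlgStack Scheme.fppfPrecoverage 𝒳)
    (h𝒴 : IsAlgStack Scheme.fppfPrecoverage 𝒴) {f f' : 𝒳 ⥤ᵇ 𝒴} (e : f ≅ f')
    (hf : AlgSt.IsQuasiCompactMor Scheme.fppfPrecoverage f) :
    AlgSt.IsQuasiCompactMor Scheme.fppfPrecoverage f' :=
  QC.isQuasiCompactMor_of_source h𝒳 h𝒳 h𝒴 BasedBasic.isEquivOver_id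
    (show BasedFunctor.comp (BasedFunctor.id 𝒳) f ≅ f' from e) hf

/-- A closed immersion is quasi-compact. -/
theorem isQuasiCompactMor_of_closedImm (h𝒳 : IsAlgStack Scheme.fppfPrecoverage 𝒳)
    (h𝒴 : IsAlgStack Scheme.fppfPrecoverage 𝒴) {f : 𝒳 ⥤ᵇ 𝒴} (hf : AlgSt.IsClosedImm f) :
    AlgSt.IsQuasiCompactMor Scheme.fppfPrecoverage f :=
  (QC.repByAlgSpWith_qc_iff h𝒳 h𝒴 (Rep.repByAlgSp1_of_repByAlgSpWith hf)).1
    (Rep.repByAlgSpWith_mono hf fun _ _ _ _ _ h =>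
      Lib.AlgSpMor.QC.isQuasiCompactMor_of_repWith
        (Lib.AlgSpace.repWith_mono h fun _ _ g (_ : IsClosedImmersion g) => inferInstanceAs (QuasiCompact g)))

/-- Cancellation of a surjection. -/
theorem isQuasiCompactMor_of_surjective (h𝒳 : IsAlgStack Scheme.fppfPrecoverage 𝒳)
    (h𝒴 : IsAlgStack Scheme.fppfPrecoverage 𝒴) (h𝒵 : IsAlgStack Scheme.fppfPrecoverage 𝒵)
    {f : 𝒳 ⥤ᵇ 𝒴} {p : 𝒳 ⥤ᵇ 𝒵} {q : 𝒴 ⥤ᵇ 𝒵} (e : BasedFunctor.comp f q ≅ p)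
    (hf : AlgSt.IsSurjective f) (hp : AlgSt.IsQuasiCompactMor Scheme.fppfPrecoverage p) :
    AlgSt.IsQuasiCompactMor Scheme.fppfPrecoverage q := by
  refine (QC.isQuasiCompactMor_iff h𝒴 h𝒵).2 fun V hV y => ?_
  have := (QC.isQuasiCompactMor_iff h𝒳 h𝒵).1 (isQuasiCompactMor_iso h𝒳 h𝒵 e.symm hp) V hV y
  have hQ := Basic.isAlgStack_fp h𝒵 (Basic.isAlgStack_overCat V) h𝒴 y q
  have := Basic.compactSpace_of_isEquivOver (Basic.isAlgStack_fp h𝒴 hQ h𝒳 (fpSnd y q) f)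
    (Rep.isEquivOver_pasteComp y q f)
  exact Basic.compactSpace_of_surjective hQ
    (Basic.surjective_fpFst h𝒳.isStack.1 h𝒴.isStack.1 hQ.isStack.1 (fpSnd y q) hf)

/-- A second projection is quasi-compact as soon as the first functor is. -/
theorem isQuasiCompactMor_fpSnd (h𝒳 : IsAlgStack Scheme.fppfPrecoverage 𝒳)
    (h𝒴 : IsAlgStack Scheme.fppfPrecoverage 𝒴) (h𝒵 : IsAlgStack Scheme.fppfPrecoverage 𝒵)
    {p : 𝒳 ⥤ᵇ 𝒴} (q : 𝒵 ⥤ᵇ 𝒴) (hp : AlgSt.IsQuasiCompactMor Scheme.fppfPrecoverage p) :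
    AlgSt.IsQuasiCompactMor Scheme.fppfPrecoverage (fpSnd p q) :=
  QC.isQuasiCompactMor_of_source (Basic.isAlgStack_fp h𝒴 h𝒵 h𝒳 q p)
    (Basic.isAlgStack_fp h𝒴 h𝒳 h𝒵 p q) h𝒵 (FibProd.isEquivOver_swap p q)
    (show BasedFunctor.comp (FibProd.swap p q) (fpFst q p) ≅ fpSnd p q from Iso.refl _)
    (QC.isQuasiCompactMor_fpFst h𝒳 h𝒴 h𝒵 q hp)

/-- Cancellation: quasi-compactness of a morphism from that of a composite with a quasi-separated one. -/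
theorem isQuasiCompactMor_of_comp {𝒯 : AlgSt.Cat S} (h𝒳 : IsAlgStack Scheme.fppfPrecoverage 𝒳)
    (h𝒴 : IsAlgStack Scheme.fppfPrecoverage 𝒴) (h𝒯 : IsAlgStack Scheme.fppfPrecoverage 𝒯)
    (f : 𝒳 ⥤ᵇ 𝒴) {a : 𝒳 ⥤ᵇ 𝒯} {g : 𝒴 ⥤ᵇ 𝒯} (e : a ≅ BasedFunctor.comp f g)
    (ha : AlgSt.IsQuasiCompactMor Scheme.fppfPrecoverage a) (hg : AlgSt.IsQuasiSeparatedMor g) :
    AlgSt.IsQuasiCompactMor Scheme.fppfPrecoverage f := by
  have hP := Basic.isAlgStack_fp h𝒯 h𝒳 h𝒴 a g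
  let γ : 𝒳 ⥤ᵇ fp a g := fpLift (BasedFunctor.id 𝒳) f
    (show BasedFunctor.comp (BasedFunctor.id 𝒳) a ≅ BasedFunctor.comp f g from e)
  have hγ : RepByAlgSpWith AlgSp.IsQuasiCompactMor γ :=
    Rep.graph_of_diag f _ (Rep.repByAlgSpWith_mono hg fun _ _ _ _ _ h => h.1)
  exact QC.isQuasiCompactMor_comp h𝒳 hP h𝒴
    ((QC.repByAlgSpWith_qc_iff h𝒳 hP (Rep.repByAlgSp1_of_repByAlgSpWith hγ)).1 hγ)
    (isQuasiCompactMor_fpSnd h𝒳 h𝒯 h𝒴 g ha)

/-- Over a quasi-separated base a quasi-compact stack is quasi-compact over the base. -/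
theorem isQuasiCompactMor_toSelf [QuasiSeparatedSpace S]
    (h𝒳 : IsAlgStack Scheme.fppfPrecoverage 𝒳) (hc : AlgSt.IsQuasiCompact 𝒳) :
    AlgSt.IsQuasiCompactMor Scheme.fppfPrecoverage (toSelf 𝒳) := by
  obtain ⟨U, x, hU, -, hs⟩ := hc
  refine isQuasiCompactMor_of_surjective (Basic.isAlgStack_overCat U) h𝒳 isAlgStack_selfOver
    (f := x) (p := toSelf (overCat U)) (eqToIso (eq_toSelf _))
    (Points.isSurjective_of_rep h𝒳.isStack.1 hs)
    ((QC.isQuasiCompactMor_iff (Basic.isAlgStack_overCat U) isAlgStack_selfOver).2 fun V hV y => ?_)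
  rw [eq_toSelf y]
  have hUc : QuasiCompact U.hom := quasiCompact_of_compactSpace _
  have : CompactSpace ↥(pullback V.hom U.hom) :=
    QuasiCompact.compactSpace_of_compactSpace (pullback.fst V.hom U.hom)
  have : CompactSpace ↥(V ⨯ U).left :=
    (Scheme.homeoOfIso (Over.prodLeftIsoPullback V U)).symm.compactSpace
  have hc := (QC.isQuasiCompact_iff (Basic.isAlgStack_overCat (V ⨯ U))).1
    (QC.isQuasiCompact_overCat (V ⨯ U))
  exact Basic.compactSpace_of_surjective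
    (Basic.isAlgStack_fp isAlgStack_selfOver (Basic.isAlgStack_overCat V)
      (Basic.isAlgStack_overCat U) _ _)
    (Basic.surjective_map_of_isEquivOver (Lib.AlgStack.Diag.isEquivOver_prodToFp V U))

theorem isQuasiCompactMor_of_isQuasiCompact [QuasiSeparatedSpace S]
    (h𝒳 : IsAlgStack Scheme.fppfPrecoverage 𝒳) (h𝒴 : IsAlgStack Scheme.fppfPrecoverage 𝒴)
    (f : 𝒳 ⥤ᵇ 𝒴) (hc : AlgSt.IsQuasiCompact 𝒳) (hq : AlgSt.IsQuasiSeparatedOver 𝒴) :
    AlgSt.IsQuasiCompactMor Scheme.fppfPrecoverage f :=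
  isQuasiCompactMor_of_comp h𝒳 h𝒴 isAlgStack_selfOver f (eqToIso (eq_toSelf _).symm)
    (isQuasiCompactMor_toSelf h𝒳 hc) hq

/-- Quasi-separatedness over the base passes to a 2-fibre product. -/
theorem isQuasiSeparatedOver_fp (h𝒳 : IsAlgStack Scheme.fppfPrecoverage 𝒳)
    (h𝒴 : IsAlgStack Scheme.fppfPrecoverage 𝒴) (h𝒵 : IsAlgStack Scheme.fppfPrecoverage 𝒵)
    (a : 𝒳 ⥤ᵇ 𝒴) (b : 𝒵 ⥤ᵇ 𝒴) (hX : AlgSt.IsQuasiSeparatedOver 𝒳)
    (hY : AlgSt.IsQuasiSeparatedOver 𝒴) (hZ : AlgSt.IsQuasiSeparatedOver 𝒵) :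
    AlgSt.IsQuasiSeparatedOver (fp a b) := by
  have hb : RepByAlgSpWith (AlgSp.IsQuasiCompactMor ⊓ AlgSp.IsQuasiSeparatedMor) (diag b) := by
    refine Main.diag_of_comp (g := toSelf 𝒴) h𝒵.isStack.1 h𝒴.isStack.1 isAlgStack_selfOver.isStack.1
      Main.good_qcqs.bc Main.good_qcqs.fs Main.good_qcqs.comp ?_
      (Main2.diag_qcqs_of_qs (Rep.repByAlgSpWith_mono (Rep.cmp_of_diag b b hY) fun _ _ _ _ _ h => h.2))
    rw [eq_toSelf (BasedFunctor.comp b (toSelf 𝒴))]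
    exact hZ
  have := Main.good_qcqs.diagComp (g := toSelf 𝒳)
    (FibProd.isFibGrpd_fp h𝒳.isStack.1 h𝒵.isStack.1 h𝒴.isStack.1) h𝒳.isStack.1
    (Rep.diag_fpFst a hb) hX
  rw [eq_toSelf (BasedFunctor.comp (fpFst a b) (toSelf 𝒳))] at this
  exact this

/-- Quasi-compactness is local for surjective flat coverings of finite presentation of the target. -/
theorem isQuasiCompactMor_of_cover (h𝒳 : IsAlgStack Scheme.fppfPrecoverage 𝒳)
    (h𝒴 : IsAlgStack Scheme.fppfPrecoverage 𝒴) (h𝒵 : IsAlgStack Scheme.fppfPrecoverage 𝒵)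
    {f : 𝒳 ⥤ᵇ 𝒴} (z : 𝒵 ⥤ᵇ 𝒴) (hz₁ : RepByAlgSpWith (LocP @Flat) z)
    (hz₂ : RepByAlgSpWith (LocP @LocallyOfFinitePresentation) z)
    (hz₃ : RepByAlgSpWith AlgSp.IsSurjectiveMor z)
    (hf : AlgSt.IsQuasiCompactMor Scheme.fppfPrecoverage (fpFst z f)) :
    AlgSt.IsQuasiCompactMor Scheme.fppfPrecoverage f := by
  refine (QC.isQuasiCompactMor_iff h𝒳 h𝒴).2 fun V hV y => ?_
  obtain ⟨T, s, hs, u, ⟨α⟩⟩ := Cover.exists_lift hz₁ hz₂ hz₃ y
  have hsf : Flat s.left := hs.1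
  have hsp : LocallyOfFinitePresentation s.left := hs.2.1
  have hss : Surjective s.left := hs.2.2
  have : UniversallyOpen s.left := inferInstance
  have hcov : ∀ v : ↥V.left, ∃ O : T.left.affineOpens, v ∈ s.left '' (O.1 : Set ↥T.left) := fun v => by
    obtain ⟨t, rfl⟩ := s.left.surjective v
    obtain ⟨O, hO, ht, -⟩ := exists_isAffineOpen_mem_and_subset (U := ⊤) (Set.mem_univ t)
    exact ⟨⟨O, hO⟩, t, ht, rfl⟩
  obtain ⟨F, hF⟩ := isCompact_univ.elim_finite_subcover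
    (fun O : T.left.affineOpens ↦ s.left '' (O.1 : Set ↥T.left))
    (fun O ↦ s.left.isOpenMap _ O.1.2) (fun v _ ↦ Set.mem_iUnion.2 (hcov v))
  let O' : ↥F → T.left.Opens := fun x ↦ x.1.1
  let j := Lib.AlgSpace.opensSigmaMap O'
  have : ∀ i, IsAffine (O' i).toScheme := fun i ↦ i.1.2
  have hW : IsAffine (Lib.AlgSpace.opensSigma O').left :=
    inferInstanceAs (IsAffine (∐ fun i ↦ (O' i).toScheme))
  let σ := overMap (j ≫ s)
  have hσ : AlgSt.IsSurjective σ := by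
    have : Surjective (j ≫ s).left := ⟨fun v => by
      obtain ⟨i, hi, t, ht, rfl⟩ := Set.mem_iUnion₂.1 (hF (Set.mem_univ v))
      exact ⟨Sigma.ι (fun i ↦ (O' i).toScheme) ⟨i, hi⟩ ⟨t, ht⟩,
        congrArg s.left (Lib.AlgSpace.opensSigmaMap_apply O' ⟨i, hi⟩ ⟨t, ht⟩)⟩⟩
    exact Points.isSurjective_of_rep (Yoneda.isFibGrpd_overCat V)
      (Basic.rep_overMap_surjective (j ≫ s))
  let z' := BasedFunctor.comp (overMap j) u
  let β : BasedFunctor.comp σ y ≅ BasedFunctor.comp z' z :=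
    (eqToIso (by rw [show σ = BasedFunctor.comp (Lft.vOf j) (Lft.vOf s) from (Lft.vOf_comp j s).symm]; rfl) :
        BasedFunctor.comp σ y ≅ BasedFunctor.comp (overMap j) (BasedFunctor.comp (Lft.vOf s) y)) ≪≫
      BasedBasic.isoWhiskerLeft (overMap j) α
  have hWc := Basic.isAlgStack_overCat (Lib.AlgSpace.opensSigma O')
  have hzf := Basic.isAlgStack_fp h𝒴 h𝒵 h𝒳 z f
  have hy := Basic.isAlgStack_fp h𝒴 (Basic.isAlgStack_overCat V) h𝒳 y f
  have := (QC.isQuasiCompactMor_iff hzf h𝒵).1 hf _ hW z'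
  have := Basic.compactSpace_of_surjective
    (Basic.isAlgStack_fp h𝒴 hWc h𝒳 (BasedFunctor.comp σ y) f)
    (f := BasedFunctor.comp (Rep.pasteBase z' z f) (FibProd.congrLeft β.symm f))
    (Basic.surjective_map_of_isEquivOver (BasedBasic.IsEquivOver.comp
      (Rep.isEquivOver_pasteBase z' z f) (FibProd.isEquivOver_congrLeft β.symm f)))
  have := Basic.compactSpace_of_isEquivOver
    (Basic.isAlgStack_fp (Basic.isAlgStack_overCat V) hWc hy σ (fpFst y f))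
    (Rep.isEquivOver_pasteBase σ y f)
  exact Basic.compactSpace_of_surjective hy
    (Basic.surjective_fpSnd hy.isStack.1 (Yoneda.isFibGrpd_overCat V) hWc.isStack.1 (fpFst y f) hσ)

end Groth.Agent.H14.Chart.QC2
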