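import Groth.Agent.H14.Chart.Points
import Groth.Agent.Lib.AlgStack.RepOver
import Groth.Agent.Lib.AlgStack.SpMapProp
import Groth.Agent.Lib.AlgStack.Descend
import Groth.Agent.H14.Sep.Main2

/-!
Elementary charts and functorial properties of the space of points of a category fibred in groupoids.
-/

set_option autoImplicit false
set_option backward.isDefEq.respectTransparency false
set_option backward.isDefEq.respectTransparency.types false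

universe u

open CategoryTheory CategoryTheory.Limits AlgebraicGeometry

namespace Groth.Agent.H14.Chart.Basic

open Groth.Agent.Lib.AlgStack
open Groth.Agent.H14.Sep
open Groth.Agent.Lib.AlgStack.FibProd (fpMap congrLeft congrRight swap)
open FibCat (IsEquivOver fp fpFst fpSnd fpLift fpIso overCat IsFibGrpd toSelf)
open AlgSt (ofSp ofSpMap ofOverCat toOverCat spMapOfOver overMap RepByAlgSp1 RepByAlgSpWith IsAlgStack)
open AlgSp (Sp yon IsAlgSpace LocP RepWith)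
open Groth.Agent.Lib.SourceDescent.Scheme (EtaleLocalST)

variable {S : Scheme.{u}}

/-! ### Charts -/

/-- The functor of slices of a morphism of schemes has the properties of the morphism. -/
theorem rep_overMap {U V : Over S} (h : U ⟶ V) {P : MorphismProperty (Sp S)}
    (hP : ∀ ⦃X₁ Y₁ X₂ Y₂ : Sp S⦄, IsAlgSpace X₁ → IsAlgSpace Y₁ → IsAlgSpace X₂ →
      IsAlgSpace Y₂ → ∀ (a : X₁ ⟶ Y₁) (b : Y₂ ⟶ Y₁) (a' : X₂ ⟶ Y₂) (b' : X₂ ⟶ X₁),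
      IsPullback b' a' a b → P a → P a') (hh : P ((yon S).map h)) :
    RepByAlgSpWith P (overMap h) :=
  (Rep.repByAlgSpWith_iff_of_isEquivOver (f := overMap h) (f' := ofSpMap ((yon S).map h))
    (Rep.isEquivOver_toOverCat U) (Rep.isEquivOver_toOverCat V) (eqToIso rfl)).2
    (Descend.repByAlgSpWith_ofSpMap hP (IsAlgSpace.yon_obj U) (IsAlgSpace.yon_obj V) hh)

theorem rep_overMap_locP {U V : Over S} (h : U ⟶ V) {W : MorphismProperty Scheme.{u}}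
    (hW : EtaleLocalST W) (hh : W h.left) : RepByAlgSpWith (LocP W) (overMap h) := by
  have := hW.baseChange
  exact rep_overMap h (fun _ _ _ _ hX₁ hY₁ _ hY₂ _ _ _ _ sq ha =>
      Lib.AlgSpMor.LocP.locP_of_isPullback hW hX₁ hY₁ hY₂ sq ha)
    (Lib.AlgSpMor.LocP.locP_of_repWith hW ((AlgSp.repWith_yon_map_iff _ _).2 hh))

theorem rep_overMap_surjective {U V : Over S} (h : U ⟶ V) [Surjective h.left] :
    RepByAlgSpWith AlgSp.IsSurjectiveMor (overMap h) :=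
  rep_overMap h (fun _ _ _ _ _ _ _ _ _ _ _ _ sq ha => Lib.AlgSpMor.QC.surjective_of_isPullback sq ha)
    (Lib.AlgSpace.surjective_map ((AlgSp.repWith_yon_map_iff _ _).2 ‹Surjective h.left›))

theorem isAlgStack_overCat (V : Over S) : IsAlgStack Scheme.fppfPrecoverage (overCat V) :=
  IsAlg.isAlgStack_of_isEquivOver (Rep.isEquivOver_toOverCat V)
    (IsAlg.isAlgStack_ofSp ((AlgSp.ofScheme S).obj V))

/-! ### Points -/

variable {𝒳 𝒴 𝒵 : AlgSt.Cat S}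

theorem map_id (p : AlgSt.Points 𝒳) : AlgSt.Points.map (BasedFunctor.id 𝒳) p = p := by
  obtain ⟨p, rfl⟩ := AlgSt.Points.mk_surjective p
  rfl

theorem map_comp (f : 𝒳 ⥤ᵇ 𝒴) (g : 𝒴 ⥤ᵇ 𝒵) (p : AlgSt.Points 𝒳) :
    AlgSt.Points.map (BasedFunctor.comp f g) p = AlgSt.Points.map g (AlgSt.Points.map f p) := by
  obtain ⟨p, rfl⟩ := AlgSt.Points.mk_surjective p
  rfl

theorem map_iso {f g : 𝒳 ⥤ᵇ 𝒴} (e : f ≅ g) (p : AlgSt.Points 𝒳) :
    AlgSt.Points.map f p = AlgSt.Points.map g p := by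
  obtain ⟨p, rfl⟩ := AlgSt.Points.mk_surjective p
  exact AlgSt.Points.sound ⟨p.map f, 𝟙 _, (BasedBasic.appIso e p.obj).hom, trivial⟩

theorem continuous_map (h𝒴 : IsAlgStack Scheme.fppfPrecoverage 𝒴) (f : 𝒳 ⥤ᵇ 𝒴) :
    Continuous (AlgSt.Points.map f) :=
  ⟨fun _ hW _ x _ => hW.preimage (Points.continuous_ofChart h𝒴 (BasedFunctor.comp x f))⟩

theorem surjective_map_of_isEquivOver {E : 𝒳 ⥤ᵇ 𝒴} (hE : IsEquivOver E) : AlgSt.IsSurjective E := by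
  obtain ⟨i, -, -, ⟨ε⟩⟩ := BasedBasic.IsEquivOver.exists_inverse hE
  exact fun q => ⟨AlgSt.Points.map i q, by rw [← map_comp, map_iso ε, map_id]⟩

theorem exists_map_inverse {E : 𝒳 ⥤ᵇ 𝒴} (hE : IsEquivOver E) :
    ∃ i : 𝒴 ⥤ᵇ 𝒳, AlgSt.IsSurjective i := by
  obtain ⟨i, hi, -, -⟩ := BasedBasic.IsEquivOver.exists_inverse hE
  exact ⟨i, surjective_map_of_isEquivOver hi⟩

theorem compactSpace_of_surjective (h𝒴 : IsAlgStack Scheme.fppfPrecoverage 𝒴) {f : 𝒳 ⥤ᵇ 𝒴}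
    (hf : AlgSt.IsSurjective f) [CompactSpace (AlgSt.Points 𝒳)] : CompactSpace (AlgSt.Points 𝒴) := by
  refine ⟨?_⟩
  rw [← Set.image_univ_of_surjective hf]
  exact isCompact_univ.image (continuous_map h𝒴 f)

theorem compactSpace_of_isEquivOver (h𝒳 : IsAlgStack Scheme.fppfPrecoverage 𝒳) {E : 𝒳 ⥤ᵇ 𝒴}
    (hE : IsEquivOver E) [CompactSpace (AlgSt.Points 𝒴)] : CompactSpace (AlgSt.Points 𝒳) := by
  obtain ⟨i, hi⟩ := exists_map_inverse hE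
  exact compactSpace_of_surjective h𝒳 hi

/-- Points of a 2-fibre product map onto pairs of points with the same image. -/
theorem exists_points_fp (h𝒳 : IsFibGrpd 𝒳.p) (h𝒴 : IsFibGrpd 𝒴.p) (h𝒵 : IsFibGrpd 𝒵.p)
    {g : 𝒵 ⥤ᵇ 𝒴} {f : 𝒳 ⥤ᵇ 𝒴} {p : AlgSt.Points 𝒵} {q : AlgSt.Points 𝒳}
    (h : AlgSt.Points.map g p = AlgSt.Points.map f q) :
    ∃ r : AlgSt.Points (fp g f),
      AlgSt.Points.map (fpFst g f) r = p ∧ AlgSt.Points.map (fpSnd g f) r = q := by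
  obtain ⟨U, z, u, rfl⟩ := Points.exists_ofChart_eq h𝒵 p
  obtain ⟨V, x, v, rfl⟩ := Points.exists_ofChart_eq h𝒳 q
  obtain ⟨W, a, b, w, rfl, rfl, ⟨β⟩⟩ := Points.exists_of_ofChart_eq h𝒴 (x := BasedFunctor.comp z g)
    (y := BasedFunctor.comp x f) h
  exact ⟨AlgSt.Points.ofChart (fpLift (BasedFunctor.comp (overMap a) z)
    (BasedFunctor.comp (overMap b) x) β) w, Points.ofChart_overMap a z w, Points.ofChart_overMap b x w⟩

theorem surjective_fpFst (h𝒳 : IsFibGrpd 𝒳.p) (h𝒴 : IsFibGrpd 𝒴.p) (h𝒵 : IsFibGrpd 𝒵.p)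
    (g : 𝒵 ⥤ᵇ 𝒴) {f : 𝒳 ⥤ᵇ 𝒴} (hf : AlgSt.IsSurjective f) : AlgSt.IsSurjective (fpFst g f) :=
  fun p => by
    obtain ⟨q, hq⟩ := hf (AlgSt.Points.map g p)
    obtain ⟨r, hr, -⟩ := exists_points_fp h𝒳 h𝒴 h𝒵 hq.symm
    exact ⟨r, hr⟩

theorem surjective_fpSnd (h𝒳 : IsFibGrpd 𝒳.p) (h𝒴 : IsFibGrpd 𝒴.p) (h𝒵 : IsFibGrpd 𝒵.p)
    {g : 𝒵 ⥤ᵇ 𝒴} (f : 𝒳 ⥤ᵇ 𝒴) (hg : AlgSt.IsSurjective g) : AlgSt.IsSurjective (fpSnd g f) :=
  fun q => by
    obtain ⟨p, hp⟩ := hg (AlgSt.Points.map f q)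
    obtain ⟨r, -, hr⟩ := exists_points_fp h𝒳 h𝒴 h𝒵 hp
    exact ⟨r, hr⟩

theorem isAlgStack_fp (h𝒴 : IsAlgStack Scheme.fppfPrecoverage 𝒴)
    (h𝒵 : IsAlgStack Scheme.fppfPrecoverage 𝒵) (h𝒳 : IsAlgStack Scheme.fppfPrecoverage 𝒳)
    (g : 𝒵 ⥤ᵇ 𝒴) (f : 𝒳 ⥤ᵇ 𝒴) : IsAlgStack Scheme.fppfPrecoverage (fp g f) :=
  IsAlgFp.isAlgStack_fp h𝒴.isStack h𝒴.diag h𝒵 h𝒳 g f

end Groth.Agent.H14.Chart.Basic
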