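import Groth.Agent.H14.Chart.SmRing
import Groth.Agent.Lib.SourceDescent.Scheme

/-!
Descent of finiteness conditions of morphisms of schemes along smooth surjections on the source.
-/

set_option autoImplicit false

universe u

open CategoryTheory CategoryTheory.Limits AlgebraicGeometry MorphismProperty

namespace Groth.Agent.H14.Chart.SmScheme

/-- `Q` can be checked after composing with a faithfully flat standard smooth ring map. -/
def SmSourceDescent (Q : ∀ {R S : Type u} [CommRing R] [CommRing S], (R →+* S) → Prop) : Prop :=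
  ∀ ⦃R S T : Type u⦄ [CommRing R] [CommRing S] [CommRing T] (f : R →+* S) (g : S →+* T),
    g.FaithfullyFlat → g.IsStandardSmooth → Q (g.comp f) → Q f

theorem of_comp_smooth_surjective {P : MorphismProperty Scheme.{u}}
    {Q : ∀ {R S : Type u} [CommRing R] [CommRing S], (R →+* S) → Prop}
    [HasRingHomProperty P Q] (hQs : RingHom.StableUnderCompositionWithLocalizationAwaySource Q)
    (hQ : SmSourceDescent.{u} Q)
    {X X' Y : Scheme.{u}} (e : X' ⟶ X) (f : X ⟶ Y) [Smooth e] [Surjective e] (h : P (e ≫ f)) :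
    P f := by
  rw [HasRingHomProperty.iff_exists_appLE (P := P) hQs]
  intro x
  obtain ⟨x', rfl⟩ := e.surjective x
  obtain ⟨U, hU, hxU, -⟩ := exists_isAffineOpen_mem_and_subset (X := Y) (x := f (e x')) (U := ⊤)
    (Set.mem_univ _)
  obtain ⟨V₂, hV₂, W₂, hW₂, hx', he₂, hstd₂⟩ := Smooth.exists_isStandardSmooth e x'
  obtain ⟨V, W, hVU, -, hxW, heW, hstd⟩ := exists_affineOpens_le_appLE_of_appLE (f := e) (P := fun g ↦ g.IsStandardSmooth)
    RingHom.isStandardSmooth_stableUnderCompositionWithLocalizationAway.right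
    RingHom.isStandardSmooth_localizationPreserves.away x' (f ⁻¹ᵁ U) ⟨V₂, hV₂⟩ ⊤ ⟨W₂, hW₂⟩
    (Set.mem_univ _) hx' he₂ hstd₂ hxU
  have hexW : e x' ∈ (V : X.Opens) := heW hxW
  obtain ⟨b, hb, hxb⟩ := V.2.exists_basicOpen_le
    (V := ⟨_, e.isOpenMap _ (W : X'.Opens).2⟩) ⟨e x', x', hxW, rfl⟩ hexW
  let b' := e.appLE V W heW b
  have hb' : X'.basicOpen b' = (W : X'.Opens) ⊓ e ⁻¹ᵁ X.basicOpen b := by
    simp [b', Scheme.Hom.appLE, Scheme.preimage_basicOpen]
  have heb : X'.basicOpen b' ≤ e ⁻¹ᵁ X.basicOpen b := by rw [hb']; exact inf_le_right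
  have hDaff : IsAffineOpen (X.basicOpen b) := V.2.basicOpen b
  have hWaff : IsAffineOpen (X'.basicOpen b') := W.2.basicOpen b'
  have hDU : X.basicOpen b ≤ f ⁻¹ᵁ U := (X.basicOpen_le b).trans hVU
  refine ⟨⟨U, hU⟩, ⟨X.basicOpen b, hDaff⟩, hxb, hDU, ?_⟩
  have : IsAffine (X.basicOpen b : Scheme.{u}) := hDaff
  have : IsAffine (X'.basicOpen b' : Scheme.{u}) := hWaff
  have : IsAffine (U : Scheme.{u}) := hU
  have hstd' : (e.appLE (X.basicOpen b) (X'.basicOpen b') heb).hom.IsStandardSmooth := by
    have := V.2.isLocalization_basicOpen b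
    have := W.2.isLocalization_basicOpen b'
    rw [V.2.appLE_eq_away_map e W.2]
    exact RingHom.isStandardSmooth_localizationPreserves.away _ _ _ _ hstd
  let t := e.resLE (X.basicOpen b) (X'.basicOpen b') heb
  have hts : Surjective t := ⟨fun d ↦ by
    obtain ⟨w, hw, hwd⟩ : d.1 ∈ e '' ((W : X'.Opens) : Set X') := hb d.2
    have hwb : w ∈ X'.basicOpen b' := by
      rw [hb']; exact ⟨hw, show e w ∈ X.basicOpen b from hwd ▸ d.2⟩
    exact ⟨⟨w, hwb⟩, Subtype.ext ((show (t ≫ (X.basicOpen b).ι) ⟨w, hwb⟩ = e w by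
      rw [Scheme.Hom.resLE_comp_ι]; rfl).trans hwd)⟩⟩
  have htsm : Smooth t := inferInstance
  have hPe : P (t ≫ f.resLE U (X.basicOpen b) hDU) := by
    rw [Scheme.Hom.resLE_comp_resLE, HasRingHomProperty.iff_of_isAffine (P := P)]
    have hiso := (HasRingHomProperty.isLocal_ringHomProperty P).respectsIso
    rw [Scheme.Hom.appTop, Scheme.Hom.resLE_app_top, CommRingCat.hom_comp, hiso.cancel_left_isIso,
      CommRingCat.hom_comp, hiso.cancel_right_isIso]
    exact HasRingHomProperty.appLE P _ h ⟨U, hU⟩ ⟨_, hWaff⟩ _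
  have hiso := (HasRingHomProperty.isLocal_ringHomProperty P).respectsIso
  suffices hq : Q (f.resLE U (X.basicOpen b) hDU).appTop.hom by
    rwa [Scheme.Hom.appTop, Scheme.Hom.resLE_app_top, CommRingCat.hom_comp, hiso.cancel_left_isIso,
      CommRingCat.hom_comp, hiso.cancel_right_isIso] at hq
  rw [HasRingHomProperty.iff_of_isAffine (P := P)] at hPe
  rw [Scheme.Hom.comp_appTop, CommRingCat.hom_comp] at hPe
  refine hQ _ t.appTop.hom ?_ ?_ hPe
  · exact (Flat.flat_and_surjective_iff_faithfullyFlat_of_isAffine (f := t)).mp ⟨inferInstance, hts⟩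
  · have hiso := RingHom.isStandardSmooth_respectsIso
    rw [Scheme.Hom.appTop, Scheme.Hom.resLE_app_top, CommRingCat.hom_comp, hiso.cancel_left_isIso,
      CommRingCat.hom_comp, hiso.cancel_right_isIso]
    exact hstd'

theorem finiteType_ssd : SmSourceDescent.{u} (fun f ↦ f.FiniteType) := by
  intro R S T _ _ _ f g hg hg' h
  algebraize [f, g, g.comp f]
  exact SmRing.finiteType_of_comp R S T

theorem finitePresentation_ssd : SmSourceDescent.{u} (fun f ↦ f.FinitePresentation) := by
  intro R S T _ _ _ f g hg hg' h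
  algebraize [f, g, g.comp f]
  exact SmRing.finitePresentation_of_comp R S T

theorem locallyOfFiniteType_of_comp {X X' Y : Scheme.{u}} (e : X' ⟶ X) (f : X ⟶ Y) [Smooth e]
    [Surjective e] (h : LocallyOfFiniteType (e ≫ f)) : LocallyOfFiniteType f :=
  of_comp_smooth_surjective (P := @LocallyOfFiniteType)
    (RingHom.finiteType_stableUnderComposition.stableUnderCompositionWithLocalizationAway
      RingHom.finiteType_holdsForLocalizationAway).left finiteType_ssd e f h

theorem locallyOfFinitePresentation_of_comp {X X' Y : Scheme.{u}} (e : X' ⟶ X) (f : X ⟶ Y)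
    [Smooth e] [Surjective e] (h : LocallyOfFinitePresentation (e ≫ f)) :
    LocallyOfFinitePresentation f :=
  of_comp_smooth_surjective (P := @LocallyOfFinitePresentation)
    (RingHom.finitePresentation_stableUnderComposition.stableUnderCompositionWithLocalizationAway
      RingHom.finitePresentation_holdsForLocalizationAway).left finitePresentation_ssd e f h

end Groth.Agent.H14.Chart.SmScheme
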