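import Groth.Prelude.Def_AlgSpCov
import Groth.Agent.H14.Chart.SmScheme
import Groth.Agent.H14.Sep.SpProps
import Groth.Agent.Lib.Flat55.FlatDescend

/-!
Properties of morphisms of algebraic spaces that are smooth local on the source-and-target.
-/

set_option autoImplicit false
set_option backward.isDefEq.respectTransparency false
set_option backward.isDefEq.respectTransparency.types false

universe u

open CategoryTheory CategoryTheory.Limits AlgebraicGeometry

namespace Groth.Agent.H14.Chart.SmLocal

open Groth.Agent.Lib.SourceDescent.Scheme (EtaleLocalST)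
open Groth.Agent.Lib.AlgSpMor.LocP (locP_comp locP_of_isPullback exists_chart locP_of_chart locP_of_repWith)
open AlgSp (Sp yon IsAlgSpace LocP RepWith)

variable {S : Scheme.{u}}

theorem locP_mono {W W' : MorphismProperty Scheme.{u}} (h : W ≤ W') {X Y : Sp S} {f : X ⟶ Y}
    (hf : LocP W f) : LocP W' f := fun _ _ a b k ha hb w => h _ (hf a b k ha hb w)

theorem locP_id {W : MorphismProperty Scheme.{u}} (hW : EtaleLocalST W) {X : Sp S}
    (hX : IsAlgSpace X) : LocP W (𝟙 X) := by
  obtain ⟨U, p, hp, hps⟩ := hX.atlas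
  exact locP_of_chart hW hX.diag hX.diag hp hps hp (h := 𝟙 U)
    (by rw [Category.comp_id, CategoryTheory.Functor.map_id, Category.id_comp])
    (hW.etale _ inferInstance)

/-- A property of morphisms of schemes preserved and reflected by smooth coverings of the source gives
a property of morphisms of spaces that is smooth local on the source-and-target. -/
theorem isSmoothLocalST_locP {W : MorphismProperty Scheme.{u}} [IsZariskiLocalAtSource W]
    (hW : EtaleLocalST W) (hsm : (@Smooth : MorphismProperty Scheme.{u}) ≤ W)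
    (hdesc : ∀ {X X' Y : Scheme.{u}} (e : X' ⟶ X) (f : X ⟶ Y), Smooth e → Surjective e →
      W (e ≫ f) → W f) :
    AlgSp.IsSmoothLocalST (LocP W : MorphismProperty (Sp S)) where
  precomp _ _ _ hX hY hZ f g hf hg := locP_comp hW hX hY hZ (locP_mono hsm hf) hg
  baseChange _ _ _ _ hX hY _ hY' f g f' g' sq _ hf := locP_of_isPullback hW hX hY hY' sq hf
  locality X Y hX hY f := by
    have hS := Groth.Agent.Lib.SourceDescent.Scheme.smooth.{u}
    refine ⟨fun hf x => ⟨X, Y, 𝟙 X, 𝟙 Y, f, x, hX, hY, locP_id hS hX, locP_id hS hY, by simp, ?_, hf⟩,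
      fun H => ?_⟩
    · obtain ⟨T, g, t, rfl⟩ := Lib.AlgSpace.exists_ofPt_eq x
      rw [AlgSp.Points.map_ofPt, Category.comp_id]
    obtain ⟨U, V, aU, bV, hh, haU, haUs, hbV, -, w⟩ := exists_chart hX hY f
    refine locP_of_chart hW hX.diag hY.diag haU haUs hbV w ?_
    have key : ∀ u : ↥U.left, ∃ (T : Over S) (k : T ⟶ U) (t : ↥T.left), k.left t = u ∧ Smooth k.left ∧
        W (k.left ≫ hh.left) := fun u => by
      obtain ⟨U', V', a, b, h, v, hU', hV', ha, hb, e, hv, hh'⟩ := H (AlgSp.Points.ofPt aU u)
      have sq := IsPullback.of_hasPullback a aU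
      have hP : IsAlgSpace (pullback a aU) :=
        Lib.AlgSpace.isAlgSpace_of_isPullback sq hX.diag hU' (IsAlgSpace.yon_obj U)
      obtain ⟨T, p, hp, hps⟩ := hP.atlas
      obtain ⟨k, hk⟩ := (yon S).map_surjective (p ≫ pullback.snd a aU)
      obtain ⟨z, -, hz⟩ := Lib.AlgSpace.exists_of_isPullback sq v
        (AlgSp.Points.ofScheme U u) (by rw [hv, AlgSp.Points.ofPt_eq_map_ofScheme])
      obtain ⟨t, rfl⟩ := Lib.AlgSpace.surjective_ofPt hps z
      have hkp : LocP @Smooth (pullback.snd a aU) :=
        locP_of_isPullback hS hU' hX (IsAlgSpace.yon_obj U) sq ha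
      refine ⟨T, k, t, ?_, hkp p (𝟙 _) k hp (AlgSp.repWith_id _ _) (by rw [Category.comp_id, hk]), ?_⟩
      · rw [AlgSp.Points.map_ofPt, ← hk] at hz
        refine (AlgSp.Points.schemeHomeo U).injective (Eq.trans ?_ hz)
        rw [← AlgSp.Points.map_yon_map_apply, AlgSp.Points.ofPt_eq_map_ofScheme]
        rfl
      · have h1 : LocP W (a ≫ f) :=
          e ▸ locP_comp hW hU' hV' hY hh' (locP_mono hsm hb)
        have h2 : LocP W (p ≫ pullback.fst a aU) :=
          locP_comp hW (IsAlgSpace.yon_obj T) hP hU' (locP_of_repWith hW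
            (Lib.AlgSpace.repWith_mono hp fun _ _ g hg => hW.etale g hg))
            (locP_of_isPullback hW (IsAlgSpace.yon_obj U) hX hU' sq.flip
              (locP_of_repWith hW (Lib.AlgSpace.repWith_mono haU fun _ _ g hg => hW.etale g hg)))
        have h3 := locP_comp hW (IsAlgSpace.yon_obj T) hU' hY h2 h1
        refine h3 (𝟙 _) bV (k ≫ hh) (AlgSp.repWith_id _ _) hbV ?_
        rw [Category.id_comp, Category.assoc, reassoc_of% sq.w, w, Functor.map_comp, hk,
          Category.assoc, Category.assoc]
    choose T k t ht hsmk hWk using key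
    let e : (∐ fun u => (T u).left) ⟶ U.left := Sigma.desc fun u => (k u).left
    have h1 : Smooth e := IsZariskiLocalAtSource.sigmaDesc (P := @Smooth) hsmk
    have h2 : Surjective e := ⟨fun u => ⟨Sigma.ι (fun u => (T u).left) u (t u), by
      rw [← Scheme.Hom.comp_apply, Sigma.ι_desc]; exact ht u⟩⟩
    refine hdesc e hh.left h1 h2 ?_
    have : e ≫ hh.left = Sigma.desc fun u => (k u).left ≫ hh.left :=
      Sigma.hom_ext _ _ fun u => by simp [e]
    rw [this]
    exact IsZariskiLocalAtSource.sigmaDesc (P := W) hWk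

theorem isSmoothLocalST_lft :
    AlgSp.IsSmoothLocalST (LocP @LocallyOfFiniteType : MorphismProperty (Sp S)) :=
  isSmoothLocalST_locP Groth.Agent.Lib.SourceDescent.Scheme.locallyOfFiniteType
    (fun _ _ g (_ : Smooth g) => inferInstanceAs (LocallyOfFiniteType g))
    fun e f _ _ h => SmScheme.locallyOfFiniteType_of_comp e f h

theorem isSmoothLocalST_lfp :
    AlgSp.IsSmoothLocalST (LocP @LocallyOfFinitePresentation : MorphismProperty (Sp S)) :=
  isSmoothLocalST_locP Groth.Agent.Lib.SourceDescent.Scheme.locallyOfFinitePresentation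
    (fun _ _ g (_ : Smooth g) => inferInstanceAs (LocallyOfFinitePresentation g))
    fun e f _ _ h => SmScheme.locallyOfFinitePresentation_of_comp e f h

theorem isSmoothLocalST_flat :
    AlgSp.IsSmoothLocalST (LocP @Flat : MorphismProperty (Sp S)) :=
  isSmoothLocalST_locP Groth.Agent.Lib.SourceDescent.Scheme.flat
    (fun _ _ g (_ : Smooth g) => inferInstanceAs (Flat g))
    fun e f _ _ h => have : Flat (e ≫ f) := h; Groth.Agent.Lib.Flat55.FlatDescend.flat_of_comp e f

end Groth.Agent.H14.Chart.SmLocal
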