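import Groth.Agent.H14.Chart.LocQ2
import Groth.Agent.H14.Chart.SmLocal
import Groth.Agent.H14.FppfDesc.Scheme

/-!
Cancellation of fppf coverings of the source for morphisms of algebraic stacks.
-/

set_option autoImplicit false
set_option backward.isDefEq.respectTransparency false
set_option backward.isDefEq.respectTransparency.types false

universe u

open CategoryTheory CategoryTheory.Limits AlgebraicGeometry

namespace Groth.Agent.H14.Chart.LocQ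

open Groth.Agent.Lib.AlgStack
open Groth.Agent.H14.Sep
open FibCat (IsEquivOver fp fpFst fpSnd fpLift fpIso overCat IsFibGrpd toSelf)
open AlgSt (ofSp ofSpMap ofOverCat toOverCat spMapOfOver overMap RepByAlgSp1 RepByAlgSpWith IsAlgStack)
open AlgSp (Sp yon IsAlgSpace LocP RepWith IsSurjectiveMor)
open Groth.Agent.Lib.SourceDescent.Scheme (EtaleLocalST)

variable {S : Scheme.{u}} {𝒳 𝒴 𝒵 : AlgSt.Cat S}

theorem locQ_of_fppf_source {W : MorphismProperty Scheme.{u}}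
    (hW : AlgSp.IsSmoothLocalST (LocP W : MorphismProperty (Sp S))) (hWe : EtaleLocalST W)
    (hd : ∀ {X X' Y : Scheme.{u}} (e : X' ⟶ X) (f : X ⟶ Y), Flat e → LocallyOfFinitePresentation e →
      Surjective e → W (e ≫ f) → W f)
    (h𝒳 : IsAlgStack Scheme.fppfPrecoverage 𝒳) (h𝒴 : IsAlgStack Scheme.fppfPrecoverage 𝒴)
    (h𝒵 : IsAlgStack Scheme.fppfPrecoverage 𝒵) {f : 𝒳 ⥤ᵇ 𝒴} {g : 𝒴 ⥤ᵇ 𝒵}
    (hf₁ : AlgSt.LocQ (LocP @Flat) f) (hf₂ : AlgSt.LocQ (LocP @LocallyOfFinitePresentation) f)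
    (hs : AlgSt.IsSurjective f) (hfg : AlgSt.LocQ (LocP W) (BasedFunctor.comp f g)) :
    AlgSt.LocQ (LocP W) g := by
  obtain ⟨U, V, W', y, z, a, b, c, kf, kg, hy, hz, ha, hb, hc, ⟨ιf⟩, ⟨ιg⟩, ⟨δ⟩⟩ :=
    exists_comp_squares h𝒳 h𝒴 h𝒵 f g
  have hfy := FibProd.isFibGrpd_fp (F := f) (G := y) h𝒳.isStack.1 (Yoneda.isFibGrpd_overCat V)
    h𝒴.isStack.1
  have hk : Surjective kf.left := surjective_of_iso_overMap
    (surjective_comp (Points.isSurjective_of_rep hfy ha.2)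
      (Basic.surjective_fpSnd (Yoneda.isFibGrpd_overCat V) h𝒴.isStack.1 h𝒳.isStack.1 y hs)) ιf
  have h1 : Flat kf.left :=
    AlgSp.locP_yon_map (prop_of_locQ SmLocal.isSmoothLocalST_flat h𝒳 h𝒴 hf₁ (Or.inl hy.1) ha.1 ιf)
  have h2 : LocallyOfFinitePresentation kf.left :=
    AlgSp.locP_yon_map (prop_of_locQ SmLocal.isSmoothLocalST_lfp h𝒳 h𝒴 hf₂ (Or.inl hy.1) ha.1 ιf)
  have h3 : W (kf ≫ kg).left :=
    AlgSp.locP_yon_map (prop_of_locQ hW h𝒳 h𝒵 hfg (Or.inl hz.1) hc.1 δ)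
  have := hWe.baseChange
  exact locQ_of_square h𝒴 h𝒵 hz.1 hz.2 hb.1 hb.2 ιg
    (Lib.AlgSpMor.LocP.locP_of_repWith hWe
      ((AlgSp.repWith_yon_map_iff _ _).2 (hd kf.left kg.left h1 h2 hk h3)))

end Groth.Agent.H14.Chart.LocQ
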