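import Groth.Agent.Lib.AlgStack.SetoidalApps
import Groth.Agent.Lib.AlgSpMor.RepDescent
import Groth.Agent.H14.Sep.Cover
import Groth.Agent.H14.Sep.SpProps2

/-!
Immersions descend along fppf covers; trivial kernels and representability.
-/

set_option autoImplicit false
set_option backward.isDefEq.respectTransparency false
set_option backward.isDefEq.respectTransparency.types false

universe u

open CategoryTheory CategoryTheory.Limits AlgebraicGeometry

namespace Groth.Agent.H14.Chart.ImmDescent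

open Groth.Agent.Lib.AlgStack
open Groth.Agent.H14.Sep
open Groth.Agent.Lib.AlgSpace (fppfCover)
open FibCat (IsEquivOver fp fpFst fpSnd fpLift fpIso diag overCat IsFibGrpd toSelf)
open AlgSt (ofSp ofSpMap RepByAlgSp RepByAlgSp1 RepByAlgSpWith IsAlgStack)
open AlgSp (Sp yon IsAlgSpace LocP RepWith)

variable {S : Scheme.{u}}

theorem exists_cover_data {T'' T' T : Over S} (ξ : (yon S).obj T'' ⟶ (yon S).obj T) {s : T' ⟶ T}
    (hs : Cover.Fppf s) : ∃ (T₁ : Over S) (t : T₁ ⟶ T'') (v : T₁ ⟶ T'),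
      IsPullback ((yon S).map t) ((yon S).map v) ξ ((yon S).map s) ∧ fppfCover t.left := by
  obtain ⟨T₁, t, v, sqT⟩ :=
    Lib.AlgSpace.exists_isPullback_yon (IsAlgSpace.yon_obj T).diag ξ ((yon S).map s)
  refine ⟨T₁, t, v, sqT, ?_⟩
  have h1 : Flat t.left := Lib.AlgSpace.repWith_property
    ((AlgSp.repWith_yon_map_iff (@Flat) s).2 hs.1) sqT.flip
  have h2 : LocallyOfFinitePresentation t.left := Lib.AlgSpace.repWith_property
    ((AlgSp.repWith_yon_map_iff (@LocallyOfFinitePresentation) s).2 hs.2.1) sqT.flip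
  have h3 : Surjective t.left := Lib.AlgSpace.repWith_property hs.surj sqT.flip
  exact Lib.AlgSpace.fppfCover_mk t.left

/-- Representability with a property with effective descent descends along fppf covers of schemes. -/
theorem descends_repWith (P : MorphismProperty Scheme.{u}) [P.IsStableUnderBaseChange]
    [P.IsLocalAtTarget Scheme.fppfPrecoverage]
    (heff : ∀ ⦃A B : Scheme.{u}⦄ (p : A ⟶ B), fppfCover p → ∀ D : Desc.SchDD p, P D.obj.hom →
      ∃ (U : Over B) (q : D.obj.left ⟶ U.left), Lib.FFDesc.IsDescended D U q) :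
    Cover.Descends (RepWith P : MorphismProperty (Sp S)) := fun G T' T γ s _ hs h => by
  refine Lib.AlgSpace.repWith_of_exists fun T'' ξ => ?_
  obtain ⟨T₁, t, v, sqT, hcov⟩ := exists_cover_data ξ hs
  obtain ⟨V', g, c, sqV, hg⟩ := Lib.AlgSpace.repWith_exists h ((yon S).map v)
  have sq2 := sqV.paste_horiz (IsPullback.of_hasPullback γ ((yon S).map s))
  rw [← sqT.w] at sq2
  obtain ⟨W, w, fst', k, sqW, sqk⟩ := Lib.AlgSpMor.RepDescent.exists_pullback_of_cover hcov sq2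
    (fun D hD ↦ heff t.left hcov D (by rw [hD]; exact hg))
  exact ⟨W, w, fst', sqW, Lib.AlgSpMor.RepDescent.property_of_cover P sqk hcov hg⟩

theorem descends_openImm : Cover.Descends (RepWith @IsOpenImmersion : MorphismProperty (Sp S)) := by
  have : MorphismProperty.IsLocalAtTarget @IsOpenImmersion.{u} Scheme.fppfPrecoverage :=
    Lib.AlgSpace.isLocalAtTarget_fppf _
  exact descends_repWith _ Lib.AlgSpMor.RepDescent.effective_isOpenImmersion

theorem descends_closedImm : Cover.Descends (RepWith @IsClosedImmersion : MorphismProperty (Sp S)) := by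
  have := Lib.AlgSpMor.Sep.isLocalAtTarget_fppf_isClosedImmersion.{u}
  exact descends_repWith _ Lib.AlgSpMor.RepDescent.effective_isClosedImmersion

theorem descends_imm : Cover.Descends (RepWith @IsImmersion : MorphismProperty (Sp S)) :=
  fun G T' T γ s _ hs h => by
  refine Lib.AlgSpace.repWith_of_exists fun T'' ξ => ?_
  obtain ⟨T₁, t, v, sqT, hcov⟩ := exists_cover_data ξ hs
  obtain ⟨V', g, c, sqV, hg⟩ := Lib.AlgSpace.repWith_exists h ((yon S).map v)
  have sq2 := sqV.paste_horiz (IsPullback.of_hasPullback γ ((yon S).map s))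
  rw [← sqT.w] at sq2
  haveI : IsImmersion g.left := hg
  obtain ⟨W, w, fst, sqW, hw⟩ := Lib.AlgSpMor.RepDescent.exists_pullback_of_cover_immersion hcov sq2
  exact ⟨W, w, fst, sqW, hw⟩

variable {𝒳 𝒴 : AlgSt.Cat S}

/-- A property descending along fppf covers is checked on one fppf chart by an algebraic space. -/
theorem iff_of_spaceCover {P : MorphismProperty (Sp S)} (hb : SpProps.StableBC P)
    (hd : CompRep.Detected P) (hfs : SpProps.FromSchemes P) (hdesc : Cover.Descends P)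
    (h𝒳 : IsAlgStack Scheme.fppfPrecoverage 𝒳) (h𝒴 : IsAlgStack Scheme.fppfPrecoverage 𝒴)
    (f : 𝒳 ⥤ᵇ 𝒴) (W : AlgSp.Space S) (w : ofSp W.obj ⥤ᵇ 𝒴)
    (hw₁ : RepByAlgSpWith (LocP @Flat) w) (hw₂ : RepByAlgSpWith (LocP @LocallyOfFinitePresentation) w)
    (hw₃ : RepByAlgSpWith AlgSp.IsSurjectiveMor w) :
    RepByAlgSpWith P f ↔ ∃ (V : AlgSp.Space S) (a : V ⟶ W) (e : ofSp V.obj ⥤ᵇ fp w f),
      IsEquivOver e ∧ Nonempty (BasedFunctor.comp e (fpFst w f) ≅ AlgSt.ofSpMap a.hom) ∧ P a.hom := by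
  constructor
  · intro h
    obtain ⟨G, b, t, ht, hβ, hp⟩ := Source.exists_rep_detected h𝒳.isStack.1 h𝒴.isStack.1
      (Rep.repByAlgSp1_of_repByAlgSpWith h) W w
    exact ⟨G, ObjectProperty.homMk b, t, ht, hβ, hp (Space.respectsIsoSp_of_baseChange hb) hd h⟩
  · rintro ⟨V, a, e, he, ⟨β⟩, ha⟩
    have hr := SetoidalApps.repByAlgSp1_of_cover h𝒳 h𝒴 f hw₁ hw₂ hw₃ ⟨V, e, he⟩
    have hf : RepByAlgSpWith P (fpFst w f) :=
      (Rep.repByAlgSpWith_iff_of_isEquivOver (f := fpFst w f) (f' := AlgSt.ofSpMap a.hom) he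
        BasedBasic.isEquivOver_id β.symm).2
        (Descend.repByAlgSpWith_ofSpMap hb V.property W.property ha)
    refine Cover.rep_descend hb hfs hdesc hr fun T z => ?_
    obtain ⟨T', s, hs, u, ⟨α⟩⟩ := Cover.exists_lift hw₁ hw₂ hw₃ z
    exact ⟨T', s, hs, (Rep.repByAlgSpWith_iff_of_isEquivOver
      (f := fpFst (BasedFunctor.comp (Lft.vOf s) z) f) (f' := fpFst u (fpFst w f))
      (BasedBasic.IsEquivOver.comp (Rep.isEquivOver_pasteBase u w f) (FibProd.isEquivOver_congrLeft α.symm f))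
      BasedBasic.isEquivOver_id (eqToIso rfl)).2 (Rep.repByAlgSpWith_fpFst u hf)⟩

/-! ### Kernels -/

/-- Vertical automorphisms killed by the functor are trivial. -/
def TrivKer (f : 𝒳 ⥤ᵇ 𝒴) : Prop :=
  ∀ (a : 𝒳.obj) (φ : a ⟶ a), 𝒳.p.map φ = 𝟙 (𝒳.p.obj a) → f.map φ = 𝟙 (f.obj a) → φ = 𝟙 a

theorem faithful_iff (h𝒳 : IsFibGrpd 𝒳.p) (h𝒴 : IsFibGrpd 𝒴.p) (f : 𝒳 ⥤ᵇ 𝒴) :
    f.toFunctor.Faithful ↔ TrivKer f := by
  refine ⟨fun _ a φ _ hf => f.toFunctor.map_injective (hf.trans (f.toFunctor.map_id a).symm),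
    fun h => Lib.Fibred.StackLocal.faithful_of_vertical f h𝒳 h𝒴 fun a θ hθ hf => h a θ ?_ hf⟩
  simpa using IsHomLift.fac' 𝒳.p (𝟙 (𝒳.p.obj a)) θ

theorem rep_iff_trivKer (h𝒳 : IsAlgStack Scheme.fppfPrecoverage 𝒳)
    (h𝒴 : IsAlgStack Scheme.fppfPrecoverage 𝒴) (f : 𝒳 ⥤ᵇ 𝒴) : RepByAlgSp1 f ↔ TrivKer f :=
  (SetoidalApps.faithful_iff_repByAlgSp1 h𝒳 h𝒴 f).symm.trans (faithful_iff h𝒳.isStack.1 h𝒴.isStack.1 f)

theorem trivKer_of_full_diag (f : 𝒳 ⥤ᵇ 𝒴) [(diag f).toFunctor.Full] : TrivKer f := fun a φ hφ hf => by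
  let m : (diag f).obj a ⟶ (diag f).obj a :=
    Lib.Fibred.Fp.mkHom (z := (diag f).obj a) (w := (diag f).obj a) (𝟙 a) φ (by
      change f.map (𝟙 a) ≫ 𝟙 _ = 𝟙 _ ≫ f.map φ
      rw [hf, f.toFunctor.map_id])
  obtain ⟨ψ, hψ⟩ := (diag f).toFunctor.map_surjective m
  have h1 : ψ = 𝟙 a := congrArg (fun k => k.hom.fst) hψ
  have h2 : ψ = φ := congrArg (fun k => k.hom.snd) hψ
  exact h2.symm.trans h1

theorem isEquivOver_diag_diag_iff (h𝒳 : IsFibGrpd 𝒳.p) (f : 𝒳 ⥤ᵇ 𝒴) :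
    IsEquivOver (diag (diag f)) ↔ TrivKer f := by
  constructor
  · intro he a φ hφ hf
    have : 𝒳.p.IsHomLift (𝟙 (𝒳.p.obj a)) φ := hφ ▸ IsHomLift.map 𝒳.p φ
    have := BasedBasic.isIso_of_isHomLift_id h𝒳 (R := 𝒳.p.obj a) φ
    let i : (diag f).obj a ≅ (diag f).obj a :=
      Lib.Fibred.Fp.isoMk (z := (diag f).obj a) (w := (diag f).obj a) (Iso.refl a) (asIso φ) (by
        change f.map (𝟙 a) ≫ 𝟙 _ = 𝟙 _ ≫ f.map φ
        rw [hf, f.toFunctor.map_id])
    let o : (fp (diag f) (diag f)).obj := Lib.Fibred.Fp.mkObj a a i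
      ((Lib.Fibred.Fp.isHomLift_iff _ _).2 (IsHomLift.id rfl))
    obtain ⟨b, e, -⟩ := BasedBasic.IsEquivOver.exists_iso he o
    have w := Lib.Fibred.Fp.w e.hom
    have w1 : e.hom.hom.fst = e.hom.hom.snd := by
      have := congrArg (fun k => k.hom.fst) w
      exact ((Category.comp_id _).symm.trans (this.trans (Category.id_comp _)))
    have w2 : e.hom.hom.fst ≫ φ = e.hom.hom.snd := by
      have := congrArg (fun k => k.hom.snd) w
      exact this.trans (Category.id_comp _)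
    have : IsIso e.hom.hom.fst := inferInstanceAs (IsIso ((fpFst (diag f) (diag f)).map e.hom))
    rw [← w1] at w2
    exact (cancel_epi e.hom.hom.fst).1 (w2.trans (Category.comp_id _).symm)
  · intro hk
    have : (diag (diag f)).toFunctor.Faithful := ⟨fun h => congrArg (fun k => k.hom.fst) h⟩
    have : (diag (diag f)).toFunctor.Full := ⟨fun {a b} g => by
      refine ⟨g.hom.fst, Lib.Fibred.Fp.hom_ext rfl ?_⟩
      have w := Lib.Fibred.Fp.w g
      have := congrArg (fun k => k.hom.fst) w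
      exact ((Category.comp_id _).symm.trans (this.trans (Category.id_comp _)))⟩
    refine BasedBasic.isEquivOver_of _ fun η => ?_
    let a := η.obj.fst
    let b := η.obj.snd
    let i : (diag f).obj a ≅ (diag f).obj b := η.obj.iso
    have h₁ : 𝒳.p.IsHomLift (𝟙 (𝒳.p.obj a)) i.hom.hom.fst :=
      (Lib.Fibred.Fp.isHomLift_iff _ _).1 η.property
    have h₂ : 𝒳.p.IsHomLift (𝟙 (𝒳.p.obj a)) i.hom.hom.snd :=
      haveI : (fp f f).p.IsHomLift (𝟙 (𝒳.p.obj a)) i.hom := η.property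
      Lib.Fibred.Fp.isHomLift_snd i.hom (𝟙 _)
    have := BasedBasic.isIso_of_isHomLift_id h𝒳 (R := 𝒳.p.obj a) i.hom.hom.fst
    have := BasedBasic.isIso_of_isHomLift_id h𝒳 (R := 𝒳.p.obj a) i.hom.hom.snd
    have hw : f.map i.hom.hom.fst = f.map i.hom.hom.snd := by
      have := Lib.Fibred.Fp.w i.hom
      exact ((Category.comp_id _).symm.trans (this.trans (Category.id_comp _)))
    let φ : a ⟶ a := i.hom.hom.snd ≫ inv i.hom.hom.fst
    have : 𝒳.p.IsHomLift (𝟙 (𝒳.p.obj a)) φ := inferInstance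
    have hφ : φ = 𝟙 a := hk a φ (by simpa using IsHomLift.fac' 𝒳.p (𝟙 (𝒳.p.obj a)) φ)
      (by simp [φ, ← hw])
    have heq : i.hom.hom.snd = i.hom.hom.fst := by
      rw [← cancel_mono (inv i.hom.hom.fst), IsIso.hom_inv_id]
      exact hφ
    refine ⟨a, Lib.Fibred.Fp.isoMk (z := (diag (diag f)).obj a) (w := η) (Iso.refl a)
      (asIso i.hom.hom.fst) ?_, (Lib.Fibred.Fp.isHomLift_iff _ _).2 (IsHomLift.id rfl)⟩
    change (diag f).map (𝟙 a) ≫ i.hom = 𝟙 _ ≫ (diag f).map i.hom.hom.fst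
    rw [(diag f).toFunctor.map_id, Category.id_comp, Category.id_comp]
    exact Lib.Fibred.Fp.hom_ext rfl heq

theorem isEquivOver_inertia_iff (h : IsFibGrpd 𝒳.p) (f : 𝒳 ⥤ᵇ 𝒴) :
    IsEquivOver (FibCat.inertiaToBase f) ↔ TrivKer f := by
  constructor
  · intro he a φ hφ hf
    have : 𝒳.p.IsHomLift (𝟙 (𝒳.p.obj a)) φ := hφ ▸ IsHomLift.map 𝒳.p φ
    have := BasedBasic.isIso_of_isHomLift_id h (R := 𝒳.p.obj a) φ
    let o₁ : (FibCat.inertia f).obj := ⟨a, asIso φ, hf⟩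
    let o₂ : (FibCat.inertia f).obj := ⟨a, Iso.refl a, f.toFunctor.map_id a⟩
    have := BasedBasic.IsEquivOver.full he
    obtain ⟨m, hm⟩ := (FibCat.inertiaToBase f).toFunctor.map_surjective (X := o₁) (Y := o₂) (𝟙 a)
    have hm' : m.hom = 𝟙 a := hm
    have := m.comm
    rw [hm'] at this
    simpa [o₁, o₂] using this
  · intro hk
    have hvert : ∀ o : (FibCat.inertia f).obj, 𝒳.p.map o.aut.hom = 𝟙 (𝒳.p.obj o.pt) := fun o => by
      have := Functor.congr_hom f.w.symm o.aut.hom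
      simpa [o.map_aut] using this
    have key : ∀ o : (FibCat.inertia f).obj, o.aut.hom = 𝟙 o.pt := fun o => hk _ _ (hvert o) o.map_aut
    have : (FibCat.inertiaToBase f).toFunctor.Faithful := ⟨fun h' => FibCat.InertiaObj.hom_ext h'⟩
    have : (FibCat.inertiaToBase f).toFunctor.Full := ⟨fun {a b} g =>
      ⟨⟨g, by rw [key a, key b]; exact (Category.id_comp g).trans (Category.comp_id g).symm⟩, rfl⟩⟩
    exact BasedBasic.isEquivOver_of _ fun η =>
      ⟨⟨η, Iso.refl η, f.toFunctor.map_id η⟩, Iso.refl η, IsHomLift.id rfl⟩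

end Groth.Agent.H14.Chart.ImmDescent
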