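import Groth.Agent.H14.Chart.Basic
import Groth.Agent.H14.Chart.SmLocal
import Groth.Agent.H14.Sep.Cover
import Groth.Agent.Lib.Fibred.Slice

/-!
Properties of morphisms of algebraic stacks read on smooth squares of scheme charts: independence of
the square and constructions of squares.
-/

set_option autoImplicit false
set_option backward.isDefEq.respectTransparency false
set_option backward.isDefEq.respectTransparency.types false

universe v₂ w₂ v₁ w₁ u

open CategoryTheory CategoryTheory.Limits AlgebraicGeometry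

namespace Groth.Agent.H14.Chart.LocQ

open Groth.Agent.Lib.AlgStack
open Groth.Agent.H14.Sep
open Groth.Agent.Lib.AlgStack.FibProd (fpMap congrLeft congrRight swap)
open FibCat (IsEquivOver fp fpFst fpSnd fpLift fpIso overCat IsFibGrpd toSelf)
open AlgSt (ofSp ofSpMap ofOverCat toOverCat spMapOfOver overMap RepByAlgSp1 RepByAlgSpWith IsAlgStack)
open AlgSp (Sp yon IsAlgSpace LocP RepWith IsSurjectiveMor)
open Groth.Agent.Lib.SourceDescent.Scheme (EtaleLocalST)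

variable {S : Scheme.{u}}

theorem smoothST : EtaleLocalST (@Smooth : MorphismProperty Scheme.{u}) :=
  Lib.SourceDescent.Scheme.smooth

/-! ### Functors followed or preceded by equivalences -/

section Equiv

variable {𝒳 𝒳' : AlgSt.Cat S} {𝒴 𝒴' : AlgSt.Cat S} {P : MorphismProperty (Sp S)}

theorem rep_precomp_equiv {E : 𝒳' ⥤ᵇ 𝒳} (hE : IsEquivOver E) {f : 𝒳 ⥤ᵇ 𝒴}
    (hf : RepByAlgSpWith P f) : RepByAlgSpWith P (BasedFunctor.comp E f) :=
  (Rep.repByAlgSpWith_iff_of_isEquivOver (f := f) (f' := BasedFunctor.comp E f) hE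
    BasedBasic.isEquivOver_id (Iso.refl _)).1 hf

theorem rep_postcomp_equiv {f : 𝒳 ⥤ᵇ 𝒴} {E : 𝒴 ⥤ᵇ 𝒴'} (hE : IsEquivOver E)
    (hf : RepByAlgSpWith P f) : RepByAlgSpWith P (BasedFunctor.comp f E) :=
  (Rep.repByAlgSpWith_iff_of_isEquivOver (f := BasedFunctor.comp f E) (f' := f)
    BasedBasic.isEquivOver_id hE (Iso.refl _)).2 hf

/-- The map of spaces of a projection has the detected properties of the projection. -/
theorem prop_spHom (hP : Space.RespectsIsoSp P) (hd : CompRep.Detected P) {F G : AlgSp.Space S}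
    {t : ofSp G.obj ⥤ᵇ 𝒳} (ht : IsEquivOver t) {π : 𝒳 ⥤ᵇ ofSp F.obj} (hπ : RepByAlgSpWith P π) :
    P (Space.spHom (BasedFunctor.comp t π)) :=
  SpMapProp.prop_of_ofSpMap hP hd G.property F.property
    (Rep.repByAlgSpWith_of_iso (OfPsh.isoOfPshMap (BasedFunctor.comp t π)) (rep_precomp_equiv ht hπ))

theorem exists_inverse_over {E : 𝒳 ⥤ᵇ 𝒳'} (hE : IsEquivOver E) {π : 𝒳 ⥤ᵇ 𝒴} {π' : 𝒳' ⥤ᵇ 𝒴}
    (e : BasedFunctor.comp E π' ≅ π) :
    ∃ i : 𝒳' ⥤ᵇ 𝒳, IsEquivOver i ∧ Nonempty (BasedFunctor.comp i π ≅ π') := by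
  obtain ⟨i, hi, -, ⟨ε⟩⟩ := BasedBasic.IsEquivOver.exists_inverse hE
  exact ⟨i, hi, ⟨BasedBasic.isoWhiskerLeft i e.symm ≪≫ BasedBasic.isoWhiskerRight ε π'⟩⟩

end Equiv

theorem surjective_comp {𝒳 𝒴 𝒵 : AlgSt.Cat S} {f : 𝒳 ⥤ᵇ 𝒴} {g : 𝒴 ⥤ᵇ 𝒵} (hf : AlgSt.IsSurjective f)
    (hg : AlgSt.IsSurjective g) : AlgSt.IsSurjective (BasedFunctor.comp f g) := fun r => by
  obtain ⟨q, rfl⟩ := hg r
  obtain ⟨p, rfl⟩ := hf q
  exact ⟨p, Basic.map_comp f g p⟩

/-- A map of slices surjective on points comes from a surjective map of schemes. -/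
theorem surjective_of_iso_overMap {U V : Over S} {z : overCat U ⥤ᵇ overCat V}
    (hz : AlgSt.IsSurjective z) {k : U ⟶ V} (ι : z ≅ overMap k) : Surjective k.left := ⟨fun v => by
  obtain ⟨q, hq⟩ := hz (AlgSt.Points.ofChart (BasedFunctor.id _) v)
  obtain ⟨W, w, t, rfl⟩ := Points.exists_ofChart_eq (Yoneda.isFibGrpd_overCat U) q
  obtain ⟨b, ⟨ε⟩⟩ := Points.exists_iso_overMap w
  have h1 : AlgSt.Points.ofChart (BasedFunctor.id (overCat V)) v =
      AlgSt.Points.ofChart (BasedFunctor.id (overCat V)) (k.left (b.left t)) := by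
    rw [← hq, ← Points.ofChart_overMap k, Points.map_ofChart]
    refine Eq.trans ?_ ((Points.ofChart_iso (BasedBasic.isoWhiskerRight ε z) t).trans ?_) |>.trans rfl
    · rfl
    · exact (Points.ofChart_overMap b z t).trans (Points.ofChart_iso ι _)
  obtain ⟨W', a, c, w', ha, hc, ⟨θ⟩⟩ := Points.exists_of_ofChart_eq (Yoneda.isFibGrpd_overCat V) h1
  have hac : a = c := by
    apply (yon S).map_injective
    rw [← Points.spMap_toOverCat_overMap, ← Points.spMap_toOverCat_overMap]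
    exact Rep.spMapOfOver_eq_of_iso (BasedBasic.isoWhiskerLeft (toOverCat W') θ)
  exact ⟨b.left t, hc.symm.trans (hac ▸ ha)⟩⟩

variable {𝒳 𝒴 : AlgSt.Cat S}

/-- The maps of spaces underlying a common refinement of two charts of a fibre product commute over
the target chart. -/
theorem comp_eq_of_square {𝒬 : AlgSt.Cat S} {U V : Over S} {π : 𝒬 ⥤ᵇ overCat V} {G G₃ G₁ : Sp S}
    (Φ' : overCat U ⥤ᵇ 𝒬) {h : U ⟶ V} (ι : BasedFunctor.comp Φ' π ≅ overMap h)
    (ψ : ofSp G₃ ⥤ᵇ 𝒬) {p₂ : G₃ ⟶ G₁} {e : ofSp G₁ ⥤ᵇ overCat V}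
    (ζ : BasedFunctor.comp ψ π ≅ BasedFunctor.comp (ofSpMap p₂) e)
    (t : ofSp G ⥤ᵇ fp (BasedFunctor.comp (toOverCat U) Φ') ψ) :
    Space.spHom (BasedFunctor.comp t (fpFst (BasedFunctor.comp (toOverCat U) Φ') ψ)) ≫ (yon S).map h =
      Space.spHom (BasedFunctor.comp t (fpSnd (BasedFunctor.comp (toOverCat U) Φ') ψ)) ≫ p₂ ≫
        spMapOfOver e := by
  let A := BasedFunctor.comp t (fpFst (BasedFunctor.comp (toOverCat U) Φ') ψ)
  let B := BasedFunctor.comp t (fpSnd (BasedFunctor.comp (toOverCat U) Φ') ψ)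
  let Ω₁ : BasedFunctor.comp A (BasedFunctor.comp (toOverCat U) (overMap h)) ≅
      BasedFunctor.comp A (BasedFunctor.comp (toOverCat U) (BasedFunctor.comp Φ' π)) :=
    BasedBasic.isoWhiskerLeft A (BasedBasic.isoWhiskerLeft (toOverCat U) ι.symm)
  let Ω₂ : BasedFunctor.comp A (BasedFunctor.comp (toOverCat U) (BasedFunctor.comp Φ' π)) ≅
      BasedFunctor.comp B (BasedFunctor.comp ψ π) :=
    BasedBasic.isoWhiskerRight (BasedBasic.isoWhiskerLeft t (fpIso (BasedFunctor.comp (toOverCat U) Φ') ψ)) π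
  let Ω₃ : BasedFunctor.comp B (BasedFunctor.comp ψ π) ≅
      BasedFunctor.comp B (BasedFunctor.comp (ofSpMap p₂) e) := BasedBasic.isoWhiskerLeft B ζ
  let L₁ : BasedFunctor.comp (ofSpMap (Space.spHom A)) (BasedFunctor.comp (toOverCat U) (overMap h)) ≅
      BasedFunctor.comp A (BasedFunctor.comp (toOverCat U) (overMap h)) :=
    BasedBasic.isoWhiskerRight (OfPsh.isoOfPshMap A).symm _
  let L₂ : BasedFunctor.comp B (BasedFunctor.comp (ofSpMap p₂) e) ≅
      BasedFunctor.comp (ofSpMap (Space.spHom B)) (BasedFunctor.comp (ofSpMap p₂) e) :=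
    BasedBasic.isoWhiskerRight (OfPsh.isoOfPshMap B) _
  have key := Rep.spMapOfOver_eq_of_iso (L₁ ≪≫ Ω₁ ≪≫ Ω₂ ≪≫ Ω₃ ≪≫ L₂)
  have l := Rep.spMapOfOver_precomp (Space.spHom A) (BasedFunctor.comp (toOverCat U) (overMap h))
  have r := Rep.spMapOfOver_precomp (Space.spHom B) (BasedFunctor.comp (ofSpMap p₂) e)
  rw [Points.spMap_toOverCat_overMap] at l
  rw [Rep.spMapOfOver_precomp p₂ e] at r
  exact l.symm.trans (key.trans r)

/-! ### The square lemma -/

/-- If a property smooth local on the source-and-target holds on one square with a surjective smooth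
source chart it holds on every square whose map to the base change of the target chart is smooth. -/
theorem prop_of_locQ {P : MorphismProperty (Sp S)} (hP : AlgSp.IsSmoothLocalST P)
    (h𝒳 : IsAlgStack Scheme.fppfPrecoverage 𝒳) (h𝒴 : IsAlgStack Scheme.fppfPrecoverage 𝒴)
    {f : 𝒳 ⥤ᵇ 𝒴} (hf : AlgSt.LocQ P f) {U V : Over S} {y : overCat V ⥤ᵇ 𝒴}
    (hy : RepByAlgSpWith (LocP @Smooth) y ∨ SpProps.StableBC P) {Φ : overCat U ⥤ᵇ fp f y}
    (hΦ : RepByAlgSpWith (LocP @Smooth) Φ) {h : U ⟶ V}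
    (ι : BasedFunctor.comp Φ (fpSnd f y) ≅ overMap h) : P ((yon S).map h) := by
  obtain ⟨U₀, V₀, x₀, y₀, h₀, α₀, hx₀, hx₀', hy₀, hP₀⟩ := hf
  have hr := IsAlgFp.respectsIsoSp_locP smoothST (S := S)
  have hd := IsAlgFp.detected_locP smoothST (S := S)
  have hU₀ := IsAlgSpace.yon_obj (S := S) U₀
  have hV₀ := IsAlgSpace.yon_obj (S := S) V₀
  -- the comparison space of the two target charts
  obtain ⟨G₁, e, he, hγ⟩ := hy₀ V y
  let e' := BasedFunctor.comp e (swap y y₀)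
  have he' : IsEquivOver e' := BasedBasic.IsEquivOver.comp he (FibProd.isEquivOver_swap y y₀)
  let γ : G₁.obj ⟶ (yon S).obj V := spMapOfOver (BasedFunctor.comp e (fpFst y y₀))
  let γ₀ : G₁.obj ⟶ (yon S).obj V₀ := spMapOfOver (BasedFunctor.comp e' (fpFst y₀ y))
  have sq := IsPullback.of_hasPullback ((yon S).map h₀) γ₀
  let G₃ : AlgSp.Space S := ⟨pullback ((yon S).map h₀) γ₀,
    Lib.AlgSpace.isAlgSpace_of_isPullback sq hV₀.diag hU₀ G₁.property⟩
  let p₂ : G₃.obj ⟶ G₁.obj := pullback.snd ((yon S).map h₀) γ₀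
  have hp₂ : P p₂ := hy.elim
    (fun hy => hP.baseChange hU₀ hV₀ G₃.property G₁.property _ γ₀ _ _ sq
      (Space.prop_of_rep hr hy G₁.property he') hP₀)
    (fun hb => hb hU₀ hV₀ G₃.property G₁.property _ γ₀ _ _ sq hP₀)
  -- it is an atlas of the base change of the target chart
  have := BasedBasic.IsEquivOver.full (Rep.isEquivOver_toOverCat V₀)
  have := BasedBasic.IsEquivOver.faithful (Rep.isEquivOver_toOverCat V₀)
  have k1 := Space.isEquivOver_sqLift (sq.map (sheafToPresheaf _ _))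
  have k2 := FibProd.isEquivOver_fpMap (F := overMap h₀) (G := fpFst y₀ y)
    (F' := ofSpMap ((yon S).map h₀)) (G' := ofSpMap γ₀) (toOverCat U₀) e' (toOverCat V₀)
    (Iso.refl _) (Rep.isoSpMapOfOver _) (Rep.isEquivOver_toOverCat U₀) he'
  have k3 := BasedBasic.IsEquivOver.comp
    (BasedBasic.IsEquivOver.comp (BasedBasic.IsEquivOver.comp k1 k2)
      (Rep.isEquivOver_pasteBase (overMap h₀) y₀ y)) (FibProd.isEquivOver_congrLeft α₀.symm y)
  let E₃ : ofSp G₃.obj ⥤ᵇ fp (BasedFunctor.comp x₀ f) y :=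
    BasedFunctor.comp (BasedFunctor.comp (BasedFunctor.comp
      (Space.sqLift (sq.map (sheafToPresheaf _ _)).w)
      (fpMap (F := overMap h₀) (G := fpFst y₀ y) (F' := ofSpMap ((yon S).map h₀))
        (G' := ofSpMap γ₀) (toOverCat U₀) e' (toOverCat V₀) (Iso.refl _) (Rep.isoSpMapOfOver _)))
      (Rep.pasteBase (overMap h₀) y₀ y)) (congrLeft α₀.symm y)
  obtain ⟨i, hi, -, ⟨ε⟩⟩ :=
    BasedBasic.IsEquivOver.exists_inverse (Rep.isEquivOver_pasteBase x₀ f y)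
  let E₃' : ofSp G₃.obj ⥤ᵇ fp x₀ (fpFst f y) := BasedFunctor.comp E₃ i
  have hE₃' : IsEquivOver E₃' := BasedBasic.IsEquivOver.comp (show IsEquivOver E₃ from k3) hi
  let ψ : ofSp G₃.obj ⥤ᵇ fp f y := BasedFunctor.comp E₃' (fpSnd x₀ (fpFst f y))
  have hψ : RepByAlgSpWith (LocP @Smooth) ψ :=
    rep_precomp_equiv hE₃' (Sep.Rep.fpSnd_of (fpFst f y) hx₀)
  have hψ' : RepByAlgSpWith IsSurjectiveMor ψ :=
    rep_precomp_equiv hE₃' (Sep.Rep.fpSnd_of (fpFst f y) hx₀')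
  let ζ : BasedFunctor.comp ψ (fpSnd f y) ≅
      BasedFunctor.comp (ofSpMap p₂) (BasedFunctor.comp e (fpFst y y₀)) :=
    BasedBasic.isoWhiskerLeft E₃ (BasedBasic.isoWhiskerRight ε (fpSnd (BasedFunctor.comp x₀ f) y))
  -- the common refinement
  let g : ofSp ((AlgSp.ofScheme S).obj U).obj ⥤ᵇ fp f y := BasedFunctor.comp (toOverCat U) Φ
  have hg : RepByAlgSpWith (LocP @Smooth) g := rep_precomp_equiv (Rep.isEquivOver_toOverCat U) hΦ
  have hfy : IsFibGrpd (fp f y).p :=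
    FibProd.isFibGrpd_fp h𝒳.isStack.1 (Yoneda.isFibGrpd_overCat V) h𝒴.isStack.1
  obtain ⟨G, t, ht⟩ := Space.repByAlgSp_fp_ofSp (Stk.isFibGrpd_ofPsh G₃.obj.obj) hfy
    (Rep.repByAlgSp1_of_repByAlgSpWith hψ) g
  let a : G.obj ⟶ (yon S).obj U := Space.spHom (BasedFunctor.comp t (fpFst g ψ))
  let b' : G.obj ⟶ G₃.obj := Space.spHom (BasedFunctor.comp t (fpSnd g ψ))
  have ha : LocP @Smooth a :=
    prop_spHom hr hd (F := (AlgSp.ofScheme S).obj U) ht (Rep.repByAlgSpWith_fpFst g hψ)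
  have ha' : IsSurjectiveMor a :=
    prop_spHom IsAlgFp.respectsIsoSp_surjective IsAlgFp.detected_surjective
      (F := (AlgSp.ofScheme S).obj U) ht (Rep.repByAlgSpWith_fpFst g hψ')
  have hb' : LocP @Smooth b' := prop_spHom hr hd ht (Sep.Rep.fpSnd_of ψ hg)
  have w : a ≫ (yon S).map h = (b' ≫ p₂) ≫ γ := by
    rw [Category.assoc]
    exact comp_eq_of_square Φ ι ψ ζ t
  refine (hP.locality (IsAlgSpace.yon_obj U) (IsAlgSpace.yon_obj V) _).2 fun p => ?_
  obtain ⟨v, hv⟩ := ha' p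
  exact ⟨G.obj, G₁.obj, a, γ, b' ≫ p₂, v, G.property, G₁.property, ha, hγ, w, hv,
    hP.precomp G.property G₃.property G₁.property b' p₂ hb' hp₂⟩

/-! ### Squares -/

/-- An atlas of the base change of a morphism to a chart of the target. -/
theorem exists_square (h𝒳 : IsAlgStack Scheme.fppfPrecoverage 𝒳)
    (h𝒴 : IsAlgStack Scheme.fppfPrecoverage 𝒴) (f : 𝒳 ⥤ᵇ 𝒴) {V : Over S} (y : overCat V ⥤ᵇ 𝒴) :
    ∃ (U : Over S) (a : overCat U ⥤ᵇ fp f y) (k : U ⟶ V), RepByAlgSpWith (LocP @Smooth) a ∧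
      RepByAlgSpWith IsSurjectiveMor a ∧ Nonempty (BasedFunctor.comp a (fpSnd f y) ≅ overMap k) := by
  obtain ⟨U, a, ha, ha'⟩ :=
    (Basic.isAlgStack_fp h𝒴 h𝒳 (Basic.isAlgStack_overCat V) f y).atlas
  obtain ⟨k, hk⟩ := Points.exists_iso_overMap (BasedFunctor.comp a (fpSnd f y))
  exact ⟨U, a, k, ha, ha', hk⟩

/-- A square over a surjective smooth chart of the target with the property gives the property. -/
theorem locQ_of_square {P : MorphismProperty (Sp S)} (h𝒳 : IsAlgStack Scheme.fppfPrecoverage 𝒳)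
    (h𝒴 : IsAlgStack Scheme.fppfPrecoverage 𝒴) {f : 𝒳 ⥤ᵇ 𝒴} {U V : Over S} {y : overCat V ⥤ᵇ 𝒴}
    (hy : RepByAlgSpWith (LocP @Smooth) y) (hy' : RepByAlgSpWith IsSurjectiveMor y)
    {a : overCat U ⥤ᵇ fp f y} (ha : RepByAlgSpWith (LocP @Smooth) a)
    (ha' : RepByAlgSpWith IsSurjectiveMor a) {k : U ⟶ V}
    (ι : BasedFunctor.comp a (fpSnd f y) ≅ overMap k) (hk : P ((yon S).map k)) : AlgSt.LocQ P f := by
  have hfy := FibProd.isFibGrpd_fp (F := f) (G := y) h𝒳.isStack.1 (Yoneda.isFibGrpd_overCat V) h𝒴.isStack.1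
  exact ⟨U, V, BasedFunctor.comp a (fpFst f y), y, k,
    BasedBasic.isoWhiskerLeft a (fpIso f y) ≪≫ BasedBasic.isoWhiskerRight ι y,
    IsAlgFp.comp_locP smoothST (Yoneda.isFibGrpd_overCat U) hfy ha (Rep.repByAlgSpWith_fpFst f hy),
    IsAlgFp.comp_surjective (Yoneda.isFibGrpd_overCat U) hfy ha' (Rep.repByAlgSpWith_fpFst f hy'),
    hy, hk⟩

end Groth.Agent.H14.Chart.LocQ
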