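import Groth.Agent.H14.Chart.LocQ

/-!
Composition, base change and comparison with representable functors of properties read on smooth squares.
-/

set_option autoImplicit false
set_option backward.isDefEq.respectTransparency false
set_option backward.isDefEq.respectTransparency.types false

universe v₂ w₂ v₁ w₁ u

open CategoryTheory CategoryTheory.Limits AlgebraicGeometry

namespace Groth.Agent.H14.Chart.LocQ

open Groth.Agent.Lib.AlgStack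
open Groth.Agent.H14.Sep
open Groth.Agent.Lib.AlgStack.FibProd (fpMap congrLeft congrRight swap)
open FibCat (IsEquivOver fp fpFst fpSnd fpLift fpIso overCat IsFibGrpd toSelf)
open AlgSt (ofSp ofSpMap ofOverCat toOverCat spMapOfOver overMap RepByAlgSp1 RepByAlgSpWith IsAlgStack)
open AlgSp (Sp yon IsAlgSpace LocP RepWith IsSurjectiveMor)
open Groth.Agent.Lib.SourceDescent.Scheme (EtaleLocalST)

variable {S : Scheme.{u}} {𝒳 𝒴 𝒵 : AlgSt.Cat S}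

theorem overMap_comp {U V W : Over S} (k : U ⟶ V) (l : V ⟶ W) :
    BasedFunctor.comp (overMap k) (overMap l) = overMap (k ≫ l) := by
  have h := Lft.vOf_comp k l
  exact h

theorem prop_of_rep_overMap {P : MorphismProperty (Sp S)} (hP : Space.RespectsIsoSp P)
    (hd : CompRep.Detected P) {U V : Over S} {k : U ⟶ V} (h : RepByAlgSpWith P (overMap k)) :
    P ((yon S).map k) :=
  SpMapProp.prop_of_ofSpMap hP hd (IsAlgSpace.yon_obj U) (IsAlgSpace.yon_obj V)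
    ((Rep.repByAlgSpWith_iff_of_isEquivOver (f := overMap k) (f' := ofSpMap ((yon S).map k))
      (Rep.isEquivOver_toOverCat U) (Rep.isEquivOver_toOverCat V) (eqToIso rfl)).1 h)

/-- A functor from a scheme to an algebraic stack is representable by algebraic spaces. -/
theorem repByAlgSp1_chart (h𝒴 : IsAlgStack Scheme.fppfPrecoverage 𝒴) {W : Over S}
    (x : overCat W ⥤ᵇ 𝒴) : RepByAlgSp1 x :=
  Lib.AlgStack.Diag.repByAlgSp1_diag_iff.1 h𝒴.diag W x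

/-! ### Composites -/

/-- Squares for a composite. -/
theorem exists_comp_squares (h𝒳 : IsAlgStack Scheme.fppfPrecoverage 𝒳)
    (h𝒴 : IsAlgStack Scheme.fppfPrecoverage 𝒴) (h𝒵 : IsAlgStack Scheme.fppfPrecoverage 𝒵)
    (f : 𝒳 ⥤ᵇ 𝒴) (g : 𝒴 ⥤ᵇ 𝒵) :
    ∃ (U V W : Over S) (y : overCat V ⥤ᵇ 𝒴) (z : overCat W ⥤ᵇ 𝒵) (a : overCat U ⥤ᵇ fp f y)
      (b : overCat V ⥤ᵇ fp g z) (c : overCat U ⥤ᵇ fp (BasedFunctor.comp f g) z)
      (kf : U ⟶ V) (kg : V ⟶ W),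
      (RepByAlgSpWith (LocP @Smooth) y ∧ RepByAlgSpWith IsSurjectiveMor y) ∧
      (RepByAlgSpWith (LocP @Smooth) z ∧ RepByAlgSpWith IsSurjectiveMor z) ∧
      (RepByAlgSpWith (LocP @Smooth) a ∧ RepByAlgSpWith IsSurjectiveMor a) ∧
      (RepByAlgSpWith (LocP @Smooth) b ∧ RepByAlgSpWith IsSurjectiveMor b) ∧
      (RepByAlgSpWith (LocP @Smooth) c ∧ RepByAlgSpWith IsSurjectiveMor c) ∧
      Nonempty (BasedFunctor.comp a (fpSnd f y) ≅ overMap kf) ∧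
      Nonempty (BasedFunctor.comp b (fpSnd g z) ≅ overMap kg) ∧
      Nonempty (BasedFunctor.comp c (fpSnd (BasedFunctor.comp f g) z) ≅ overMap (kf ≫ kg)) := by
  obtain ⟨W, z, hz, hz'⟩ := h𝒵.atlas
  obtain ⟨V, b, kg, hb, hb', ⟨ιg⟩⟩ := exists_square h𝒴 h𝒵 g z
  have hgz := Basic.isAlgStack_fp h𝒵 h𝒴 (Basic.isAlgStack_overCat W) g z
  let π := fpFst g z
  have hπ : RepByAlgSpWith (LocP @Smooth) π := Rep.repByAlgSpWith_fpFst g hz
  have hπ' : RepByAlgSpWith IsSurjectiveMor π := Rep.repByAlgSpWith_fpFst g hz'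
  have hfπ := Basic.isAlgStack_fp h𝒴 h𝒳 hgz f π
  obtain ⟨U, a, kf, ha, ha', ⟨ιf⟩⟩ := exists_square hfπ hgz (fpSnd f π) b
  have hF := FibProd.isFibGrpd_fp (F := fpSnd f π) (G := b) hfπ.isStack.1
    (Yoneda.isFibGrpd_overCat V) hgz.isStack.1
  let δ : BasedFunctor.comp (BasedFunctor.comp (BasedFunctor.comp a (fpFst (fpSnd f π) b))
      (Rep.pasteBase f g z)) (fpSnd (BasedFunctor.comp f g) z) ≅ overMap (kf ≫ kg) :=
    BasedBasic.isoWhiskerLeft a (BasedBasic.isoWhiskerRight (fpIso (fpSnd f π) b) (fpSnd g z)) ≪≫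
      BasedBasic.isoWhiskerRight ιf (BasedFunctor.comp b (fpSnd g z)) ≪≫
      BasedBasic.isoWhiskerLeft (overMap kf) ιg ≪≫ eqToIso (overMap_comp kf kg)
  exact ⟨U, V, W, BasedFunctor.comp b π, z, BasedFunctor.comp a (Rep.pasteComp f π b), b,
    BasedFunctor.comp (BasedFunctor.comp a (fpFst (fpSnd f π) b)) (Rep.pasteBase f g z), kf, kg,
    ⟨IsAlgFp.comp_locP smoothST (Yoneda.isFibGrpd_overCat V) hgz.isStack.1 hb hπ,
      IsAlgFp.comp_surjective (Yoneda.isFibGrpd_overCat V) hgz.isStack.1 hb' hπ'⟩, ⟨hz, hz'⟩,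
    ⟨rep_postcomp_equiv (Rep.isEquivOver_pasteComp f π b) ha,
      rep_postcomp_equiv (Rep.isEquivOver_pasteComp f π b) ha'⟩, ⟨hb, hb'⟩,
    ⟨rep_postcomp_equiv (Rep.isEquivOver_pasteBase f g z)
        (IsAlgFp.comp_locP smoothST (Yoneda.isFibGrpd_overCat U) hF ha
          (Rep.repByAlgSpWith_fpFst (fpSnd f π) hb)),
      rep_postcomp_equiv (Rep.isEquivOver_pasteBase f g z)
        (IsAlgFp.comp_surjective (Yoneda.isFibGrpd_overCat U) hF ha'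
          (Rep.repByAlgSpWith_fpFst (fpSnd f π) hb'))⟩, ⟨ιf⟩, ⟨ιg⟩, ⟨δ⟩⟩

theorem locQ_comp {P Q R : MorphismProperty (Sp S)} (hP : AlgSp.IsSmoothLocalST P)
    (hQ : AlgSp.IsSmoothLocalST Q)
    (h : ∀ ⦃U V W : Over S⦄ (k : U ⟶ V) (l : V ⟶ W), P ((yon S).map k) → Q ((yon S).map l) →
      R ((yon S).map (k ≫ l)))
    (h𝒳 : IsAlgStack Scheme.fppfPrecoverage 𝒳) (h𝒴 : IsAlgStack Scheme.fppfPrecoverage 𝒴)
    (h𝒵 : IsAlgStack Scheme.fppfPrecoverage 𝒵) {f : 𝒳 ⥤ᵇ 𝒴} {g : 𝒴 ⥤ᵇ 𝒵}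
    (hf : AlgSt.LocQ P f) (hg : AlgSt.LocQ Q g) : AlgSt.LocQ R (BasedFunctor.comp f g) := by
  obtain ⟨U, V, W, y, z, a, b, c, kf, kg, hy, hz, ha, hb, hc, ⟨ιf⟩, ⟨ιg⟩, ⟨δ⟩⟩ :=
    exists_comp_squares h𝒳 h𝒴 h𝒵 f g
  exact locQ_of_square h𝒳 h𝒵 hz.1 hz.2 hc.1 hc.2 δ
    (h kf kg (prop_of_locQ hP h𝒳 h𝒴 hf (Or.inl hy.1) ha.1 ιf)
      (prop_of_locQ hQ h𝒴 h𝒵 hg (Or.inl hz.1) hb.1 ιg))

/-- Cancellation of the second morphism. -/
theorem locQ_left {P Q R : MorphismProperty (Sp S)} (hR : AlgSp.IsSmoothLocalST R)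
    (hQ : AlgSp.IsSmoothLocalST Q)
    (h : ∀ ⦃U V W : Over S⦄ (k : U ⟶ V) (l : V ⟶ W), R ((yon S).map (k ≫ l)) → Q ((yon S).map l) →
      P ((yon S).map k))
    (h𝒳 : IsAlgStack Scheme.fppfPrecoverage 𝒳) (h𝒴 : IsAlgStack Scheme.fppfPrecoverage 𝒴)
    (h𝒵 : IsAlgStack Scheme.fppfPrecoverage 𝒵) {f : 𝒳 ⥤ᵇ 𝒴} {g : 𝒴 ⥤ᵇ 𝒵}
    (hfg : AlgSt.LocQ R (BasedFunctor.comp f g)) (hg : AlgSt.LocQ Q g) : AlgSt.LocQ P f := by
  obtain ⟨U, V, W, y, z, a, b, c, kf, kg, hy, hz, ha, hb, hc, ⟨ιf⟩, ⟨ιg⟩, ⟨δ⟩⟩ :=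
    exists_comp_squares h𝒳 h𝒴 h𝒵 f g
  exact locQ_of_square h𝒳 h𝒴 hy.1 hy.2 ha.1 ha.2 ιf
    (h kf kg (prop_of_locQ hR h𝒳 h𝒵 hfg (Or.inl hz.1) hc.1 δ)
      (prop_of_locQ hQ h𝒴 h𝒵 hg (Or.inl hz.1) hb.1 ιg))

/-- Cancellation of a surjective first morphism. -/
theorem locQ_right {P Q R : MorphismProperty (Sp S)} (hR : AlgSp.IsSmoothLocalST R)
    (hQ : AlgSp.IsSmoothLocalST Q)
    (h : ∀ ⦃U V W : Over S⦄ (k : U ⟶ V) (l : V ⟶ W), R ((yon S).map (k ≫ l)) → Q ((yon S).map k) →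
      Surjective k.left → P ((yon S).map l))
    (h𝒳 : IsAlgStack Scheme.fppfPrecoverage 𝒳) (h𝒴 : IsAlgStack Scheme.fppfPrecoverage 𝒴)
    (h𝒵 : IsAlgStack Scheme.fppfPrecoverage 𝒵) {f : 𝒳 ⥤ᵇ 𝒴} {g : 𝒴 ⥤ᵇ 𝒵}
    (hfg : AlgSt.LocQ R (BasedFunctor.comp f g)) (hf : AlgSt.LocQ Q f) (hs : AlgSt.IsSurjective f) :
    AlgSt.LocQ P g := by
  obtain ⟨U, V, W, y, z, a, b, c, kf, kg, hy, hz, ha, hb, hc, ⟨ιf⟩, ⟨ιg⟩, ⟨δ⟩⟩ :=
    exists_comp_squares h𝒳 h𝒴 h𝒵 f g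
  have hfy := FibProd.isFibGrpd_fp (F := f) (G := y) h𝒳.isStack.1 (Yoneda.isFibGrpd_overCat V)
    h𝒴.isStack.1
  have hk : Surjective kf.left := surjective_of_iso_overMap
    (surjective_comp (Points.isSurjective_of_rep hfy ha.2)
      (Basic.surjective_fpSnd (Yoneda.isFibGrpd_overCat V) h𝒴.isStack.1 h𝒳.isStack.1 y hs)) ιf
  exact locQ_of_square h𝒴 h𝒵 hz.1 hz.2 hb.1 hb.2 ιg
    (h kf kg (prop_of_locQ hR h𝒳 h𝒵 hfg (Or.inl hz.1) hc.1 δ)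
      (prop_of_locQ hQ h𝒳 h𝒴 hf (Or.inl hy.1) ha.1 ιf) hk)

/-- Base change. -/
theorem locQ_fpFst {P : MorphismProperty (Sp S)} (hP : AlgSp.IsSmoothLocalST P)
    (hPb : SpProps.StableBC P) (h𝒳 : IsAlgStack Scheme.fppfPrecoverage 𝒳)
    (h𝒴 : IsAlgStack Scheme.fppfPrecoverage 𝒴) (h𝒵 : IsAlgStack Scheme.fppfPrecoverage 𝒵)
    {f : 𝒳 ⥤ᵇ 𝒴} (g : 𝒵 ⥤ᵇ 𝒴) (hf : AlgSt.LocQ P f) : AlgSt.LocQ P (fpFst g f) := by
  obtain ⟨V, y, hy, hy'⟩ := h𝒵.atlas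
  have hQ := Basic.isAlgStack_fp h𝒴 h𝒵 h𝒳 g f
  obtain ⟨U, a, k, ha, ha', ⟨ι⟩⟩ := exists_square hQ h𝒵 (fpFst g f) y
  have hΛ := BasedBasic.IsEquivOver.comp (BasedBasic.IsEquivOver.comp
    (FibProd.isEquivOver_swap (fpFst g f) y) (Rep.isEquivOver_pasteBase y g f))
    (FibProd.isEquivOver_swap (BasedFunctor.comp y g) f)
  exact locQ_of_square hQ h𝒵 hy hy' ha ha' ι
    (prop_of_locQ hP h𝒳 h𝒴 hf (Or.inr hPb) (rep_postcomp_equiv hΛ ha) ι)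

/-! ### Functors representable by algebraic spaces -/

/-- On representing spaces the property is read off any square. -/
theorem prop_of_rep {P : MorphismProperty (Sp S)} (hP : AlgSp.IsSmoothLocalST P)
    (h𝒳 : IsAlgStack Scheme.fppfPrecoverage 𝒳) (h𝒴 : IsAlgStack Scheme.fppfPrecoverage 𝒴)
    {f : 𝒳 ⥤ᵇ 𝒴} (hf : AlgSt.LocQ P f) {V : Over S} {y : overCat V ⥤ᵇ 𝒴}
    (hy : RepByAlgSpWith (LocP @Smooth) y ∨ SpProps.StableBC P) {G : AlgSp.Space S}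
    {e : ofSp G.obj ⥤ᵇ fp y f} (he : IsEquivOver e) :
    P (spMapOfOver (BasedFunctor.comp e (fpFst y f))) := by
  refine (hP.locality G.property (IsAlgSpace.yon_obj V) _).2 fun q => ?_
  obtain ⟨T, p, hp, hps⟩ := G.property.atlas
  obtain ⟨t, rfl⟩ := Lib.AlgSpace.surjective_ofPt hps q
  obtain ⟨k, hk⟩ := (yon S).map_surjective (p ≫ spMapOfOver (BasedFunctor.comp e (fpFst y f)))
  let a := BasedFunctor.comp (ofOverCat T) (BasedFunctor.comp (ofSpMap p) e)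
  have ha : RepByAlgSpWith (LocP @Smooth) a :=
    (Rep.repByAlgSpWith_iff_of_isEquivOver (f := a)
      (f' := BasedFunctor.comp (ofOverCat T) (ofSpMap p)) BasedBasic.isEquivOver_id he (Iso.refl _)).2
      (IsAlg.repByAlgSpWith_atlas hp hps fun _ _ r hr _ => IsAlg.locP_smooth hr)
  let ι : BasedFunctor.comp (BasedFunctor.comp a (swap y f)) (fpSnd f y) ≅ Lft.vOf k :=
    BasedBasic.isoWhiskerLeft (ofOverCat T)
      (Rep.isoSpMapOfOver (BasedFunctor.comp (ofSpMap p) (BasedFunctor.comp e (fpFst y f))) ≪≫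
        eqToIso (by rw [Rep.spMapOfOver_precomp, hk]))
  have h1 := prop_of_locQ hP h𝒳 h𝒴 hf hy (rep_postcomp_equiv (FibProd.isEquivOver_swap y f) ha)
    (show _ ≅ overMap k from ι)
  exact ⟨_, _, p, 𝟙 _, (yon S).map k, AlgSp.Points.ofScheme T t, IsAlgSpace.yon_obj T,
    IsAlgSpace.yon_obj V, IsAlg.locP_smooth hp, SmLocal.locP_id smoothST (IsAlgSpace.yon_obj V),
    by rw [Category.comp_id, hk], (AlgSp.Points.ofPt_eq_map_ofScheme p t).symm, h1⟩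

theorem repByAlgSpWith_of_locQ {P : MorphismProperty (Sp S)} (hP : AlgSp.IsSmoothLocalST P)
    (hPb : SpProps.StableBC P) (h𝒳 : IsAlgStack Scheme.fppfPrecoverage 𝒳)
    (h𝒴 : IsAlgStack Scheme.fppfPrecoverage 𝒴) {f : 𝒳 ⥤ᵇ 𝒴} (hf : RepByAlgSp1 f)
    (h : AlgSt.LocQ P f) : RepByAlgSpWith P f := fun V y => by
  obtain ⟨G, e, he⟩ := hf V y
  exact ⟨G, e, he, prop_of_rep hP h𝒳 h𝒴 h (Or.inr hPb) he⟩

theorem locQ_of_repByAlgSpWith {P : MorphismProperty (Sp S)}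
    (hpre : ∀ ⦃X Y Z : Sp S⦄, IsAlgSpace X → IsAlgSpace Y → IsAlgSpace Z →
      ∀ (f : X ⟶ Y) (g : Y ⟶ Z), LocP @Smooth f → P g → P (f ≫ g))
    (h𝒳 : IsAlgStack Scheme.fppfPrecoverage 𝒳) (h𝒴 : IsAlgStack Scheme.fppfPrecoverage 𝒴)
    {f : 𝒳 ⥤ᵇ 𝒴} (hf : RepByAlgSpWith P f) : AlgSt.LocQ P f := by
  obtain ⟨V, y, hy, hy'⟩ := h𝒴.atlas
  obtain ⟨U, a, k, ha, ha', ⟨ι⟩⟩ := exists_square h𝒳 h𝒴 f y
  obtain ⟨G, e, he, hγ⟩ := hf V y
  obtain ⟨i, hi, ⟨ε⟩⟩ := exists_inverse_over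
    (BasedBasic.IsEquivOver.comp he (FibProd.isEquivOver_swap y f))
    (π := BasedFunctor.comp e (fpFst y f)) (π' := fpSnd f y) (Iso.refl _)
  let z : overCat U ⥤ᵇ ofSp G.obj := BasedFunctor.comp a i
  have hq : LocP @Smooth (SpMapProp.ofPoint z) :=
    SpMapProp.prop_ofPoint (IsAlgFp.respectsIsoSp_locP smoothST) (IsAlgFp.detected_locP smoothST)
      G.property (rep_postcomp_equiv hi ha)
  have hk : (yon S).map k = SpMapProp.ofPoint z ≫ spMapOfOver (BasedFunctor.comp e (fpFst y f)) := by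
    rw [← Points.spMap_toOverCat_overMap, ← Rep.spMapOfOver_precomp]
    exact Rep.spMapOfOver_eq_of_iso (BasedBasic.isoWhiskerLeft (toOverCat U) ι.symm ≪≫
      BasedBasic.isoWhiskerLeft (BasedFunctor.comp (toOverCat U) a) ε.symm ≪≫
      BasedBasic.isoWhiskerRight (OfPsh.isoOfPshMap (BasedFunctor.comp (toOverCat U) z))
        (BasedFunctor.comp e (fpFst y f)))
  refine locQ_of_square h𝒳 h𝒴 hy hy' ha ha' ι ?_
  rw [hk]
  exact hpre (IsAlgSpace.yon_obj U) G.property (IsAlgSpace.yon_obj V) _ _ hq hγ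

/-! ### Charts of the source -/

/-- A composite of a smooth chart with a morphism having a property read on squares. -/
theorem rep_chart_comp {P : MorphismProperty (Sp S)} (hP : AlgSp.IsSmoothLocalST P)
    (hPb : SpProps.StableBC P)
    (hsm : ∀ ⦃X Y : Sp S⦄ (a : X ⟶ Y), IsAlgSpace X → IsAlgSpace Y → LocP @Smooth a → P a)
    (hc : ∀ ⦃X Y Z : Sp S⦄, IsAlgSpace X → IsAlgSpace Y → IsAlgSpace Z →
      ∀ (a : X ⟶ Y) (b : Y ⟶ Z), P a → P b → P (a ≫ b))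
    (h𝒳 : IsAlgStack Scheme.fppfPrecoverage 𝒳) (h𝒴 : IsAlgStack Scheme.fppfPrecoverage 𝒴)
    {f : 𝒳 ⥤ᵇ 𝒴} (hf : AlgSt.LocQ P f) {W : Over S} {w : overCat W ⥤ᵇ 𝒳}
    (hw : RepByAlgSpWith (LocP @Smooth) w) : RepByAlgSpWith P (BasedFunctor.comp w f) :=
  repByAlgSpWith_of_locQ hP hPb (Basic.isAlgStack_overCat W) h𝒴 (repByAlgSp1_chart h𝒴 _)
    (locQ_comp hP hP (fun U V W k l hk hl => by
        rw [Functor.map_comp]
        exact hc (IsAlgSpace.yon_obj U) (IsAlgSpace.yon_obj V) (IsAlgSpace.yon_obj W) _ _ hk hl)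
      (Basic.isAlgStack_overCat W) h𝒳 h𝒴
      (locQ_of_repByAlgSpWith hP.precomp (Basic.isAlgStack_overCat W) h𝒳
        (Rep.repByAlgSpWith_mono hw hsm)) hf)

/-- The corresponding statement for properties of schemes. -/
theorem rep_chart_comp_locP {Q : MorphismProperty Scheme.{u}} (hQ : EtaleLocalST Q)
    (hP : AlgSp.IsSmoothLocalST (LocP Q : MorphismProperty (Sp S)))
    (hsm : (@Smooth : MorphismProperty Scheme.{u}) ≤ Q)
    (h𝒳 : IsAlgStack Scheme.fppfPrecoverage 𝒳) (h𝒴 : IsAlgStack Scheme.fppfPrecoverage 𝒴)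
    {f : 𝒳 ⥤ᵇ 𝒴} (hf : AlgSt.LocQ (LocP Q) f) {W : Over S} {w : overCat W ⥤ᵇ 𝒳}
    (hw : RepByAlgSpWith (LocP @Smooth) w) : RepByAlgSpWith (LocP Q) (BasedFunctor.comp w f) :=
  rep_chart_comp hP (SpProps.stableBC_locP hQ) (fun _ _ _ _ _ ha => SmLocal.locP_mono hsm ha)
    (fun _ _ _ hX hY hZ _ _ ha hb => Lib.AlgSpMor.LocP.locP_comp hQ hX hY hZ ha hb) h𝒳 h𝒴 hf hw

end Groth.Agent.H14.Chart.LocQ
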