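import Groth.Agent.H14.Chart.LocQ2

/-!
Descent of properties read on smooth squares along coverings of the target, fppf charts.
-/

set_option autoImplicit false
set_option backward.isDefEq.respectTransparency false
set_option backward.isDefEq.respectTransparency.types false

universe v₂ w₂ v₁ w₁ u

open CategoryTheory CategoryTheory.Limits AlgebraicGeometry

namespace Groth.Agent.H14.Chart.LocQ

open Groth.Agent.Lib.AlgStack
open Groth.Agent.H14.Sep
open Groth.Agent.Lib.AlgStack.FibProd (fpMap congrLeft congrRight swap)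
open FibCat (IsEquivOver fp fpFst fpSnd fpLift fpIso overCat IsFibGrpd toSelf)
open AlgSt (ofSp ofSpMap ofOverCat toOverCat spMapOfOver overMap RepByAlgSp1 RepByAlgSpWith IsAlgStack)
open AlgSp (Sp yon IsAlgSpace LocP RepWith IsSurjectiveMor)
open Groth.Agent.Lib.SourceDescent.Scheme (EtaleLocalST)

variable {S : Scheme.{u}} {𝒳 𝒴 𝒵 : AlgSt.Cat S}

/-- A surjective chart of the target: composite of an atlas of the source with a surjective morphism,
with all the properties of the morphism that hold for smooth morphisms. -/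
theorem exists_cover_chart (h𝒵 : IsAlgStack Scheme.fppfPrecoverage 𝒵)
    (h𝒴 : IsAlgStack Scheme.fppfPrecoverage 𝒴) (z : 𝒵 ⥤ᵇ 𝒴) :
    ∃ (W : Over S) (w : overCat W ⥤ᵇ 𝒵), RepByAlgSpWith (LocP @Smooth) w ∧
      RepByAlgSpWith IsSurjectiveMor w ∧ RepByAlgSp1 (BasedFunctor.comp w z) ∧
      (AlgSt.IsSurjective z → RepByAlgSpWith IsSurjectiveMor (BasedFunctor.comp w z)) ∧
      ∀ {Q : MorphismProperty Scheme.{u}}, EtaleLocalST Q →
        AlgSp.IsSmoothLocalST (LocP Q : MorphismProperty (Sp S)) → (@Smooth : MorphismProperty Scheme.{u}) ≤ Q →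
        AlgSt.LocQ (LocP Q) z → RepByAlgSpWith (LocP Q) (BasedFunctor.comp w z) := by
  obtain ⟨W, w, hw, hw'⟩ := h𝒵.atlas
  have h1 : RepByAlgSp1 (BasedFunctor.comp w z) := repByAlgSp1_chart h𝒴 _
  exact ⟨W, w, hw, hw', h1, fun hz => Points.rep_of_isSurjective h𝒴.isStack.1 (Yoneda.isFibGrpd_overCat W) h1
      (surjective_comp (Points.isSurjective_of_rep h𝒵.isStack.1 hw') hz),
    fun {Q} hQ hP hsm hz => rep_chart_comp_locP hQ hP hsm h𝒵 h𝒴 hz hw⟩

/-- Lifting a smooth chart along a surjective chart, smoothly over the latter. -/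
theorem exists_smooth_lift (h𝒴 : IsAlgStack Scheme.fppfPrecoverage 𝒴) {V W : Over S}
    {y : overCat V ⥤ᵇ 𝒴} (hy : RepByAlgSpWith (LocP @Smooth) y) {z : overCat W ⥤ᵇ 𝒴}
    (hz : RepByAlgSpWith IsSurjectiveMor z) :
    ∃ (T : Over S) (s : T ⟶ V) (u : overCat T ⥤ᵇ overCat W), RepByAlgSpWith (LocP @Smooth) u ∧
      Surjective s.left ∧ Nonempty (BasedFunctor.comp (overMap s) y ≅ BasedFunctor.comp u z) ∧
      ∀ {Q : MorphismProperty Scheme.{u}}, EtaleLocalST Q → (@Smooth : MorphismProperty Scheme.{u}) ≤ Q →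
        RepByAlgSpWith (LocP Q) z → Q s.left := by
  have hF := Basic.isAlgStack_fp h𝒴 (Basic.isAlgStack_overCat V) (Basic.isAlgStack_overCat W) y z
  obtain ⟨T, c, hc, hc'⟩ := hF.atlas
  obtain ⟨s, ⟨ι⟩⟩ := Points.exists_iso_overMap (BasedFunctor.comp c (fpFst y z))
  refine ⟨T, s, BasedFunctor.comp c (fpSnd y z),
    IsAlgFp.comp_locP smoothST (Yoneda.isFibGrpd_overCat T) hF.isStack.1 hc (Sep.Rep.fpSnd_of z hy),
    surjective_of_iso_overMap (surjective_comp (Points.isSurjective_of_rep hF.isStack.1 hc')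
      (Basic.surjective_fpFst (Yoneda.isFibGrpd_overCat W) h𝒴.isStack.1 (Yoneda.isFibGrpd_overCat V) y
        (Points.isSurjective_of_rep h𝒴.isStack.1 hz))) ι,
    ⟨BasedBasic.isoWhiskerRight ι.symm y ≪≫ BasedBasic.isoWhiskerLeft c (fpIso y z)⟩,
    fun {Q} hQ hsm hzQ => AlgSp.locP_yon_map (prop_of_rep_overMap (IsAlgFp.respectsIsoSp_locP hQ)
      (IsAlgFp.detected_locP hQ) (Rep.repByAlgSpWith_of_iso ι
        (IsAlgFp.comp_locP hQ (Yoneda.isFibGrpd_overCat T) hF.isStack.1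
          (Rep.repByAlgSpWith_mono hc fun _ _ _ _ _ h => SmLocal.locP_mono hsm h)
          (Rep.repByAlgSpWith_fpFst y hzQ))))⟩

/-- A square for a morphism gives one for its base change. -/
theorem prop_of_base_square {P : MorphismProperty (Sp S)} (hP : AlgSp.IsSmoothLocalST P)
    (h𝒳 : IsAlgStack Scheme.fppfPrecoverage 𝒳) (h𝒴 : IsAlgStack Scheme.fppfPrecoverage 𝒴)
    (h𝒵 : IsAlgStack Scheme.fppfPrecoverage 𝒵) {f : 𝒳 ⥤ᵇ 𝒴} {z : 𝒵 ⥤ᵇ 𝒴}
    (hf : AlgSt.LocQ P (fpFst z f)) {U V T R : Over S} {y : overCat V ⥤ᵇ 𝒴}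
    {a : overCat U ⥤ᵇ fp f y} (ha : RepByAlgSpWith (LocP @Smooth) a) {k : U ⟶ V}
    (ι : BasedFunctor.comp a (fpSnd f y) ≅ overMap k) {s : T ⟶ V} {u : overCat T ⥤ᵇ 𝒵}
    (hu : RepByAlgSpWith (LocP @Smooth) u)
    (β : BasedFunctor.comp (overMap s) y ≅ BasedFunctor.comp u z) {p : R ⟶ U} {q : R ⟶ T}
    (sq : IsPullback ((yon S).map p) ((yon S).map q) ((yon S).map k) ((yon S).map s)) :
    P ((yon S).map q) := by
  have := BasedBasic.IsEquivOver.full (Rep.isEquivOver_toOverCat V)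
  have := BasedBasic.IsEquivOver.faithful (Rep.isEquivOver_toOverCat V)
  have k1 := BasedBasic.IsEquivOver.comp (Rep.isEquivOver_ofOverCat R)
    (BasedBasic.IsEquivOver.comp (Space.isEquivOver_sqLift (sq.map (sheafToPresheaf _ _)))
      (FibProd.isEquivOver_fpMap (F := overMap k) (G := overMap s) (F' := ofSpMap ((yon S).map k))
        (G' := ofSpMap ((yon S).map s)) (toOverCat U) (toOverCat T) (toOverCat V) (Iso.refl _)
        (Iso.refl _) (Rep.isEquivOver_toOverCat U) (Rep.isEquivOver_toOverCat T)))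
  let E₁ : overCat R ⥤ᵇ fp (overMap k) (overMap s) := BasedFunctor.comp (ofOverCat R)
    (BasedFunctor.comp (Space.sqLift (sq.map (sheafToPresheaf _ _)).w)
      (fpMap (F := overMap k) (G := overMap s) (F' := ofSpMap ((yon S).map k))
        (G' := ofSpMap ((yon S).map s)) (toOverCat U) (toOverCat T) (toOverCat V) (Iso.refl _)
        (Iso.refl _)))
  obtain ⟨i, hi, ⟨ε⟩⟩ := exists_inverse_over
    (Rep.isEquivOver_pasteBase a (fpSnd f y) (overMap s))
    (π := BasedFunctor.comp (fpSnd a (fpFst (fpSnd f y) (overMap s))) (fpSnd (fpSnd f y) (overMap s)))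
    (π' := fpSnd (BasedFunctor.comp a (fpSnd f y)) (overMap s)) (Iso.refl _)
  let E₂ := BasedFunctor.comp E₁ (BasedFunctor.comp (congrLeft ι.symm (overMap s)) i)
  have hE₂ : IsEquivOver E₂ := BasedBasic.IsEquivOver.comp (show IsEquivOver E₁ from k1)
    (BasedBasic.IsEquivOver.comp (FibProd.isEquivOver_congrLeft ι.symm (overMap s)) hi)
  obtain ⟨j, hj, ⟨εj⟩⟩ := exists_inverse_over
    (BasedBasic.IsEquivOver.comp (BasedBasic.IsEquivOver.comp
      (FibProd.isEquivOver_swap (fpFst z f) u) (Rep.isEquivOver_pasteBase u z f))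
      (FibProd.isEquivOver_swap (BasedFunctor.comp u z) f))
    (π := fpSnd (fpFst z f) u) (π' := fpSnd f (BasedFunctor.comp u z)) (Iso.refl _)
  let M := BasedFunctor.comp (Rep.pasteComp f y (overMap s)) (BasedFunctor.comp (congrRight f β) j)
  have hM : IsEquivOver M := BasedBasic.IsEquivOver.comp (Rep.isEquivOver_pasteComp f y (overMap s))
    (BasedBasic.IsEquivOver.comp (FibProd.isEquivOver_congrRight f β) hj)
  let Φ := BasedFunctor.comp (BasedFunctor.comp E₂ (fpSnd a (fpFst (fpSnd f y) (overMap s)))) M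
  have hΦ : RepByAlgSpWith (LocP @Smooth) Φ := rep_postcomp_equiv hM (rep_precomp_equiv hE₂
    (Sep.Rep.fpSnd_of (fpFst (fpSnd f y) (overMap s)) ha))
  let P₁ := BasedFunctor.comp (BasedFunctor.comp E₂ (fpSnd a (fpFst (fpSnd f y) (overMap s))))
    (BasedFunctor.comp (Rep.pasteComp f y (overMap s)) (congrRight f β))
  let e₁ : BasedFunctor.comp Φ (fpSnd (fpFst z f) u) ≅
      BasedFunctor.comp P₁ (fpSnd f (BasedFunctor.comp u z)) := BasedBasic.isoWhiskerLeft P₁ εj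
  let e₂ : BasedFunctor.comp P₁ (fpSnd f (BasedFunctor.comp u z)) ≅ Lft.vOf q :=
    BasedBasic.isoWhiskerLeft (BasedFunctor.comp E₁ (congrLeft ι.symm (overMap s))) ε
  exact prop_of_locQ hP (Basic.isAlgStack_fp h𝒴 h𝒵 h𝒳 z f) h𝒵 hf (Or.inl hu) hΦ
    (show _ ≅ overMap q from e₁ ≪≫ e₂)

/-- Descent along coverings of the target. -/
theorem locQ_of_cover {P : MorphismProperty (Sp S)} (hP : AlgSp.IsSmoothLocalST P)
    (h𝒳 : IsAlgStack Scheme.fppfPrecoverage 𝒳) (h𝒴 : IsAlgStack Scheme.fppfPrecoverage 𝒴)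
    (h𝒵 : IsAlgStack Scheme.fppfPrecoverage 𝒵) {f : 𝒳 ⥤ᵇ 𝒴} {z : 𝒵 ⥤ᵇ 𝒴}
    (hz : AlgSt.IsSurjective z) (hf : AlgSt.LocQ P (fpFst z f))
    (h : ∀ ⦃U V T R : Over S⦄ (k : U ⟶ V) (s : T ⟶ V) (p : R ⟶ U) (q : R ⟶ T),
      IsPullback ((yon S).map p) ((yon S).map q) ((yon S).map k) ((yon S).map s) →
      Surjective s.left →
      (∀ {Q : MorphismProperty Scheme.{u}}, EtaleLocalST Q →
        AlgSp.IsSmoothLocalST (LocP Q : MorphismProperty (Sp S)) → (@Smooth : MorphismProperty Scheme.{u}) ≤ Q →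
        AlgSt.LocQ (LocP Q) z → Q s.left) →
      P ((yon S).map q) → P ((yon S).map k)) : AlgSt.LocQ P f := by
  obtain ⟨V, y, hy, hy'⟩ := h𝒴.atlas
  obtain ⟨U, a, k, ha, ha', ⟨ι⟩⟩ := exists_square h𝒳 h𝒴 f y
  obtain ⟨W, w, hw, -, -, hws, hwQ⟩ := exists_cover_chart h𝒵 h𝒴 z
  obtain ⟨T, s, u, hu, hs, ⟨β⟩, hsQ⟩ := exists_smooth_lift h𝒴 hy (hws hz)
  obtain ⟨R, p, q, sq⟩ := Lib.AlgSpace.exists_isPullback_yon (IsAlgSpace.yon_obj V).diag
    ((yon S).map k) ((yon S).map s)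
  exact locQ_of_square h𝒳 h𝒴 hy hy' ha ha' ι (h k s p q sq hs
    (fun {Q} hQ hPQ hsm hzQ => hsQ hQ hsm (hwQ hQ hPQ hsm hzQ))
    (prop_of_base_square hP h𝒳 h𝒴 h𝒵 hf ha ι (u := BasedFunctor.comp u w)
      (IsAlgFp.comp_locP smoothST (Yoneda.isFibGrpd_overCat T) (Yoneda.isFibGrpd_overCat W) hu hw)
      β sq))

/-- Descent of a property fppf local on the base. -/
theorem locQ_of_fppf_cover {P : MorphismProperty (Sp S)} (hP : AlgSp.IsSmoothLocalST P)
    (hl : AlgSp.IsLocalOnBase AlgSp.IsFppfCover P)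
    (h𝒳 : IsAlgStack Scheme.fppfPrecoverage 𝒳) (h𝒴 : IsAlgStack Scheme.fppfPrecoverage 𝒴)
    (h𝒵 : IsAlgStack Scheme.fppfPrecoverage 𝒵) {f : 𝒳 ⥤ᵇ 𝒴} {z : 𝒵 ⥤ᵇ 𝒴}
    (h₁ : AlgSt.LocQ (LocP @Flat) z) (h₂ : AlgSt.LocQ (LocP @LocallyOfFinitePresentation) z)
    (h₃ : AlgSt.IsSurjective z) (hf : AlgSt.LocQ P (fpFst z f)) : AlgSt.LocQ P f :=
  locQ_of_cover hP h𝒳 h𝒴 h𝒵 h₃ hf fun U V T R k s p q sq hs hQ hq => by
    have hfl : Flat s.left := hQ Lib.SourceDescent.Scheme.flat SmLocal.isSmoothLocalST_flat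
      (fun _ _ g (_ : Smooth g) => inferInstanceAs (Flat g)) h₁
    have hfp : LocallyOfFinitePresentation s.left := hQ
      Lib.SourceDescent.Scheme.locallyOfFinitePresentation SmLocal.isSmoothLocalST_lfp
      (fun _ _ g (_ : Smooth g) => inferInstanceAs (LocallyOfFinitePresentation g)) h₂
    refine (hl (fun _ : PUnit.{u + 1} => (yon S).obj T) (fun _ => (yon S).map s)
      (IsAlgSpace.yon_obj V) (fun _ => IsAlgSpace.yon_obj T) ⟨fun _ => ⟨?_, ?_⟩, fun v => ⟨⟨⟩, ?_⟩⟩ _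
      (IsAlgSpace.yon_obj U) (fun _ => (yon S).obj R) (fun _ => (yon S).map q) (fun _ => (yon S).map p)
      (fun _ => IsAlgSpace.yon_obj R) (fun _ => sq)).2 fun _ => hq
    · exact Lib.AlgSpMor.LocP.locP_of_repWith Lib.SourceDescent.Scheme.flat
        ((AlgSp.repWith_yon_map_iff _ _).2 hfl)
    · exact Lib.AlgSpMor.LocP.locP_of_repWith Lib.SourceDescent.Scheme.locallyOfFinitePresentation
        ((AlgSp.repWith_yon_map_iff _ _).2 hfp)
    · exact Lib.AlgSpace.surjective_map ((AlgSp.repWith_yon_map_iff _ _).2 hs) v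

end Groth.Agent.H14.Chart.LocQ
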