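import Groth.Agent.H14.Chart.LocQ3
import Groth.Agent.H14.Chart.QC2
import Groth.Agent.Lib.AlgSpMor.Cancel
import Groth.Agent.Lib.Henselian.NoetherianCriterion
import Groth.Agent.H14.Sep.SpProps2
import Mathlib.AlgebraicGeometry.Sites.MorphismProperty

/-!
Locally Noetherian stacks, immersions, openness and fppf coverings through smooth squares.
-/

set_option autoImplicit false
set_option backward.isDefEq.respectTransparency false
set_option backward.isDefEq.respectTransparency.types false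

universe v₂ w₂ v₁ w₁ u

open CategoryTheory CategoryTheory.Limits AlgebraicGeometry

namespace Groth.Agent.H14.Chart.LocQ

open Groth.Agent.Lib.AlgStack
open Groth.Agent.H14.Sep
open Groth.Agent.Lib.AlgStack.FibProd (fpMap congrLeft congrRight swap)
open FibCat (IsEquivOver fp fpFst fpSnd fpLift fpIso overCat IsFibGrpd toSelf)
open AlgSt (ofSp ofSpMap ofOverCat toOverCat spMapOfOver overMap RepByAlgSp1 RepByAlgSpWith IsAlgStack)
open AlgSp (Sp yon IsAlgSpace LocP RepWith IsSurjectiveMor)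
open Groth.Agent.Lib.SourceDescent.Scheme (EtaleLocalST)

variable {S : Scheme.{u}} {𝒳 𝒴 𝒵 : AlgSt.Cat S}

/-- Local Noetherianness descends along flat surjective morphisms which are open. -/
theorem isLocallyNoetherian_of_smooth_surjective {X X' : Scheme.{u}} (e : X' ⟶ X) [Smooth e]
    [Surjective e] [IsLocallyNoetherian X'] : IsLocallyNoetherian X := by
  have key : ∀ x : X, ∃ D : X.affineOpens, x ∈ D.1 ∧ IsNoetherianRing Γ(X, D.1) := fun x => by
    obtain ⟨x', rfl⟩ := e.surjective x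
    obtain ⟨V, hV, hxV, -⟩ := exists_isAffineOpen_mem_and_subset (X := X) (x := e x') (U := ⊤)
      (Set.mem_univ _)
    obtain ⟨W, hW, hxW, hWV⟩ := exists_isAffineOpen_mem_and_subset (X := X') (x := x')
      (U := e ⁻¹ᵁ V) hxV
    obtain ⟨b, hb, hxb⟩ := hV.exists_basicOpen_le
      (V := ⟨_, e.isOpenMap _ W.2⟩) ⟨e x', x', hxW, rfl⟩ hxV
    let b' := e.appLE V W hWV b
    have hb' : X'.basicOpen b' = W ⊓ e ⁻¹ᵁ X.basicOpen b := by
      simp [b', Scheme.Hom.appLE, Scheme.preimage_basicOpen]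
    have heb : X'.basicOpen b' ≤ e ⁻¹ᵁ X.basicOpen b := by rw [hb']; exact inf_le_right
    have hDaff : IsAffineOpen (X.basicOpen b) := hV.basicOpen b
    have hWaff : IsAffineOpen (X'.basicOpen b') := hW.basicOpen b'
    have : IsAffine (X.basicOpen b : Scheme.{u}) := hDaff
    have : IsAffine (X'.basicOpen b' : Scheme.{u}) := hWaff
    let t := e.resLE (X.basicOpen b) (X'.basicOpen b') heb
    have hts : Surjective t := ⟨fun d ↦ by
      obtain ⟨w, hw, hwd⟩ : d.1 ∈ e '' (W : Set X') := hb d.2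
      have hwb : w ∈ X'.basicOpen b' := by
        rw [hb']; exact ⟨hw, show e w ∈ X.basicOpen b from hwd ▸ d.2⟩
      exact ⟨⟨w, hwb⟩, Subtype.ext ((show (t ≫ (X.basicOpen b).ι) ⟨w, hwb⟩ = e w by
        rw [Scheme.Hom.resLE_comp_ι]; rfl).trans hwd)⟩⟩
    have hff : t.appTop.hom.FaithfullyFlat :=
      (Flat.flat_and_surjective_iff_faithfullyFlat_of_isAffine (f := t)).mp ⟨inferInstance, hts⟩
    have hN : IsNoetherianRing Γ((X'.basicOpen b' : Scheme.{u}), ⊤) :=
      IsLocallyNoetherian.component_noetherian ⟨⊤, isAffineOpen_top _⟩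
    algebraize [t.appTop.hom]
    have := Groth.Agent.Lib.Henselian.NoetherianCriterion.isNoetherianRing_of_faithfullyFlat
      (S := Γ((X'.basicOpen b' : Scheme.{u}), ⊤)) Γ((X.basicOpen b : Scheme.{u}), ⊤)
    exact ⟨⟨X.basicOpen b, hDaff⟩, hxb, isNoetherianRing_of_ringEquiv
      Γ((X.basicOpen b : Scheme.{u}), ⊤) (X.basicOpen b).topIso.commRingCatIsoToRingEquiv⟩
  choose D hD hN using key
  exact isLocallyNoetherian_of_affine_cover
    (eq_top_iff.2 fun x _ => TopologicalSpace.Opens.mem_iSup.2 ⟨x, hD x⟩) hN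

theorem quasiCompact_of_isImmersion {X Y : Scheme.{u}} (j : X ⟶ Y) [IsImmersion j]
    [IsLocallyNoetherian Y] : QuasiCompact j := by
  rw [← j.liftCoborder_ι]
  infer_instance

/-- The identity chart of a scheme is injective on points. -/
theorem injective_ofChart_id {V : Over S} {v v' : ↥V.left}
    (h : AlgSt.Points.ofChart (BasedFunctor.id (overCat V)) v =
      AlgSt.Points.ofChart (BasedFunctor.id (overCat V)) v') : v = v' := by
  obtain ⟨W, a, c, w, ha, hc, ⟨θ⟩⟩ := Points.exists_of_ofChart_eq (Yoneda.isFibGrpd_overCat V) h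
  have hac : a = c := by
    apply (yon S).map_injective
    rw [← Points.spMap_toOverCat_overMap, ← Points.spMap_toOverCat_overMap]
    exact Rep.spMapOfOver_eq_of_iso (BasedBasic.isoWhiskerLeft (toOverCat W) θ)
  exact ha.symm.trans (hac ▸ hc)

/-- A morphism locally of finite type carries local Noetherianness to the source. -/
theorem smoothLocally_noetherian (h𝒳 : IsAlgStack Scheme.fppfPrecoverage 𝒳)
    (h𝒴 : IsAlgStack Scheme.fppfPrecoverage 𝒴) {f : 𝒳 ⥤ᵇ 𝒴}
    (hf : AlgSt.LocQ (LocP @LocallyOfFiniteType) f)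
    (hY : AlgSt.SmoothLocally (fun T ↦ IsLocallyNoetherian T) 𝒴) :
    AlgSt.SmoothLocally (fun T ↦ IsLocallyNoetherian T) 𝒳 := by
  intro U x hx
  obtain ⟨V, y, hy, hy'⟩ := h𝒴.atlas
  have : IsLocallyNoetherian V.left := hY V y hy
  have hfy := Basic.isAlgStack_fp h𝒴 h𝒳 (Basic.isAlgStack_overCat V) f y
  have hyf : RepByAlgSpWith (LocP @Smooth) (fpFst f y) := Rep.repByAlgSpWith_fpFst f hy
  have hyf' : AlgSt.IsSurjective (fpFst f y) :=
    Basic.surjective_fpFst (Yoneda.isFibGrpd_overCat V) h𝒴.isStack.1 h𝒳.isStack.1 f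
      (Points.isSurjective_of_rep h𝒴.isStack.1 hy')
  obtain ⟨T, s, u, hu, hs, -, hQ⟩ : ∃ (T : Over S) (s : T ⟶ U) (u : overCat T ⥤ᵇ fp f y),
      RepByAlgSpWith (LocP @Smooth) u ∧ Surjective s.left ∧ True ∧ Smooth s.left := by
    have hF := Basic.isAlgStack_fp h𝒳 (Basic.isAlgStack_overCat U) hfy x (fpFst f y)
    obtain ⟨T, c, hc, hc'⟩ := hF.atlas
    obtain ⟨s, ⟨ι⟩⟩ := Points.exists_iso_overMap (BasedFunctor.comp c (fpFst x (fpFst f y)))
    refine ⟨T, s, BasedFunctor.comp c (fpSnd x (fpFst f y)),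
      IsAlgFp.comp_locP smoothST (Yoneda.isFibGrpd_overCat T) hF.isStack.1 hc (Sep.Rep.fpSnd_of _ hx),
      surjective_of_iso_overMap (surjective_comp (Points.isSurjective_of_rep hF.isStack.1 hc')
        (Basic.surjective_fpFst hfy.isStack.1 h𝒳.isStack.1 (Yoneda.isFibGrpd_overCat U) x hyf')) ι,
      trivial, AlgSp.locP_yon_map (prop_of_rep_overMap (IsAlgFp.respectsIsoSp_locP smoothST)
        (IsAlgFp.detected_locP smoothST) (Rep.repByAlgSpWith_of_iso ι
          (IsAlgFp.comp_locP smoothST (Yoneda.isFibGrpd_overCat T) hF.isStack.1 hc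
            (Rep.repByAlgSpWith_fpFst x hyf))))⟩
  obtain ⟨k, ⟨ι⟩⟩ := Points.exists_iso_overMap (BasedFunctor.comp u (fpSnd f y))
  have hk : LocallyOfFiniteType k.left :=
    AlgSp.locP_yon_map (prop_of_locQ SmLocal.isSmoothLocalST_lft h𝒳 h𝒴 hf (Or.inl hy) hu ι)
  have : IsLocallyNoetherian T.left := LocallyOfFiniteType.isLocallyNoetherian k.left
  exact isLocallyNoetherian_of_smooth_surjective s.left

/-- An immersion into a locally Noetherian stack is quasi-compact. -/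
theorem isQuasiCompactMor_of_imm (h𝒳 : IsAlgStack Scheme.fppfPrecoverage 𝒳)
    (h𝒴 : IsAlgStack Scheme.fppfPrecoverage 𝒴) {j : 𝒳 ⥤ᵇ 𝒴} (hj : AlgSt.IsImm j)
    (hY : AlgSt.SmoothLocally (fun T ↦ IsLocallyNoetherian T) 𝒴) :
    AlgSt.IsQuasiCompactMor Scheme.fppfPrecoverage j := by
  obtain ⟨V, y, hy, hy'⟩ := h𝒴.atlas
  have : IsLocallyNoetherian V.left := hY V y hy
  have hVj := Basic.isAlgStack_fp h𝒴 (Basic.isAlgStack_overCat V) h𝒳 y j
  refine QC2.isQuasiCompactMor_of_cover h𝒳 h𝒴 (Basic.isAlgStack_overCat V) y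
    (Rep.repByAlgSpWith_mono hy fun _ _ _ _ _ h => SmLocal.locP_mono
      (fun _ _ g (_ : Smooth g) => inferInstanceAs (Flat g)) h)
    (Rep.repByAlgSpWith_mono hy fun _ _ _ _ _ h => SmLocal.locP_mono
      (fun _ _ g (_ : Smooth g) => inferInstanceAs (LocallyOfFinitePresentation g)) h) hy'
    ((QC.repByAlgSpWith_qc_iff hVj (Basic.isAlgStack_overCat V)
      (Rep.repByAlgSp1_fpFst y (Rep.repByAlgSp1_of_repByAlgSpWith hj))).1
      (Rep.repByAlgSpWith_mono ?_ fun _ _ _ _ _ h => Lib.AlgSpMor.QC.isQuasiCompactMor_of_repWith h))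
  obtain ⟨G₀, e₀, he₀, h₀⟩ := hj V y
  obtain ⟨V', snd, fst, sq, hv⟩ := Lib.AlgSpace.repWith_exists h₀ (𝟙 _)
  have : IsImmersion snd.left := hv
  have : QuasiCompact snd.left := quasiCompact_of_isImmersion snd.left
  have : IsIso fst := sq.isIso_fst_of_isIso
  have hqc : RepWith @QuasiCompact (spMapOfOver (BasedFunctor.comp e₀ (fpFst y j))) := by
    rw [← Lib.AlgSpace.repWith_iso_comp_iff _ fst, sq.w, Category.comp_id]
    exact (AlgSp.repWith_yon_map_iff _ _).2 ‹QuasiCompact snd.left›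
  exact (Rep.repByAlgSpWith_iff_of_isEquivOver (f := fpFst y j)
    (f' := ofSpMap (spMapOfOver (BasedFunctor.comp e₀ (fpFst y j)))) he₀ (Rep.isEquivOver_toOverCat V)
    (Rep.isoSpMapOfOver _).symm).2
    (Descend.repByAlgSpWith_ofSpMap (SpProps2.stableBC_repWith @QuasiCompact) G₀.property
      (IsAlgSpace.yon_obj V) hqc)

/-- A smooth square for a flat morphism of finite presentation shows that it is open. -/
theorem isOpenMor_of_flat_lfp (h𝒳 : IsAlgStack Scheme.fppfPrecoverage 𝒳)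
    (h𝒴 : IsAlgStack Scheme.fppfPrecoverage 𝒴) {f : 𝒳 ⥤ᵇ 𝒴} (h₁ : AlgSt.LocQ (LocP @Flat) f)
    (h₂ : AlgSt.LocQ (LocP @LocallyOfFinitePresentation) f) : AlgSt.IsOpenMor f := by
  intro O hO V y hy
  obtain ⟨U, a, k, ha, ha', ⟨ι⟩⟩ := exists_square h𝒳 h𝒴 f y
  have hfy := Basic.isAlgStack_fp h𝒴 h𝒳 (Basic.isAlgStack_overCat V) f y
  have : Flat k.left :=
    AlgSp.locP_yon_map (prop_of_locQ SmLocal.isSmoothLocalST_flat h𝒳 h𝒴 h₁ (Or.inl hy) ha ι)
  have : LocallyOfFinitePresentation k.left :=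
    AlgSp.locP_yon_map (prop_of_locQ SmLocal.isSmoothLocalST_lfp h𝒳 h𝒴 h₂ (Or.inl hy) ha ι)
  let x := BasedFunctor.comp a (fpFst f y)
  let β : BasedFunctor.comp x f ≅ BasedFunctor.comp (overMap k) y :=
    BasedBasic.isoWhiskerLeft a (fpIso f y) ≪≫ BasedBasic.isoWhiskerRight ι y
  have heq : AlgSt.Points.ofChart y ⁻¹' (AlgSt.Points.map f '' O) =
      k.left '' (AlgSt.Points.ofChart x ⁻¹' O) := by
    ext v
    constructor
    · rintro ⟨q, hq, hv⟩
      obtain ⟨r, hr₁, hr₂⟩ := Basic.exists_points_fp (g := f) (f := y) (Yoneda.isFibGrpd_overCat V)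
        h𝒴.isStack.1 h𝒳.isStack.1 (p := q)
        (q := AlgSt.Points.ofChart (BasedFunctor.id _) v) (by rw [hv, Points.map_ofChart]; rfl)
      obtain ⟨t, rfl⟩ := Points.surjective_ofChart hfy.isStack.1 ha' r
      refine ⟨t, show AlgSt.Points.ofChart x t ∈ O by rwa [← hr₁, Points.map_ofChart] at hq, ?_⟩
      rw [Points.map_ofChart, Points.ofChart_iso ι] at hr₂
      have h1 : AlgSt.Points.ofChart (BasedFunctor.id (overCat V)) (k.left t) =
          AlgSt.Points.ofChart (BasedFunctor.id (overCat V)) v :=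
        (Points.ofChart_overMap k (BasedFunctor.id _) t).symm.trans hr₂
      exact injective_ofChart_id h1
    · rintro ⟨t, ht, rfl⟩
      refine ⟨_, ht, ?_⟩
      rw [Points.map_ofChart, Points.ofChart_iso β, Points.ofChart_overMap]
  rw [heq]
  exact k.left.isOpenMap _ (hO.preimage (Points.continuous_ofChart h𝒳 x))

/-- An fppf covering of a scheme mapping to a stack refines a jointly surjective family of flat
morphisms of finite presentation. -/
theorem exists_fppf_refinement {J : Type u} {𝒳' : J → AlgSt.Cat S}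
    (h𝒳 : IsAlgStack Scheme.fppfPrecoverage 𝒳)
    (h𝒳' : ∀ j, IsAlgStack Scheme.fppfPrecoverage (𝒳' j)) (f : ∀ j, 𝒳' j ⥤ᵇ 𝒳)
    (hf₁ : ∀ j, AlgSt.LocQ (LocP @Flat) (f j))
    (hf₂ : ∀ j, AlgSt.LocQ (LocP @LocallyOfFinitePresentation) (f j))
    (hf₃ : ∀ p : AlgSt.Points 𝒳, ∃ j, p ∈ Set.range (AlgSt.Points.map (f j)))
    (U : Over S) (x : overCat U ⥤ᵇ 𝒳) :
    ∃ (ι : Type u) (V : ι → Over S) (g : ∀ i, V i ⟶ U) (c : ι → J),
      (Presieve.ofArrows (fun i ↦ (V i).left) fun i ↦ (g i).left) ∈ Scheme.fppfPrecoverage U.left ∧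
      ∀ i, ∃ x' : overCat (V i) ⥤ᵇ 𝒳' (c i),
        Nonempty (BasedFunctor.comp x' (f (c i)) ≅ BasedFunctor.comp (overMap (g i)) x) := by
  have key : ∀ j, ∃ (T : Over S) (s : T ⟶ U) (x' : overCat T ⥤ᵇ 𝒳' j), Flat s.left ∧
      LocallyOfFinitePresentation s.left ∧
      Nonempty (BasedFunctor.comp x' (f j) ≅ BasedFunctor.comp (overMap s) x) ∧
      ∀ u : ↥U.left, AlgSt.Points.ofChart x u ∈ Set.range (AlgSt.Points.map (f j)) →
        u ∈ Set.range s.left := by
    intro j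
    obtain ⟨W, w, hw, hw', -, -, hQ⟩ := exists_cover_chart (h𝒳' j) h𝒳 (f j)
    let z := BasedFunctor.comp w (f j)
    have hfl := hQ Lib.SourceDescent.Scheme.flat SmLocal.isSmoothLocalST_flat
      (fun _ _ g (_ : Smooth g) => inferInstanceAs (Flat g)) (hf₁ j)
    have hfp := hQ Lib.SourceDescent.Scheme.locallyOfFinitePresentation SmLocal.isSmoothLocalST_lfp
      (fun _ _ g (_ : Smooth g) => inferInstanceAs (LocallyOfFinitePresentation g)) (hf₂ j)
    obtain ⟨G, e, he, hG⟩ := hfl U x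
    have hG' := Space.prop_of_rep (IsAlgFp.respectsIsoSp_locP
      Lib.SourceDescent.Scheme.locallyOfFinitePresentation) hfp G.property he
    obtain ⟨T, p, hp, hps⟩ := G.property.atlas
    obtain ⟨s, hs⟩ := (yon S).map_surjective (p ≫ spMapOfOver (BasedFunctor.comp e (fpFst x z)))
    let η : overCat T ⥤ᵇ fp x z := BasedFunctor.comp (ofOverCat T) (BasedFunctor.comp (ofSpMap p) e)
    let ι : BasedFunctor.comp η (fpFst x z) ≅ Lft.vOf s :=
      BasedBasic.isoWhiskerLeft (ofOverCat T)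
        (Rep.isoSpMapOfOver (BasedFunctor.comp (ofSpMap p) (BasedFunctor.comp e (fpFst x z))) ≪≫
          eqToIso (by rw [Rep.spMapOfOver_precomp, hs]))
    have hw'' : p ≫ spMapOfOver (BasedFunctor.comp e (fpFst x z)) = (yon S).map s ≫ 𝟙 _ := by
      rw [Category.comp_id, hs]
    refine ⟨T, s, BasedFunctor.comp (BasedFunctor.comp η (fpSnd x z)) w,
      hG p (𝟙 _) s hp (AlgSp.repWith_id _ _) hw'', hG' p (𝟙 _) s hp (AlgSp.repWith_id _ _) hw'',
      ⟨(BasedBasic.isoWhiskerLeft η (fpIso x z)).symm ≪≫ BasedBasic.isoWhiskerRight ι x⟩, ?_⟩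
    rintro u ⟨q, hq⟩
    obtain ⟨b, rfl⟩ := Points.surjective_ofChart (h𝒳' j).isStack.1 hw' q
    obtain ⟨W', a', b', w', rfl, rfl, ⟨β⟩⟩ := Points.exists_of_ofChart_eq h𝒳.isStack.1 (x := x)
      (y := z) hq.symm
    obtain ⟨g, hg, -⟩ := Points.exists_hom_of_iso he a' (overMap b') β
    obtain ⟨t, ht⟩ := Lib.AlgSpace.surjective_ofPt hps (AlgSp.Points.ofPt g w')
    obtain ⟨W'', c, d, w'', rfl, rfl, hcd⟩ := (Lib.AlgSpace.ofPt_eq_ofPt_iff p g t w').1 ht
    refine ⟨c.left w'', ?_⟩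
    have : c ≫ s = d ≫ a' := (yon S).map_injective (by
      rw [Functor.map_comp, Functor.map_comp, hs, ← hg, reassoc_of% hcd])
    rw [← Scheme.Hom.comp_apply, ← Scheme.Hom.comp_apply, ← Over.comp_left, ← Over.comp_left, this]
  choose T s x' hfl hfp hx' hcov using key
  refine ⟨J, T, s, id, ?_, fun j => ⟨x' j, hx' j⟩⟩
  refine (Scheme.ofArrows_mem_precoverage_iff _).2 ⟨fun u => ?_, fun j => ⟨hfl j, hfp j⟩⟩
  obtain ⟨j, hj⟩ := hf₃ (AlgSt.Points.ofChart x u)
  obtain ⟨t, ht⟩ := hcov j u hj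
  exact ⟨j, t, ht⟩

/-- Squares with charts by algebraic spaces give squares with charts by schemes. -/
theorem locQ_of_space_square {P : MorphismProperty (Sp S)} (hP : AlgSp.IsSmoothLocalST P)
    (h𝒳 : IsAlgStack Scheme.fppfPrecoverage 𝒳) (h𝒴 : IsAlgStack Scheme.fppfPrecoverage 𝒴)
    {f : 𝒳 ⥤ᵇ 𝒴} (U V : AlgSp.Space S) (x : ofSp U.obj ⥤ᵇ 𝒳) (y : ofSp V.obj ⥤ᵇ 𝒴) (h : U ⟶ V)
    (α : BasedFunctor.comp x f ≅ BasedFunctor.comp (ofSpMap h.hom) y)
    (hx : RepByAlgSpWith (LocP @Smooth) x) (hx' : RepByAlgSpWith IsSurjectiveMor x)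
    (hy : RepByAlgSpWith (LocP @Smooth) y) (hh : P h.hom) : AlgSt.LocQ P f := by
  obtain ⟨V', pV, hVe, hVs⟩ := V.property.atlas
  have sq := IsPullback.of_hasPullback h.hom pV
  have hQ : IsAlgSpace (pullback h.hom pV) := Lib.AlgSpace.isAlgSpace_of_isPullback sq
    V.property.diag U.property (IsAlgSpace.yon_obj V')
  obtain ⟨T, p, hp, hps⟩ := hQ.atlas
  obtain ⟨k, hk⟩ := (yon S).map_surjective (p ≫ pullback.snd h.hom pV)
  have : MorphismProperty.IsStableUnderComposition @Etale.{u} :=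
    (inferInstance : MorphismProperty.IsMultiplicative @Etale.{u}).toIsStableUnderComposition
  have : MorphismProperty.IsStableUnderComposition @Surjective.{u} :=
    ⟨fun f g hf hg => by have := hf; have := hg; infer_instance⟩
  let r := p ≫ pullback.fst h.hom pV
  have hre : RepWith @Etale r :=
    Lib.AlgSpace.repWith_comp hp (Lib.AlgSpace.repWith_baseChange sq.flip hVe)
  have hrs : RepWith @Surjective r :=
    Lib.AlgSpace.repWith_comp hps (Lib.AlgSpace.repWith_baseChange sq.flip hVs)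
  have hk' : P ((yon S).map k) := hk ▸ hP.precomp (IsAlgSpace.yon_obj T) hQ (IsAlgSpace.yon_obj V') p
    (pullback.snd h.hom pV) (IsAlg.locP_smooth hp) (hP.baseChange U.property V.property hQ
      (IsAlgSpace.yon_obj V') h.hom pV _ _ sq (IsAlg.locP_smooth hVe) hh)
  have hw : ofSpMap (r ≫ h.hom) = ofSpMap ((yon S).map k ≫ pV) := by
    rw [hk]; simp only [r, Category.assoc, pullback.condition]
  let β : BasedFunctor.comp (BasedFunctor.comp (BasedFunctor.comp (ofOverCat T) (ofSpMap r)) x) f ≅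
      BasedFunctor.comp (Lft.vOf k) (BasedFunctor.comp (BasedFunctor.comp (ofOverCat V') (ofSpMap pV)) y) :=
    BasedBasic.isoWhiskerLeft (BasedFunctor.comp (ofOverCat T) (ofSpMap r)) α ≪≫
      (eqToIso (by
        have h1 : BasedFunctor.comp (ofSpMap r) (ofSpMap h.hom) = ofSpMap (r ≫ h.hom) := rfl
        have h2 : BasedFunctor.comp (ofSpMap ((yon S).map k)) (ofSpMap pV) =
            ofSpMap ((yon S).map k ≫ pV) := rfl
        show BasedFunctor.comp (BasedFunctor.comp (ofOverCat T)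
            (BasedFunctor.comp (ofSpMap r) (ofSpMap h.hom))) y =
          BasedFunctor.comp (BasedFunctor.comp (ofOverCat T) (BasedFunctor.comp
            (ofSpMap ((yon S).map k)) (ofSpMap pV))) y
        rw [h1, h2, hw]) ≪≫
      eqToIso (by
        have h3 := Rep.toOverCat_comp_ofOverCat V'
        show _ = BasedFunctor.comp (BasedFunctor.comp (ofOverCat T) (BasedFunctor.comp
          (ofSpMap ((yon S).map k)) (BasedFunctor.comp (BasedFunctor.comp (toOverCat V') (ofOverCat V'))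
            (ofSpMap pV)))) y
        rw [h3]; rfl))
  have hU := Stk.isFibGrpd_ofPsh U.obj.obj
  exact ⟨T, V', _, _, k, β,
    IsAlgFp.comp_locP smoothST (Yoneda.isFibGrpd_overCat T) hU
      (IsAlg.repByAlgSpWith_atlas hre hrs fun _ _ q hq _ => IsAlg.locP_smooth hq) hx,
    IsAlgFp.comp_surjective (Yoneda.isFibGrpd_overCat T) hU
      (IsAlg.repByAlgSpWith_atlas hre hrs fun _ _ q _ hq => Lib.AlgSpace.surjective_map hq) hx',
    IsAlgFp.comp_locP smoothST (Yoneda.isFibGrpd_overCat V') (Stk.isFibGrpd_ofPsh V.obj.obj)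
      (IsAlg.repByAlgSpWith_atlas hVe hVs fun _ _ q hq _ => IsAlg.locP_smooth hq) hy, hk'⟩

end Groth.Agent.H14.Chart.LocQ
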