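import Groth.Agent.H14.Chart.OpenSub2
import Groth.Agent.H14.Chart.LocQ2
import Groth.Agent.H14.Chart.SmLocal
import Groth.Agent.H14.FppfDesc.Scheme

/-!
The largest open substack on which a morphism is smooth.
-/

set_option autoImplicit false
set_option backward.isDefEq.respectTransparency false
set_option backward.isDefEq.respectTransparency.types false

universe u

open CategoryTheory CategoryTheory.Limits AlgebraicGeometry

namespace Groth.Agent.H14.Chart.OpenSmooth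

open Groth.Agent.Lib.AlgStack
open Groth.Agent.H14.Sep
open Groth.Agent.H14.Chart.OpenSub
open FibCat (IsEquivOver fp fpFst fpSnd fpLift fpIso overCat IsFibGrpd toSelf)
open AlgSt (ofSp ofSpMap ofOverCat toOverCat spMapOfOver overMap RepByAlgSp1 RepByAlgSpWith IsAlgStack
  fullSub subIncl IsOpenSubstack IsOpenImm)
open AlgSp (Sp yon IsAlgSpace LocP RepWith IsSurjectiveMor)

/-! ### Schemes -/

/-- The union of the open sets on which a morphism is smooth. -/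
def smOpen {X Y : Scheme.{u}} (k : X ⟶ Y) : X.Opens := sSup {O : X.Opens | Smooth (O.ι ≫ k)}

theorem le_smOpen {X Y : Scheme.{u}} {k : X ⟶ Y} {O : X.Opens} (h : Smooth (O.ι ≫ k)) :
    O ≤ smOpen k :=
  le_sSup h

theorem smooth_smOpen {X Y : Scheme.{u}} (k : X ⟶ Y) : Smooth ((smOpen k).ι ≫ k) := by
  let ι := {O : X.Opens // Smooth (O.ι ≫ k)}
  refine IsZariskiLocalAtSource.of_iSup_eq_top
    (U := fun i : ι => (smOpen k).ι ⁻¹ᵁ i.1) ?_ fun i => ?_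
  · refine top_le_iff.1 fun x _ => ?_
    obtain ⟨O, hO, hx⟩ := TopologicalSpace.Opens.mem_sSup.1 x.2
    exact TopologicalSpace.Opens.mem_iSup.2 ⟨⟨O, hO⟩, hx⟩
  · have := i.2
    let l : ((smOpen k).ι ⁻¹ᵁ i.1).toScheme ⟶ i.1.toScheme := (smOpen k).ι ∣_ i.1
    have hl : Smooth l := inferInstanceAs (Smooth ((smOpen k).ι ∣_ i.1))
    have : ((smOpen k).ι ⁻¹ᵁ i.1).ι ≫ (smOpen k).ι ≫ k = l ≫ i.1.ι ≫ k := by
      rw [← Category.assoc, ← morphismRestrict_ι, Category.assoc]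
    rw [this]
    infer_instance

theorem range_subset_smOpen {T X Y : Scheme.{u}} (j : T ⟶ X) [IsOpenImmersion j] (k : X ⟶ Y)
    (h : Smooth (j ≫ k)) : Set.range j ⊆ (smOpen k : Set X) := by
  have e : j.isoOpensRange.inv ≫ j = j.opensRange.ι := j.isoOpensRange_inv_comp
  have : Smooth (j.opensRange.ι ≫ k) := by
    rw [← e, Category.assoc]
    infer_instance
  exact le_smOpen this

/-- The image under a smooth map of an open on which the composite is smooth. -/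
theorem image_subset_smOpen {U V W : Scheme.{u}} (g : U ⟶ V) [Smooth g] (k : V ⟶ W) {O : U.Opens}
    (h : Smooth (O.ι ≫ g ≫ k)) : g '' (O : Set U) ⊆ (smOpen k : Set V) := by
  have : UniversallyOpen g := inferInstance
  let O' : V.Opens := ⟨g '' O, g.isOpenMap _ O.2⟩
  have hle : O ≤ g ⁻¹ᵁ O' := fun x hx => ⟨x, hx, rfl⟩
  let l : O.toScheme ⟶ O'.toScheme := g.resLE O' O hle
  have hl : l ≫ O'.ι = O.ι ≫ g := Scheme.Hom.resLE_comp_ι g hle
  have : Smooth l := inferInstanceAs (Smooth (g.resLE O' O hle))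
  have : Surjective l := ⟨fun v => by
    obtain ⟨x, hx, hxv⟩ := v.2
    refine ⟨⟨x, hx⟩, Subtype.ext ?_⟩
    have : (l ≫ O'.ι) ⟨x, hx⟩ = g x := by rw [hl]; rfl
    exact this.trans hxv⟩
  have : Smooth (l ≫ O'.ι ≫ k) := by rwa [← Category.assoc, hl, Category.assoc]
  exact le_smOpen (Groth.Agent.H14.FppfDesc.Scheme.smooth_of_comp l (O'.ι ≫ k) this)

/-! ### Stacks -/

variable {S : Scheme.{u}} {𝒳 𝒴 : AlgSt.Cat S}

theorem isSmoothLocalST_smooth : AlgSp.IsSmoothLocalST (LocP @Smooth : MorphismProperty (Sp S)) :=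
  SmLocal.isSmoothLocalST_locP LocQ.smoothST le_rfl fun e f he hs h =>
    have := he; have := hs
    Groth.Agent.H14.FppfDesc.Scheme.smooth_of_comp e f h

/-- On a square, the source part of an open substack on which the morphism is smooth lies in the smooth
locus of the map of schemes. -/
theorem preimage_subset_smOpen (h𝒳 : IsAlgStack Scheme.fppfPrecoverage 𝒳)
    (h𝒴 : IsAlgStack Scheme.fppfPrecoverage 𝒴) (f : 𝒳 ⥤ᵇ 𝒴) {U V : Over S} {y : overCat V ⥤ᵇ 𝒴}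
    (hy : RepByAlgSpWith (LocP @Smooth) y) {a : overCat U ⥤ᵇ fp f y}
    (ha : RepByAlgSpWith (LocP @Smooth) a) {k : U ⟶ V}
    (ι : BasedFunctor.comp a (fpSnd f y) ≅ overMap k) {W : Set (AlgSt.Points 𝒳)} (hW : IsOpen W)
    (hf : AlgSt.LocQ (LocP @Smooth) (BasedFunctor.comp (subIncl 𝒳 (sub h𝒳.isStack.1 W)) f)) :
    AlgSt.Points.ofChart (BasedFunctor.comp a (fpFst f y)) ⁻¹' W ⊆ (smOpen k.left : Set U.left) := by
  let incl := subIncl 𝒳 (sub h𝒳.isStack.1 W)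
  let x := BasedFunctor.comp a (fpFst f y)
  obtain ⟨T', j, hj, E, hE, hEj, hr⟩ :=
    exists_fp_equiv h𝒳.isStack.1 x (hW.preimage (Points.continuous_ofChart h𝒳 x))
  let π := fpFst (fpFst f y) incl
  obtain ⟨i, hi, ⟨εi⟩⟩ := LocQ.exists_inverse_over
    (Rep.isEquivOver_pasteBase a (fpFst f y) incl)
    (π := fpFst a π) (π' := fpFst x incl) (Iso.refl _)
  let Ei := BasedFunctor.comp E i
  let Ψ := BasedFunctor.comp Ei (fpSnd a π)
  have hΨ : RepByAlgSpWith (LocP @Smooth) Ψ :=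
    LocQ.rep_precomp_equiv (BasedBasic.IsEquivOver.comp hE hi) (Sep.Rep.fpSnd_of π ha)
  let Λ := BasedFunctor.comp (FibProd.swap (fpFst f y) incl) (Rep.pasteBase incl f y)
  have hΛ : IsEquivOver Λ := BasedBasic.IsEquivOver.comp (FibProd.isEquivOver_swap _ _)
    (Rep.isEquivOver_pasteBase incl f y)
  let Φ := BasedFunctor.comp Ψ Λ
  have hΦ : RepByAlgSpWith (LocP @Smooth) Φ := LocQ.rep_postcomp_equiv hΛ hΨ
  let e₁ : BasedFunctor.comp Φ (fpSnd (BasedFunctor.comp incl f) y) ≅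
      BasedFunctor.comp (BasedFunctor.comp Ei (BasedFunctor.comp (fpSnd a π) π)) (fpSnd f y) :=
    Iso.refl _
  let e₂ : BasedFunctor.comp (BasedFunctor.comp Ei (BasedFunctor.comp (fpSnd a π) π)) (fpSnd f y) ≅
      BasedFunctor.comp (BasedFunctor.comp Ei (fpFst a π)) (BasedFunctor.comp a (fpSnd f y)) :=
    BasedBasic.isoWhiskerRight (BasedBasic.isoWhiskerLeft Ei (fpIso a π).symm) (fpSnd f y)
  let e₃ : BasedFunctor.comp Ei (fpFst a π) ≅ overMap j :=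
    BasedBasic.isoWhiskerLeft E εi ≪≫ eqToIso hEj
  let e₄ : BasedFunctor.comp Φ (fpSnd (BasedFunctor.comp incl f) y) ≅ overMap (j ≫ k) :=
    e₁ ≪≫ e₂ ≪≫ BasedBasic.isoWhiskerRight e₃ _ ≪≫ BasedBasic.isoWhiskerLeft (overMap j) ι ≪≫
      eqToIso (LocQ.overMap_comp j k)
  have h := AlgSp.locP_yon_map (LocQ.prop_of_locQ isSmoothLocalST_smooth (isAlgStack_sub h𝒳 hW) h𝒴
    hf (Or.inl hy) hΦ e₄)
  rw [← hr]
  exact range_subset_smOpen j.left k.left h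

theorem injective_map_subIncl (h : IsFibGrpd 𝒳.p) {W : Set (AlgSt.Points 𝒳)}
    {a b : AlgSt.Points (fullSub 𝒳 (sub h W))}
    (e : AlgSt.Points.map (subIncl 𝒳 (sub h W)) a = AlgSt.Points.map (subIncl 𝒳 (sub h W)) b) :
    a = b :=
  exists_image.injective_map_subIncl h (fun _ _ φ hx => sub_of_hom h φ hx) e

/-- A smooth chart covering an open set, as a chart of the open substack. -/
theorem exists_chart_of_range (h𝒳 : IsAlgStack Scheme.fppfPrecoverage 𝒳) {U : Over S}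
    {c : overCat U ⥤ᵇ 𝒳} (hc : RepByAlgSpWith (LocP @Smooth) c) {W : Set (AlgSt.Points 𝒳)}
    (hW : Set.range (AlgSt.Points.ofChart c) = W) :
    ∃ g : overCat U ⥤ᵇ fullSub 𝒳 (sub h𝒳.isStack.1 W),
      RepByAlgSpWith (LocP @Smooth) g ∧ RepByAlgSpWith IsSurjectiveMor g ∧
        Nonempty (BasedFunctor.comp g (subIncl 𝒳 (sub h𝒳.isStack.1 W)) ≅ c) := by
  have h := h𝒳.isStack.1
  have hcW : ∀ a, sub h W (c.obj a) := fun a => by
    change rangeObj h (c.obj a) ⊆ W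
    rw [rangeObj_obj, ← hW]
    exact Set.image_subset_range _ _
  let g : overCat U ⥤ᵇ fullSub 𝒳 (sub h W) :=
    { toFunctor := ObjectProperty.lift _ c.toFunctor hcW
      w := c.w }
  have hg : RepByAlgSpWith (LocP @Smooth) g := rep_of_comp_subIncl g hc
  refine ⟨g, hg, Points.rep_of_isSurjective (isStack_sub h𝒳 W).1 (Yoneda.isFibGrpd_overCat U)
    (Rep.repByAlgSp1_of_repByAlgSpWith hg) ?_, ⟨Iso.refl _⟩⟩
  intro q
  obtain ⟨t, ht⟩ : AlgSt.Points.map (subIncl 𝒳 (sub h W)) q ∈ Set.range (AlgSt.Points.ofChart c) := by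
    rw [hW]; exact (range_map_sub h W).subset ⟨q, rfl⟩
  refine ⟨AlgSt.Points.ofChart (BasedFunctor.id _) t, injective_map_subIncl h ?_⟩
  rw [← ht]
  rfl

theorem exists_restrict (h𝒳 : IsAlgStack Scheme.fppfPrecoverage 𝒳) (f : 𝒳 ⥤ᵇ 𝒴) {U V : Over S}
    {y : overCat V ⥤ᵇ 𝒴} (hy : RepByAlgSpWith (LocP @Smooth) y) {c : overCat U ⥤ᵇ 𝒳}
    (hc : RepByAlgSpWith (LocP @Smooth) c) (h : U ⟶ V) (hh : Smooth h.left)
    (α : BasedFunctor.comp c f ≅ BasedFunctor.comp (overMap h) y) {W : Set (AlgSt.Points 𝒳)}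
    (hW : Set.range (AlgSt.Points.ofChart c) = W) :
    AlgSt.LocQ (LocP @Smooth) (BasedFunctor.comp (subIncl 𝒳 (sub h𝒳.isStack.1 W)) f) := by
  obtain ⟨g, hg, hgs, ⟨ε⟩⟩ := exists_chart_of_range h𝒳 hc hW
  exact ⟨U, V, g, y, h, BasedBasic.isoWhiskerRight ε f ≪≫ α, hg, hgs, hy,
    Lib.AlgSpMor.LocP.locP_of_repWith LocQ.smoothST ((AlgSp.repWith_yon_map_iff _ _).2 hh)⟩

/-- The smooth locus of a morphism on the source: the image of the smooth locus on any square. -/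
theorem exists_largest (h𝒳 : IsAlgStack Scheme.fppfPrecoverage 𝒳)
    (h𝒴 : IsAlgStack Scheme.fppfPrecoverage 𝒴) (f : 𝒳 ⥤ᵇ 𝒴) {U V : Over S}
    {y : overCat V ⥤ᵇ 𝒴} (hy : RepByAlgSpWith (LocP @Smooth) y)
    (hy' : RepByAlgSpWith IsSurjectiveMor y) {a : overCat U ⥤ᵇ fp f y}
    (ha : RepByAlgSpWith (LocP @Smooth) a) (ha' : RepByAlgSpWith IsSurjectiveMor a) {k : U ⟶ V}
    (ι : BasedFunctor.comp a (fpSnd f y) ≅ overMap k) :
    ∃ W : Set (AlgSt.Points 𝒳), IsOpen W ∧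
      AlgSt.Points.ofChart (BasedFunctor.comp a (fpFst f y)) ⁻¹' W = (smOpen k.left : Set U.left) ∧
      AlgSt.LocQ (LocP @Smooth) (BasedFunctor.comp (subIncl 𝒳 (sub h𝒳.isStack.1 W)) f) ∧
      ∀ Q' : 𝒳.obj → Prop, IsOpenSubstack 𝒳 Q' Scheme.fppfPrecoverage →
        AlgSt.LocQ (LocP @Smooth) (BasedFunctor.comp (subIncl 𝒳 Q') f) →
        ∀ b, Q' b → sub h𝒳.isStack.1 W b := by
  have hfy : IsFibGrpd (fp f y).p :=
    FibProd.isFibGrpd_fp h𝒳.isStack.1 (Yoneda.isFibGrpd_overCat V) h𝒴.isStack.1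
  let x := BasedFunctor.comp a (fpFst f y)
  have hx : RepByAlgSpWith (LocP @Smooth) x :=
    IsAlgFp.comp_locP LocQ.smoothST (Yoneda.isFibGrpd_overCat U) hfy ha (Rep.repByAlgSpWith_fpFst f hy)
  have hx' : RepByAlgSpWith IsSurjectiveMor x :=
    IsAlgFp.comp_surjective (Yoneda.isFibGrpd_overCat U) hfy ha' (Rep.repByAlgSpWith_fpFst f hy')
  let α : BasedFunctor.comp x f ≅ BasedFunctor.comp (overMap k) y :=
    BasedBasic.isoWhiskerLeft a (fpIso f y) ≪≫ BasedBasic.isoWhiskerRight ι y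
  let U₀ : Over S := Over.mk ((smOpen k.left).ι ≫ U.hom)
  let j : U₀ ⟶ U := Over.homMk (smOpen k.left).ι rfl
  have hj : Smooth j.left := inferInstanceAs (Smooth (smOpen k.left).ι)
  let c := BasedFunctor.comp (overMap j) x
  have hc : RepByAlgSpWith (LocP @Smooth) c :=
    IsAlgFp.comp_locP LocQ.smoothST (Yoneda.isFibGrpd_overCat U₀) (Yoneda.isFibGrpd_overCat U)
      (Basic.rep_overMap_locP j LocQ.smoothST hj) hx
  let W := AlgSt.Points.ofChart x '' (smOpen k.left : Set U.left)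
  have hW : IsOpen W := Points.isOpenMap_ofChart h𝒳.isStack.1 hx _ (smOpen k.left).2
  have hrange : Set.range (AlgSt.Points.ofChart c) = W := by
    rw [range_comp_overMap]
    exact congrArg (AlgSt.Points.ofChart x '' ·) (smOpen k.left).range_ι
  have hloc := exists_restrict h𝒳 f hy hc (j ≫ k) (by
      change Smooth ((smOpen k.left).ι ≫ k.left)
      exact smooth_smOpen k.left)
    (BasedBasic.isoWhiskerLeft (overMap j) α ≪≫
      BasedBasic.isoWhiskerRight (eqToIso (LocQ.overMap_comp j k)) y) hrange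
  refine ⟨W, hW, Set.Subset.antisymm (preimage_subset_smOpen h𝒳 h𝒴 f hy ha ι hW hloc)
    (fun t ht => ⟨t, ht, rfl⟩), hloc, fun Q' hQ' hl b hb => ?_⟩
  have hW' := isOpen_range h𝒳 hQ'
  rw [eq_sub h𝒳 hQ'] at hl hb
  refine (hb.trans fun p hp => ?_)
  obtain ⟨t, rfl⟩ := Points.surjective_ofChart h𝒳.isStack.1 hx' p
  exact ⟨t, preimage_subset_smOpen h𝒳 h𝒴 f hy ha ι hW' hl hp, rfl⟩

theorem exists_largest_substack (h𝒳 : IsAlgStack Scheme.fppfPrecoverage 𝒳)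
    (h𝒴 : IsAlgStack Scheme.fppfPrecoverage 𝒴) (f : 𝒳 ⥤ᵇ 𝒴) :
    ∃ Q : 𝒳.obj → Prop, IsOpenSubstack 𝒳 Q Scheme.fppfPrecoverage ∧
      AlgSt.LocQ (LocP @Smooth) (BasedFunctor.comp (subIncl 𝒳 Q) f) ∧
      ∀ Q' : 𝒳.obj → Prop, IsOpenSubstack 𝒳 Q' Scheme.fppfPrecoverage →
        AlgSt.LocQ (LocP @Smooth) (BasedFunctor.comp (subIncl 𝒳 Q') f) → ∀ a, Q' a → Q a := by
  obtain ⟨V, y, hy, hy'⟩ := h𝒴.atlas
  obtain ⟨U, a, k, ha, ha', ⟨ι⟩⟩ := LocQ.exists_square h𝒳 h𝒴 f y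
  obtain ⟨W, hW, -, hl, hmax⟩ := exists_largest h𝒳 h𝒴 f hy hy' ha ha' ι
  exact ⟨_, isOpenSubstack_sub h𝒳 hW, hl, hmax⟩

/-- A largest substack is unique. -/
theorem eq_of_largest {f : 𝒳 ⥤ᵇ 𝒴} {Q Q₀ : 𝒳.obj → Prop}
    (hQ₁ : IsOpenSubstack 𝒳 Q Scheme.fppfPrecoverage)
    (hQ₂ : AlgSt.LocQ (LocP @Smooth) (BasedFunctor.comp (subIncl 𝒳 Q) f))
    (hQ₃ : ∀ Q' : 𝒳.obj → Prop, IsOpenSubstack 𝒳 Q' Scheme.fppfPrecoverage →
      AlgSt.LocQ (LocP @Smooth) (BasedFunctor.comp (subIncl 𝒳 Q') f) → ∀ a, Q' a → Q a)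
    (h₁ : IsOpenSubstack 𝒳 Q₀ Scheme.fppfPrecoverage)
    (h₂ : AlgSt.LocQ (LocP @Smooth) (BasedFunctor.comp (subIncl 𝒳 Q₀) f))
    (h₃ : ∀ Q' : 𝒳.obj → Prop, IsOpenSubstack 𝒳 Q' Scheme.fppfPrecoverage →
      AlgSt.LocQ (LocP @Smooth) (BasedFunctor.comp (subIncl 𝒳 Q') f) → ∀ a, Q' a → Q₀ a) :
    Q = Q₀ :=
  funext fun a => propext ⟨h₃ Q hQ₁ hQ₂ a, hQ₃ Q₀ h₁ h₂ a⟩

/-! ### Smooth precomposition -/

variable {𝒳' : AlgSt.Cat S}

theorem comp_smooth (h𝒳' : IsAlgStack Scheme.fppfPrecoverage 𝒳')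
    (h𝒳 : IsAlgStack Scheme.fppfPrecoverage 𝒳) (h𝒴 : IsAlgStack Scheme.fppfPrecoverage 𝒴)
    {g : 𝒳' ⥤ᵇ 𝒳} (hg : AlgSt.LocQ (LocP @Smooth) g) (f : 𝒳 ⥤ᵇ 𝒴) {Q : 𝒳.obj → Prop}
    (hQ₁ : IsOpenSubstack 𝒳 Q Scheme.fppfPrecoverage)
    (hQ₂ : AlgSt.LocQ (LocP @Smooth) (BasedFunctor.comp (subIncl 𝒳 Q) f))
    (hQ₃ : ∀ Q' : 𝒳.obj → Prop, IsOpenSubstack 𝒳 Q' Scheme.fppfPrecoverage →
      AlgSt.LocQ (LocP @Smooth) (BasedFunctor.comp (subIncl 𝒳 Q') f) → ∀ a, Q' a → Q a) :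
    IsOpenSubstack 𝒳' (fun a ↦ Q (g.obj a)) Scheme.fppfPrecoverage ∧
      AlgSt.LocQ (LocP @Smooth)
        (BasedFunctor.comp (subIncl 𝒳' (fun a ↦ Q (g.obj a))) (BasedFunctor.comp g f)) ∧
      ∀ Q' : 𝒳'.obj → Prop, IsOpenSubstack 𝒳' Q' Scheme.fppfPrecoverage →
        AlgSt.LocQ (LocP @Smooth) (BasedFunctor.comp (subIncl 𝒳' Q') (BasedFunctor.comp g f)) →
        ∀ a, Q' a → Q (g.obj a) := by
  obtain ⟨Z, z, hz, hz'⟩ := h𝒴.atlas
  obtain ⟨V, b, kg, hb, hb', ⟨ιg⟩⟩ := LocQ.exists_square h𝒳 h𝒴 f z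
  obtain ⟨W, hW, hpre, hl, hmax⟩ := exists_largest h𝒳 h𝒴 f hz hz' hb hb' ιg
  obtain rfl := eq_of_largest hQ₁ hQ₂ hQ₃ (isOpenSubstack_sub h𝒳 hW) hl hmax
  have hW' : IsOpen (AlgSt.Points.map g ⁻¹' W) := hW.preimage (Basic.continuous_map h𝒳 g)
  rw [sub_comp h𝒳'.isStack.1 h𝒳.isStack.1 g W]
  let π := fpFst f z
  have hfz := Basic.isAlgStack_fp h𝒴 h𝒳 (Basic.isAlgStack_overCat Z) f z
  have hgπ := Basic.isAlgStack_fp h𝒳 h𝒳' hfz g π
  obtain ⟨U, a, kf, ha, ha', ⟨ιf⟩⟩ := LocQ.exists_square hgπ hfz (fpSnd g π) b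
  have hF := FibProd.isFibGrpd_fp (F := fpSnd g π) (G := b) hgπ.isStack.1
    (Yoneda.isFibGrpd_overCat V) hfz.isStack.1
  let y := BasedFunctor.comp b π
  let a₁ := BasedFunctor.comp a (Rep.pasteComp g π b)
  let c := BasedFunctor.comp (BasedFunctor.comp a (fpFst (fpSnd g π) b)) (Rep.pasteBase g f z)
  let δ : BasedFunctor.comp c (fpSnd (BasedFunctor.comp g f) z) ≅ overMap (kf ≫ kg) :=
    BasedBasic.isoWhiskerLeft a (BasedBasic.isoWhiskerRight (fpIso (fpSnd g π) b) (fpSnd f z)) ≪≫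
      BasedBasic.isoWhiskerRight ιf (BasedFunctor.comp b (fpSnd f z)) ≪≫
      BasedBasic.isoWhiskerLeft (overMap kf) ιg ≪≫ eqToIso (LocQ.overMap_comp kf kg)
  have hy : RepByAlgSpWith (LocP @Smooth) y := IsAlgFp.comp_locP LocQ.smoothST
    (Yoneda.isFibGrpd_overCat V) hfz.isStack.1 hb (Rep.repByAlgSpWith_fpFst f hz)
  have ha₁ : RepByAlgSpWith (LocP @Smooth) a₁ :=
    LocQ.rep_postcomp_equiv (Rep.isEquivOver_pasteComp g π b) ha
  have ha₁' : RepByAlgSpWith IsSurjectiveMor a₁ :=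
    LocQ.rep_postcomp_equiv (Rep.isEquivOver_pasteComp g π b) ha'
  have hc : RepByAlgSpWith (LocP @Smooth) c :=
    LocQ.rep_postcomp_equiv (Rep.isEquivOver_pasteBase g f z)
      (IsAlgFp.comp_locP LocQ.smoothST (Yoneda.isFibGrpd_overCat U) hF ha
        (Rep.repByAlgSpWith_fpFst (fpSnd g π) hb))
  have hkf : Smooth kf.left := AlgSp.locP_yon_map
    (LocQ.prop_of_locQ isSmoothLocalST_smooth h𝒳' h𝒳 hg (Or.inl hy) ha₁ ιf
    )
  have hgy : IsFibGrpd (fp g y).p :=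
    FibProd.isFibGrpd_fp h𝒳'.isStack.1 (Yoneda.isFibGrpd_overCat V) h𝒳.isStack.1
  have hy' : RepByAlgSpWith IsSurjectiveMor y := IsAlgFp.comp_surjective
    (Yoneda.isFibGrpd_overCat V) hfz.isStack.1 hb' (Rep.repByAlgSpWith_fpFst f hz')
  let x' := BasedFunctor.comp a₁ (fpFst g y)
  have hx' : RepByAlgSpWith (LocP @Smooth) x' :=
    IsAlgFp.comp_locP LocQ.smoothST (Yoneda.isFibGrpd_overCat U) hgy ha₁ (Rep.repByAlgSpWith_fpFst g hy)
  have hx's : RepByAlgSpWith IsSurjectiveMor x' :=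
    IsAlgFp.comp_surjective (Yoneda.isFibGrpd_overCat U) hgy ha₁' (Rep.repByAlgSpWith_fpFst g hy')
  let α : BasedFunctor.comp x' g ≅ BasedFunctor.comp (overMap kf) y :=
    BasedBasic.isoWhiskerLeft a₁ (fpIso g y) ≪≫ BasedBasic.isoWhiskerRight ιf y
  have hpts : AlgSt.Points.ofChart x' ⁻¹' (AlgSt.Points.map g ⁻¹' W) =
      kf.left ⁻¹' (smOpen kg.left : Set V.left) := by
    rw [← hpre]
    ext u
    simp only [Set.mem_preimage]
    rw [Points.map_ofChart, Points.ofChart_iso α, Points.ofChart_overMap]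
  refine ⟨isOpenSubstack_sub h𝒳' hW', ?_, fun Q' hQ' hl' b' hb' => ?_⟩
  · let O := kf.left ⁻¹ᵁ smOpen kg.left
    let U₀ : Over S := Over.mk (O.ι ≫ U.hom)
    let j : U₀ ⟶ U := Over.homMk O.ι rfl
    have hj : Smooth j.left := inferInstanceAs (Smooth O.ι)
    have hjx : RepByAlgSpWith (LocP @Smooth) (BasedFunctor.comp (overMap j) x') :=
      IsAlgFp.comp_locP LocQ.smoothST (Yoneda.isFibGrpd_overCat U₀) (Yoneda.isFibGrpd_overCat U)
        (Basic.rep_overMap_locP j LocQ.smoothST hj) hx'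
    refine exists_restrict h𝒳' (BasedFunctor.comp g f) hz hjx ((j ≫ kf) ≫ kg) ?_ ?_ ?_
    · have : Smooth ((smOpen kg.left).ι ≫ kg.left) := smooth_smOpen kg.left
      have : Smooth (kf.left ∣_ smOpen kg.left) := IsZariskiLocalAtTarget.restrict hkf _
      change Smooth ((O.ι ≫ kf.left) ≫ kg.left)
      rw [← morphismRestrict_ι, Category.assoc]
      infer_instance
    · exact BasedBasic.isoWhiskerLeft (overMap j) (BasedBasic.isoWhiskerRight α f ≪≫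
          BasedBasic.isoWhiskerLeft (overMap kf) (BasedBasic.isoWhiskerLeft b (fpIso f z) ≪≫
            BasedBasic.isoWhiskerRight ιg z)) ≪≫
        BasedBasic.isoWhiskerRight (eqToIso (show BasedFunctor.comp (overMap j)
          (BasedFunctor.comp (overMap kf) (overMap kg)) = overMap ((j ≫ kf) ≫ kg) by
            rw [LocQ.overMap_comp, LocQ.overMap_comp, Category.assoc])) z
    · rw [range_comp_overMap]
      refine (congrArg (AlgSt.Points.ofChart x' '' ·) O.range_ι).trans ?_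
      change AlgSt.Points.ofChart x' '' (kf.left ⁻¹' (smOpen kg.left : Set V.left)) = _
      rw [← hpts, Set.image_preimage_eq _ (Points.surjective_ofChart h𝒳'.isStack.1 hx's)]
  · have hW'' := isOpen_range h𝒳' hQ'
    rw [eq_sub h𝒳' hQ'] at hl' hb'
    refine (congrFun (sub_comp h𝒳'.isStack.1 h𝒳.isStack.1 g W) b').mpr ?_
    refine hb'.trans fun p hp => ?_
    obtain ⟨t, rfl⟩ := Points.surjective_ofChart h𝒳'.isStack.1 hx's p
    have h1 : t ∈ (smOpen (kf ≫ kg).left : Set U.left) :=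
      preimage_subset_smOpen h𝒳' h𝒴 (BasedFunctor.comp g f) hz hc δ hW'' hl' hp
    show t ∈ AlgSt.Points.ofChart x' ⁻¹' (AlgSt.Points.map g ⁻¹' W)
    rw [hpts]
    exact image_subset_smOpen kf.left kg.left (smooth_smOpen (kf ≫ kg).left) ⟨t, h1, rfl⟩

end Groth.Agent.H14.Chart.OpenSmooth
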