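import Groth.Agent.H14.Chart.OpenSmooth
import Groth.Agent.H14.Chart.LocQ3
import Groth.Agent.H75.BaseChange.Nhd

/-!
The smooth locus of a morphism of stacks commutes with flat base change.
-/

set_option autoImplicit false
set_option backward.isDefEq.respectTransparency false
set_option backward.isDefEq.respectTransparency.types false

universe u

open CategoryTheory CategoryTheory.Limits AlgebraicGeometry

namespace Groth.Agent.H14.Chart.OpenSmooth

open Groth.Agent.Lib.AlgStack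
open Groth.Agent.H14.Sep
open Groth.Agent.H14.Chart.OpenSub
open Groth.Agent.Lib.AlgStack.FibProd (fpMap congrLeft congrRight swap)
open FibCat (IsEquivOver fp fpFst fpSnd fpLift fpIso overCat IsFibGrpd toSelf)
open AlgSt (ofSp ofSpMap ofOverCat toOverCat spMapOfOver overMap RepByAlgSp1 RepByAlgSpWith IsAlgStack
  fullSub subIncl IsOpenSubstack IsOpenImm)
open AlgSp (Sp yon IsAlgSpace LocP RepWith IsSurjectiveMor)

/-! ### Schemes -/

/-- Smoothness near a point descends along a flat base change. -/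
theorem mem_smOpen_of_flat {X Y T : Scheme.{u}} (f : X ⟶ Y) [LocallyOfFinitePresentation f] (g : T ⟶ Y)
    [Flat g] (w : ↑(pullback f g)) (hw : w ∈ smOpen (pullback.snd f g)) :
    pullback.fst f g w ∈ smOpen f := by
  obtain ⟨O, hO, hs⟩ := Groth.Agent.Lib.Unram.BaseChangeNhd.exists_nhd_descend @Smooth
    (fun i _ => inferInstance) Groth.Agent.Lib.Unram.BaseChangeNhd.smooth_at_descend_ring f g w
    (Flat.stalkMap g _) ⟨_, hw, smooth_smOpen _⟩
  exact le_smOpen hs hO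

theorem smOpen_of_flat_lfp {X Y T : Scheme.{u}} (f : X ⟶ Y) (g : T ⟶ Y) [Flat g]
    [LocallyOfFinitePresentation g] (w : ↑(pullback f g)) (hw : w ∈ smOpen (pullback.snd f g)) :
    pullback.fst f g w ∈ smOpen f := by
  let P := pullback.fst f g
  have : Flat P := MorphismProperty.pullback_fst _ _ ‹Flat g›
  have : LocallyOfFinitePresentation P := MorphismProperty.pullback_fst _ _ ‹LocallyOfFinitePresentation g›
  have : UniversallyOpen P := inferInstance
  let W' := smOpen (pullback.snd f g)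
  have := smooth_smOpen (pullback.snd f g)
  let O : X.Opens := ⟨P '' W', P.isOpenMap _ W'.2⟩
  have hle : W' ≤ P ⁻¹ᵁ O := fun x hx => ⟨x, hx, rfl⟩
  let l : W'.toScheme ⟶ O.toScheme := P.resLE O W' hle
  have hl : l ≫ O.ι = W'.ι ≫ P := Scheme.Hom.resLE_comp_ι P hle
  have : Flat l := inferInstanceAs (Flat (P.resLE O W' hle))
  have : LocallyOfFinitePresentation l := inferInstanceAs (LocallyOfFinitePresentation (P.resLE O W' hle))
  have : Surjective l := ⟨fun v => by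
    obtain ⟨x, hx, hxv⟩ := v.2
    refine ⟨⟨x, hx⟩, Subtype.ext ?_⟩
    have : (l ≫ O.ι) ⟨x, hx⟩ = P x := by rw [hl]; rfl
    exact this.trans hxv⟩
  have : LocallyOfFinitePresentation (O.ι ≫ f) := by
    refine Groth.Agent.H14.FppfDesc.Scheme.locallyOfFinitePresentation_of_comp l (O.ι ≫ f) ?_
    rw [← Category.assoc, hl, Category.assoc, pullback.condition, ← Category.assoc]
    infer_instance
  -- the base change of the restriction
  let m : pullback (O.ι ≫ f) g ⟶ pullback f g := pullback.map _ _ _ _ O.ι (𝟙 T) (𝟙 Y) (by simp) (by simp)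
  have sq : IsPullback (pullback.fst (O.ι ≫ f) g) m O.ι P :=
    IsPullback.of_bot
      (show IsPullback (pullback.fst (O.ι ≫ f) g) (m ≫ pullback.snd f g) (O.ι ≫ f) g by
        simpa [m] using IsPullback.of_hasPullback (O.ι ≫ f) g)
      (show pullback.fst (O.ι ≫ f) g ≫ O.ι = m ≫ P by simp [m, P])
      (IsPullback.of_hasPullback f g)
  have hwO : P w ∈ O := ⟨w, hw, rfl⟩
  obtain ⟨w', hw₁, hw₂⟩ := Scheme.exists_preimage_of_isPullback sq ⟨P w, hwO⟩ w rfl
  have : IsOpenImmersion m := MorphismProperty.of_isPullback sq (inferInstance : IsOpenImmersion O.ι)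
  have hm : Smooth ((m ⁻¹ᵁ W').ι ≫ pullback.snd (O.ι ≫ f) g) := by
    have e : m ≫ pullback.snd f g = pullback.snd (O.ι ≫ f) g := by simp [m]
    have : Smooth (m ∣_ W') := inferInstance
    rw [← e, ← Category.assoc, ← morphismRestrict_ι, Category.assoc]
    infer_instance
  have key := mem_smOpen_of_flat (O.ι ≫ f) g w' (le_smOpen hm (show m w' ∈ W' by rw [hw₂]; exact hw))
  have h := range_subset_smOpen ((smOpen (O.ι ≫ f)).ι ≫ O.ι) f
    (by rw [Category.assoc]; exact smooth_smOpen _) ⟨⟨_, key⟩, rfl⟩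
  rw [Scheme.Hom.comp_apply] at h
  rw [← hw₂]
  have : P (m w') = O.ι (pullback.fst (O.ι ≫ f) g w') := by
    rw [← Scheme.Hom.comp_apply, ← Scheme.Hom.comp_apply, sq.w]
  show P (m w') ∈ smOpen f
  rw [this]
  exact h

theorem smOpen_baseChange {R X Y T : Scheme.{u}} {p : R ⟶ X} {q : R ⟶ T} {f : X ⟶ Y} {g : T ⟶ Y}
    (sq : IsPullback p q f g) [Flat g]
    (h : LocallyOfFinitePresentation g ∨ LocallyOfFinitePresentation f) :
    (smOpen q : Set R) = p ⁻¹' (smOpen f : Set X) := by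
  refine Set.Subset.antisymm (fun r hr => ?_) ?_
  · have e := sq.isoPullback_inv_fst
    have : sq.isoPullback.hom r ∈ smOpen (pullback.snd f g) := by
      have h1 : Smooth (((smOpen q).ι ≫ sq.isoPullback.hom) ≫ pullback.snd f g) := by
        rw [Category.assoc, sq.isoPullback_hom_snd]; exact smooth_smOpen q
      exact range_subset_smOpen _ _ h1 ⟨⟨r, hr⟩, rfl⟩
    have hfst : pullback.fst f g (sq.isoPullback.hom r) = p r := by
      rw [← Scheme.Hom.comp_apply, sq.isoPullback_hom_fst]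
    show p r ∈ smOpen f
    rw [← hfst]
    rcases h with h | h
    · exact smOpen_of_flat_lfp f g _ this
    · exact mem_smOpen_of_flat f g _ this
  · have h1 : Smooth ((p ⁻¹ᵁ smOpen f).ι ≫ q) :=
      MorphismProperty.of_isPullback
        ((isPullback_morphismRestrict p (smOpen f)).flip.flip.paste_vert sq) (smooth_smOpen f)
    exact fun r hr => le_smOpen h1 hr

/-! ### The base change of a square -/

variable {S : Scheme.{u}} {𝒳 𝒴 𝒵 : AlgSt.Cat S}

theorem exists_base_square {f : 𝒳 ⥤ᵇ 𝒴} {z : 𝒵 ⥤ᵇ 𝒴} {U V T R : Over S} {y : overCat V ⥤ᵇ 𝒴}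
    {a : overCat U ⥤ᵇ fp f y} (ha : RepByAlgSpWith (LocP @Smooth) a)
    (ha' : RepByAlgSpWith IsSurjectiveMor a) {k : U ⟶ V}
    (ι : BasedFunctor.comp a (fpSnd f y) ≅ overMap k) {s : T ⟶ V} {u : overCat T ⥤ᵇ 𝒵}
    (β : BasedFunctor.comp (overMap s) y ≅ BasedFunctor.comp u z) {p : R ⟶ U} {q : R ⟶ T}
    (sq : IsPullback ((yon S).map p) ((yon S).map q) ((yon S).map k) ((yon S).map s)) :
    ∃ Φ : overCat R ⥤ᵇ fp (fpFst z f) u, RepByAlgSpWith (LocP @Smooth) Φ ∧
      RepByAlgSpWith IsSurjectiveMor Φ ∧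
      Nonempty (BasedFunctor.comp Φ (fpSnd (fpFst z f) u) ≅ overMap q) ∧
      Nonempty (BasedFunctor.comp Φ (BasedFunctor.comp (fpFst (fpFst z f) u) (fpSnd z f)) ≅
        BasedFunctor.comp (overMap p) (BasedFunctor.comp a (fpFst f y))) := by
  have := BasedBasic.IsEquivOver.full (Rep.isEquivOver_toOverCat V)
  have := BasedBasic.IsEquivOver.faithful (Rep.isEquivOver_toOverCat V)
  have k1 := BasedBasic.IsEquivOver.comp (Rep.isEquivOver_ofOverCat R)
    (BasedBasic.IsEquivOver.comp (Space.isEquivOver_sqLift (sq.map (sheafToPresheaf _ _)))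
      (FibProd.isEquivOver_fpMap (F := overMap k) (G := overMap s) (F' := ofSpMap ((yon S).map k))
        (G' := ofSpMap ((yon S).map s)) (toOverCat U) (toOverCat T) (toOverCat V) (Iso.refl _)
        (Iso.refl _) (Rep.isEquivOver_toOverCat U) (Rep.isEquivOver_toOverCat T)))
  let E₁ : overCat R ⥤ᵇ fp (overMap k) (overMap s) := BasedFunctor.comp (ofOverCat R)
    (BasedFunctor.comp (Space.sqLift (sq.map (sheafToPresheaf _ _)).w)
      (fpMap (F := overMap k) (G := overMap s) (F' := ofSpMap ((yon S).map k))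
        (G' := ofSpMap ((yon S).map s)) (toOverCat U) (toOverCat T) (toOverCat V) (Iso.refl _)
        (Iso.refl _)))
  obtain ⟨i, hi, -, ⟨ε⟩⟩ := BasedBasic.IsEquivOver.exists_inverse
    (Rep.isEquivOver_pasteBase a (fpSnd f y) (overMap s))
  let F₀ := fpFst (fpSnd f y) (overMap s)
  let E₂ := BasedFunctor.comp E₁ (BasedFunctor.comp (congrLeft ι.symm (overMap s)) i)
  have hE₂ : IsEquivOver E₂ := BasedBasic.IsEquivOver.comp (show IsEquivOver E₁ from k1)
    (BasedBasic.IsEquivOver.comp (FibProd.isEquivOver_congrLeft ι.symm (overMap s)) hi)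
  obtain ⟨j, hj, -, ⟨εj⟩⟩ := BasedBasic.IsEquivOver.exists_inverse
    (BasedBasic.IsEquivOver.comp (BasedBasic.IsEquivOver.comp
      (FibProd.isEquivOver_swap (fpFst z f) u) (Rep.isEquivOver_pasteBase u z f))
      (FibProd.isEquivOver_swap (BasedFunctor.comp u z) f))
  let M := BasedFunctor.comp (Rep.pasteComp f y (overMap s)) (BasedFunctor.comp (congrRight f β) j)
  have hM : IsEquivOver M := BasedBasic.IsEquivOver.comp (Rep.isEquivOver_pasteComp f y (overMap s))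
    (BasedBasic.IsEquivOver.comp (FibProd.isEquivOver_congrRight f β) hj)
  let Φ := BasedFunctor.comp (BasedFunctor.comp E₂ (fpSnd a F₀)) M
  let P₁ := BasedFunctor.comp (BasedFunctor.comp E₂ (fpSnd a F₀))
    (BasedFunctor.comp (Rep.pasteComp f y (overMap s)) (congrRight f β))
  let G₁ := BasedFunctor.comp E₁ (congrLeft ι.symm (overMap s))
  let e₁ : BasedFunctor.comp Φ (fpSnd (fpFst z f) u) ≅
      BasedFunctor.comp P₁ (fpSnd f (BasedFunctor.comp u z)) :=
    BasedBasic.isoWhiskerLeft P₁ (BasedBasic.isoWhiskerRight εj (fpSnd f (BasedFunctor.comp u z)))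
  let e₂ : BasedFunctor.comp P₁ (fpSnd f (BasedFunctor.comp u z)) ≅ Lft.vOf q :=
    BasedBasic.isoWhiskerLeft G₁
      (BasedBasic.isoWhiskerRight ε (fpSnd (BasedFunctor.comp a (fpSnd f y)) (overMap s)))
  let d₁ : BasedFunctor.comp Φ (BasedFunctor.comp (fpFst (fpFst z f) u) (fpSnd z f)) ≅
      BasedFunctor.comp P₁ (fpFst f (BasedFunctor.comp u z)) :=
    BasedBasic.isoWhiskerLeft P₁ (BasedBasic.isoWhiskerRight εj (fpFst f (BasedFunctor.comp u z)))
  let d₂ : BasedFunctor.comp P₁ (fpFst f (BasedFunctor.comp u z)) ≅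
      BasedFunctor.comp (BasedFunctor.comp E₂ (fpFst a F₀)) (BasedFunctor.comp a (fpFst f y)) :=
    BasedBasic.isoWhiskerRight (BasedBasic.isoWhiskerLeft E₂ (fpIso a F₀).symm) (fpFst f y)
  let d₃ : BasedFunctor.comp E₂ (fpFst a F₀) ≅ Lft.vOf p :=
    BasedBasic.isoWhiskerLeft G₁
      (BasedBasic.isoWhiskerRight ε (fpFst (BasedFunctor.comp a (fpSnd f y)) (overMap s)))
  exact ⟨Φ, LocQ.rep_postcomp_equiv hM (LocQ.rep_precomp_equiv hE₂ (Sep.Rep.fpSnd_of F₀ ha)),
    LocQ.rep_postcomp_equiv hM (LocQ.rep_precomp_equiv hE₂ (Sep.Rep.fpSnd_of F₀ ha')),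
    ⟨(show _ ≅ overMap q from e₁ ≪≫ e₂)⟩,
    ⟨(show _ ≅ BasedFunctor.comp (overMap p) (BasedFunctor.comp a (fpFst f y)) from
      d₁ ≪≫ d₂ ≪≫ BasedBasic.isoWhiskerRight d₃ (BasedFunctor.comp a (fpFst f y)))⟩⟩

theorem flat_baseChange (h𝒳 : IsAlgStack Scheme.fppfPrecoverage 𝒳)
    (h𝒴 : IsAlgStack Scheme.fppfPrecoverage 𝒴) (h𝒴' : IsAlgStack Scheme.fppfPrecoverage 𝒵)
    (f : 𝒳 ⥤ᵇ 𝒴) (y : 𝒵 ⥤ᵇ 𝒴) (hy : AlgSt.LocQ (LocP @Flat) y)
    (hfp : AlgSt.LocQ (LocP @LocallyOfFinitePresentation) y ∨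
      AlgSt.LocQ (LocP @LocallyOfFinitePresentation) f)
    (Q : 𝒳.obj → Prop) (hQ₁ : IsOpenSubstack 𝒳 Q Scheme.fppfPrecoverage)
    (hQ₂ : AlgSt.LocQ (LocP @Smooth) (BasedFunctor.comp (subIncl 𝒳 Q) f))
    (hQ₃ : ∀ Q' : 𝒳.obj → Prop, IsOpenSubstack 𝒳 Q' Scheme.fppfPrecoverage →
      AlgSt.LocQ (LocP @Smooth) (BasedFunctor.comp (subIncl 𝒳 Q') f) → ∀ a, Q' a → Q a) :
    IsOpenSubstack (fp y f) (fun b ↦ Q b.obj.snd) Scheme.fppfPrecoverage ∧
      AlgSt.LocQ (LocP @Smooth)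
        (BasedFunctor.comp (subIncl (fp y f) fun b ↦ Q b.obj.snd) (fpFst y f)) ∧
      ∀ Q' : (fp y f).obj → Prop, IsOpenSubstack (fp y f) Q' Scheme.fppfPrecoverage →
        AlgSt.LocQ (LocP @Smooth) (BasedFunctor.comp (subIncl (fp y f) Q') (fpFst y f)) →
        ∀ b, Q' b → Q b.obj.snd := by
  obtain ⟨V, z, hz, hz'⟩ := h𝒴.atlas
  obtain ⟨U, b, k, hb, hb', ⟨ι⟩⟩ := LocQ.exists_square h𝒳 h𝒴 f z
  obtain ⟨W, hW, hpre, hl, hmax⟩ := exists_largest h𝒳 h𝒴 f hz hz' hb hb' ι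
  obtain rfl := eq_of_largest hQ₁ hQ₂ hQ₃ (isOpenSubstack_sub h𝒳 hW) hl hmax
  obtain ⟨T, a, s, ha, ha', ⟨ιs⟩⟩ := LocQ.exists_square h𝒴' h𝒴 y z
  have hyz : IsFibGrpd (fp y z).p :=
    FibProd.isFibGrpd_fp h𝒴'.isStack.1 (Yoneda.isFibGrpd_overCat V) h𝒴.isStack.1
  let w := BasedFunctor.comp a (fpFst y z)
  have hw : RepByAlgSpWith (LocP @Smooth) w :=
    IsAlgFp.comp_locP LocQ.smoothST (Yoneda.isFibGrpd_overCat T) hyz ha (Rep.repByAlgSpWith_fpFst y hz)
  have hw' : RepByAlgSpWith IsSurjectiveMor w :=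
    IsAlgFp.comp_surjective (Yoneda.isFibGrpd_overCat T) hyz ha' (Rep.repByAlgSpWith_fpFst y hz')
  let β : BasedFunctor.comp (overMap s) z ≅ BasedFunctor.comp w y :=
    BasedBasic.isoWhiskerRight ιs.symm z ≪≫ BasedBasic.isoWhiskerLeft a (fpIso y z).symm
  let R : Over S := Over.mk (pullback.fst k.left s.left ≫ U.hom)
  let p : R ⟶ U := Over.homMk (pullback.fst k.left s.left) rfl
  let q : R ⟶ T := Over.homMk (pullback.snd k.left s.left) (by
    change pullback.snd k.left s.left ≫ T.hom = pullback.fst k.left s.left ≫ U.hom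
    rw [← Over.w k, ← Over.w s, pullback.condition_assoc])
  have sq₀ : IsPullback p.left q.left k.left s.left := IsPullback.of_hasPullback _ _
  have sq₁ : IsPullback p q k s := IsPullback.of_map (Over.forget S) (Over.OverMorphism.ext sq₀.w) sq₀
  obtain ⟨Φ, hΦ, hΦ', ⟨ιq⟩, ⟨ρ⟩⟩ := exists_base_square (z := y) hb hb' ι β (sq₁.map (yon S))
  have hfp' := Basic.isAlgStack_fp h𝒴 h𝒴' h𝒳 y f
  obtain ⟨W₁, hW₁, hpre₁, hl₁, hmax₁⟩ :=
    exists_largest hfp' h𝒴' (fpFst y f) hw hw' hΦ hΦ' ιq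
  have hs : Flat s.left := AlgSp.locP_yon_map
    (LocQ.prop_of_locQ SmLocal.isSmoothLocalST_flat h𝒴' h𝒴 hy (Or.inl hz) ha ιs)
  have hor : LocallyOfFinitePresentation s.left ∨ LocallyOfFinitePresentation k.left := hfp.imp
    (fun h => AlgSp.locP_yon_map
      (LocQ.prop_of_locQ SmLocal.isSmoothLocalST_lfp h𝒴' h𝒴 h (Or.inl hz) ha ιs))
    (fun h => AlgSp.locP_yon_map
      (LocQ.prop_of_locQ SmLocal.isSmoothLocalST_lfp h𝒳 h𝒴 h (Or.inl hz) hb ι))
  have hyf : IsFibGrpd (fp (fpFst y f) w).p :=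
    FibProd.isFibGrpd_fp hfp'.isStack.1 (Yoneda.isFibGrpd_overCat T) h𝒴'.isStack.1
  let x' := BasedFunctor.comp Φ (fpFst (fpFst y f) w)
  have hx's : RepByAlgSpWith IsSurjectiveMor x' :=
    IsAlgFp.comp_surjective (Yoneda.isFibGrpd_overCat R) hyf hΦ' (Rep.repByAlgSpWith_fpFst _ hw')
  have hWW : W₁ = AlgSt.Points.map (fpSnd y f) ⁻¹' W := by
    apply (Points.surjective_ofChart hfp'.isStack.1 hx's).preimage_injective
    rw [hpre₁, smOpen_baseChange sq₀ hor, ← hpre]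
    ext r
    simp only [Set.mem_preimage]
    rw [Points.map_ofChart]
    refine Iff.of_eq (congrArg (· ∈ W) ?_)
    exact ((Points.ofChart_iso ρ r).trans (Points.ofChart_overMap p _ r)).symm
  have hsub : (fun b : (fp y f).obj ↦ sub h𝒳.isStack.1 W b.obj.snd) = sub hfp'.isStack.1 W₁ :=
    (sub_comp hfp'.isStack.1 h𝒳.isStack.1 (fpSnd y f) W).trans (by rw [hWW])
  rw [hsub]
  exact ⟨isOpenSubstack_sub hfp' hW₁, hl₁, fun Q' hQ' hl' c hc =>
    (congrFun hsub c).mpr (hmax₁ Q' hQ' hl' c hc)⟩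

end Groth.Agent.H14.Chart.OpenSmooth
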