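import Groth.Agent.H14.Chart.SmLoc
import Groth.Agent.Lib.AlgStack.Bootstrap
import Groth.Agent.Lib.Fibred.StackLocal
import Groth.Agent.Lib.AlgSpace.OpenSub

/-!
Open substacks of algebraic stacks and open subsets of the space of points.
-/

set_option autoImplicit false
set_option backward.isDefEq.respectTransparency false
set_option backward.isDefEq.respectTransparency.types false

universe u

open CategoryTheory CategoryTheory.Limits AlgebraicGeometry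

namespace Groth.Agent.H14.Chart.OpenSub

open Groth.Agent.Lib.AlgStack
open Groth.Agent.H14.Sep
open Groth.Agent.H14.Sep.Lft (vOf)
open FibCat (IsEquivOver fp fpFst fpSnd fpLift fpIso overCat IsFibGrpd toSelf)
open AlgSt (ofSp ofSpMap ofOverCat toOverCat spMapOfOver overMap RepByAlgSp1 RepByAlgSpWith IsAlgStack
  fullSub subIncl IsOpenSubstack IsOpenImm)
open AlgSp (Sp yon IsAlgSpace LocP RepWith IsSurjectiveMor)

variable {S : Scheme.{u}} {𝒳 : AlgSt.Cat S}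

/-! ### Points of an object -/

/-- The points of an object over a scheme. -/
def rangeObj (h : IsFibGrpd 𝒳.p) (y : 𝒳.obj) : Set (AlgSt.Points 𝒳) :=
  Set.range (AlgSt.Points.ofChart (Yoneda.fromObj h (rfl : 𝒳.p.obj y = 𝒳.p.obj y)))

theorem range_comp_overMap {U V : Over S} (a : V ⟶ U) (x : overCat U ⥤ᵇ 𝒳) :
    Set.range (AlgSt.Points.ofChart (BasedFunctor.comp (overMap a) x)) =
      AlgSt.Points.ofChart x '' Set.range a.left := by
  ext p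
  constructor
  · rintro ⟨t, rfl⟩; exact ⟨_, ⟨t, rfl⟩, (Points.ofChart_overMap a x t).symm⟩
  · rintro ⟨_, ⟨t, rfl⟩, rfl⟩; exact ⟨t, Points.ofChart_overMap a x t⟩

theorem rangeObj_eq (h : IsFibGrpd 𝒳.p) {U : Over S} (x : overCat U ⥤ᵇ 𝒳) {y : 𝒳.obj}
    (θ : x.obj (Over.mk (𝟙 U)) ⟶ y) [hθ : 𝒳.p.IsHomLift (𝟙 U) θ] :
    rangeObj h y = Set.range (AlgSt.Points.ofChart x) := by
  have hy : 𝒳.p.obj y = U := IsHomLift.codomain_eq 𝒳.p (𝟙 U) θ
  subst hy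
  obtain ⟨e, he⟩ := Yoneda.exists_fromObj_iso h (rfl : 𝒳.p.obj y = 𝒳.p.obj y)
  have := he
  obtain ⟨ε, -⟩ := Yoneda.exists_iso_of_id h x (Yoneda.fromObj h (rfl : 𝒳.p.obj y = 𝒳.p.obj y))
    (θ ≫ e.inv)
  exact congrArg Set.range (funext fun t => (Points.ofChart_iso ε t).symm)

theorem rangeObj_obj (h : IsFibGrpd 𝒳.p) {U : Over S} (x : overCat U ⥤ᵇ 𝒳) (g : Over U) :
    rangeObj h (x.obj g) = AlgSt.Points.ofChart x '' Set.range g.hom.left := by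
  rw [← range_comp_overMap]
  let m : (Over.map g.hom).obj (Over.mk (𝟙 g.left)) ⟶ g :=
    Over.homMk (𝟙 g.left) (by simp)
  let θ : (BasedFunctor.comp (overMap g.hom) x).obj (Over.mk (𝟙 g.left)) ⟶ x.obj g := x.map m
  have : 𝒳.p.IsHomLift (𝟙 g.left) θ := Yoneda.map_isHomLift x m
  exact rangeObj_eq h (BasedFunctor.comp (overMap g.hom) x) θ

theorem rangeObj_subset (h : IsFibGrpd 𝒳.p) {y' y : 𝒳.obj} (φ : y' ⟶ y) :
    rangeObj h y' ⊆ rangeObj h y := by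
  let x := Yoneda.fromObj h (rfl : 𝒳.p.obj y = 𝒳.p.obj y)
  obtain ⟨e, he⟩ := Yoneda.exists_fromObj_iso h (rfl : 𝒳.p.obj y = 𝒳.p.obj y)
  have := he
  let g : Over (𝒳.p.obj y) := Over.mk (𝒳.p.map φ)
  have h1 : 𝒳.p.IsHomLift (𝒳.p.map φ) (x.map (Yoneda.toId g)) := Yoneda.map_toId_isHomLift x g
  have h2 : 𝒳.p.IsHomLift (𝒳.p.map φ) (x.map (Yoneda.toId g) ≫ e.hom) :=
    inferInstance
  have h3 : 𝒳.p.IsHomLift (𝒳.p.map φ) φ := IsHomLift.map 𝒳.p φ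
  have := Yoneda.stronglyCartesian h (𝒳.p.map φ) φ
  let θ := Functor.IsStronglyCartesian.map 𝒳.p (𝒳.p.map φ) φ (g := 𝟙 (𝒳.p.obj y'))
    (Category.id_comp (𝒳.p.map φ)).symm (x.map (Yoneda.toId g) ≫ e.hom)
  have hθ : 𝒳.p.IsHomLift (𝟙 (𝒳.p.obj y')) θ := Functor.IsStronglyCartesian.map_isHomLift _ _ _ _ _
  have := isIso_of_vertical' h θ hθ
  calc rangeObj h y' ⊆ rangeObj h (x.obj g) := (le_of_eq (rangeObj_eq_of_iso h θ hθ).symm)
    _ = AlgSt.Points.ofChart x '' Set.range g.hom.left := rangeObj_obj h x g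
    _ ⊆ rangeObj h y := Set.image_subset_range _ _
where
  isIso_of_vertical' (h : IsFibGrpd 𝒳.p) {a b : 𝒳.obj} {R : Over S} (θ : a ⟶ b)
      (hθ : 𝒳.p.IsHomLift (𝟙 R) θ) : IsIso θ :=
    haveI := hθ; BasedBasic.isIso_of_isHomLift_id h (R := R) θ
  rangeObj_eq_of_iso (h : IsFibGrpd 𝒳.p) {a b : 𝒳.obj} {R : Over S} (θ : a ⟶ b)
      (hθ : 𝒳.p.IsHomLift (𝟙 R) θ) : rangeObj h a = rangeObj h b := by
    have hb : 𝒳.p.obj b = R := IsHomLift.codomain_eq 𝒳.p (𝟙 R) θ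
    have ha : 𝒳.p.obj a = R := IsHomLift.domain_eq 𝒳.p (𝟙 R) θ
    obtain ⟨e, he⟩ := Yoneda.exists_fromObj_iso h ha
    have := he
    rw [rangeObj_eq h (Yoneda.fromObj h ha) e.hom, rangeObj_eq h (Yoneda.fromObj h ha) (e.hom ≫ θ)]

/-- The objects all of whose points lie in a set. -/
def sub (h : IsFibGrpd 𝒳.p) (W : Set (AlgSt.Points 𝒳)) : 𝒳.obj → Prop :=
  fun y => rangeObj h y ⊆ W

theorem sub_of_hom (h : IsFibGrpd 𝒳.p) {W : Set (AlgSt.Points 𝒳)} {y' y : 𝒳.obj} (φ : y' ⟶ y)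
    (hy : sub h W y) : sub h W y' :=
  (rangeObj_subset h φ).trans hy

theorem isClosedUnderIsomorphisms_sub (h : IsFibGrpd 𝒳.p) (W : Set (AlgSt.Points 𝒳)) :
    ObjectProperty.IsClosedUnderIsomorphisms (sub h W) :=
  ⟨fun e hy => sub_of_hom h e.inv hy⟩

theorem rangeObj_fPt (h : IsFibGrpd 𝒳.p) (p : AlgSt.FPt 𝒳) :
    rangeObj h p.obj = {AlgSt.Points.mk p} := by
  let x := Yoneda.fromObj h p.lies
  obtain ⟨e, he⟩ := Yoneda.exists_fromObj_iso h p.lies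
  have := he
  have key : AlgSt.Points.ofChart x (IsLocalRing.closedPoint p.K) = AlgSt.Points.mk p := by
    refine (Points.mk_obj_eq_ofChart x (𝟙 (Over.mk p.str))).symm.trans ?_
    exact AlgSt.Points.sound
      ⟨{ K := p.K, str := p.str, obj := x.obj (Over.mk (𝟙 _)), lies := x.w_obj _ }, 𝟙 _, e.hom, trivial⟩
  rw [rangeObj_eq h x e.hom]
  ext q
  constructor
  · rintro ⟨t, rfl⟩
    have : Subsingleton ↥(Spec (CommRingCat.of p.K)) := inferInstanceAs (Subsingleton (PrimeSpectrum p.K))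
    obtain rfl : t = IsLocalRing.closedPoint p.K := this.elim _ _
    exact key
  · rintro rfl
    exact ⟨_, key⟩

theorem range_map_sub (h : IsFibGrpd 𝒳.p) (W : Set (AlgSt.Points 𝒳)) :
    Set.range (AlgSt.Points.map (subIncl 𝒳 (sub h W))) = W := by
  ext p
  obtain ⟨p, rfl⟩ := AlgSt.Points.mk_surjective p
  constructor
  · rintro ⟨q, hq⟩
    obtain ⟨q, rfl⟩ := AlgSt.Points.mk_surjective q
    rw [← hq, AlgSt.Points.map_mk]
    refine (q.obj.property : rangeObj h q.obj.obj ⊆ W) ?_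
    exact (rangeObj_fPt h (q.map (subIncl 𝒳 (sub h W)))).symm.subset rfl
  · intro hp
    let p' : AlgSt.FPt (fullSub 𝒳 (sub h W)) :=
      { K := p.K
        str := p.str
        obj := ⟨p.obj, (rangeObj_fPt h p).subset.trans (Set.singleton_subset_iff.2 hp)⟩
        lies := p.lies }
    exact ⟨AlgSt.Points.mk p', rfl⟩

/-! ### The open substack of an open set -/

theorem isStack_sub (h𝒳 : IsAlgStack Scheme.fppfPrecoverage 𝒳) (W : Set (AlgSt.Points 𝒳)) :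
    Stk.IsStack (AlgSp.J S) (fullSub 𝒳 (sub h𝒳.isStack.1 W)) := by
  have h := h𝒳.isStack.1
  refine Lib.Fibred.StackLocal.isStack_sub (sub h W) (AlgSp.J S) h𝒳.isStack
    (fun y x φ hx => ⟨y, Iso.refl y, sub_of_hom h φ hx, IsHomLift.id rfl⟩) ?_
  intro U R hR x hx hl
  refine ⟨x, Iso.refl x, ?_, IsHomLift.id hx⟩
  subst hx
  rw [AlgSp.J_eq, GrothendieckTopology.mem_over_iff] at hR
  haveI : MorphismProperty.IsMultiplicative @LocallyOfFinitePresentation.{u} :=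
    { id_mem := fun X ↦ (inferInstance : LocallyOfFinitePresentation (𝟙 X)) }
  obtain ⟨𝒰, hle⟩ := Scheme.exists_cover_of_mem_grothendieckTopology
    (P := @Flat ⊓ @LocallyOfFinitePresentation) hR
  let X := Yoneda.fromObj h (rfl : 𝒳.p.obj x = 𝒳.p.obj x)
  obtain ⟨e, he⟩ := Yoneda.exists_fromObj_iso h (rfl : 𝒳.p.obj x = 𝒳.p.obj x)
  have := he
  rintro _ ⟨t, rfl⟩
  obtain ⟨i, z, hz⟩ := 𝒰.exists_eq t
  let V : Over S := Over.mk (𝒰.f i ≫ (𝒳.p.obj x).hom)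
  let f : V ⟶ 𝒳.p.obj x := Over.homMk (𝒰.f i) rfl
  have hf : R f := (Sieve.overEquiv_iff _ _).1 (hle _ _ (Presieve.ofArrows.mk i))
  have h1 : 𝒳.p.IsHomLift f (X.map (Yoneda.toId (Over.mk f))) :=
    Yoneda.map_toId_isHomLift X (Over.mk f)
  have h2 : 𝒳.p.IsHomLift f (X.map (Yoneda.toId (Over.mk f)) ≫ e.hom) :=
    inferInstance
  obtain ⟨y', e', hy', -⟩ := hl f hf _ (X.map (Yoneda.toId (Over.mk f)) ≫ e.hom) h2
  refine (sub_of_hom h e'.hom hy' : rangeObj h (X.obj (Over.mk f)) ⊆ W) ?_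
  rw [rangeObj_obj h X (Over.mk f)]
  exact ⟨_, ⟨z, rfl⟩, congrArg (AlgSt.Points.ofChart X) hz⟩

theorem exists_fp_equiv (h : IsFibGrpd 𝒳.p) {W : Set (AlgSt.Points 𝒳)} {T : Over S}
    (x : overCat T ⥤ᵇ 𝒳) (hW : IsOpen (AlgSt.Points.ofChart x ⁻¹' W)) :
    ∃ (T' : Over S) (j : T' ⟶ T) (_ : IsOpenImmersion j.left)
      (E : overCat T' ⥤ᵇ fp x (subIncl 𝒳 (sub h W))),
      IsEquivOver E ∧ BasedFunctor.comp E (fpFst x (subIncl 𝒳 (sub h W))) = overMap j ∧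
        Set.range j.left = AlgSt.Points.ofChart x ⁻¹' W := by
  let O : T.left.Opens := ⟨_, hW⟩
  let T' : Over S := Over.mk (O.ι ≫ T.hom)
  let j : T' ⟶ T := Over.homMk O.ι rfl
  have hj : IsOpenImmersion j.left := inferInstanceAs (IsOpenImmersion O.ι)
  have hr : Set.range j.left = AlgSt.Points.ofChart x ⁻¹' W := O.range_ι
  let c := BasedFunctor.comp (overMap j) x
  have hc : ∀ g : Over T', sub h W (c.obj g) := fun g => by
    change rangeObj h (c.obj g) ⊆ W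
    rw [rangeObj_obj]
    refine (Set.image_subset_range _ _).trans ?_
    rw [range_comp_overMap, hr]
    exact Set.image_preimage_subset _ _
  let z : overCat T' ⥤ᵇ fullSub 𝒳 (sub h W) :=
    { toFunctor := ObjectProperty.lift _ c.toFunctor hc
      w := c.w }
  let β : BasedFunctor.comp (overMap j) x ≅ BasedFunctor.comp z (subIncl 𝒳 (sub h W)) := Iso.refl _
  let E := fpLift (overMap j) z β
  refine ⟨T', j, hj, E, ?_, rfl, hr⟩
  have hF : E.toFunctor.Faithful := ⟨fun {a b f g} hfg => by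
    have := congrArg (fun k => k.hom.fst.left) hfg
    exact Over.OverMorphism.ext this⟩
  have hFull : E.toFunctor.Full := ⟨fun {a b} f => by
    let k : a.left ⟶ b.left := f.hom.fst.left
    have hk : k ≫ (b.hom ≫ j) = a.hom ≫ j := Over.w f.hom.fst
    have hk' : k ≫ b.hom = a.hom := by
      ext1
      rw [← cancel_mono j.left]
      simpa using congrArg CommaMorphism.left hk
    refine ⟨Over.homMk k hk', ?_⟩
    have e1 : (overMap j).map (Over.homMk k hk') = f.hom.fst := Over.OverMorphism.ext rfl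
    refine Lib.Fibred.Fp.hom_ext e1 ?_
    apply (ObjectProperty.ι (sub h W)).map_injective
    have w := Lib.Fibred.Fp.w f
    have w1 : x.map f.hom.fst ≫ 𝟙 _ = 𝟙 _ ≫ (ObjectProperty.ι (sub h W)).map f.hom.snd := w
    rw [Category.comp_id, Category.id_comp] at w1
    rw [← w1, ← e1]
    rfl⟩
  refine BasedBasic.isEquivOver_of E fun η => ?_
  have hsub : rangeObj h (x.obj η.obj.fst) ⊆ W := sub_of_hom h η.obj.iso.hom η.obj.snd.property
  rw [rangeObj_obj] at hsub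
  have hrange : Set.range η.obj.fst.hom.left ⊆ Set.range j.left := by
    rw [hr]; exact Set.image_subset_iff.1 hsub
  let l := IsOpenImmersion.lift j.left η.obj.fst.hom.left hrange
  have hl : l ≫ j.left = η.obj.fst.hom.left := IsOpenImmersion.lift_fac _ _ _
  let l' : η.obj.fst.left ⟶ T' := Over.homMk l (by
    change l ≫ j.left ≫ T.hom = _
    rw [← Category.assoc, hl]; exact Over.w η.obj.fst.hom)
  let ξ : Over T' := Over.mk l'
  let a : (overMap j).obj ξ ≅ η.obj.fst :=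
    Over.isoMk (Iso.refl _) (by
      change 𝟙 _ ≫ η.obj.fst.hom = l' ≫ j
      rw [Category.id_comp]; ext1; exact hl.symm)
  let b : z.obj ξ ≅ η.obj.snd :=
    ObjectProperty.isoMk _ (x.toFunctor.mapIso a ≪≫ η.obj.iso)
  refine ⟨ξ, Lib.Fibred.Fp.isoMk a b (by
    change x.map a.hom ≫ η.obj.iso.hom = 𝟙 _ ≫ (x.map a.hom ≫ η.obj.iso.hom)
    rw [Category.id_comp]), ?_⟩
  refine (Lib.Fibred.Fp.isHomLift_iff _ _).2 ?_
  change (overCat T).p.IsHomLift (𝟙 η.obj.fst.left) a.hom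
  exact IsHomLift.map (overCat T).p a.hom

theorem isOpenImm_sub (h𝒳 : IsAlgStack Scheme.fppfPrecoverage 𝒳) {W : Set (AlgSt.Points 𝒳)}
    (hW : IsOpen W) : IsOpenImm (subIncl 𝒳 (sub h𝒳.isStack.1 W)) := by
  intro T x
  obtain ⟨T', j, hj, E, hE, hEj, -⟩ :=
    exists_fp_equiv h𝒳.isStack.1 x (hW.preimage (Points.continuous_ofChart h𝒳 x))
  refine ⟨(AlgSp.ofScheme S).obj T', BasedFunctor.comp (toOverCat T') E,
    BasedBasic.IsEquivOver.comp (Rep.isEquivOver_toOverCat T') hE, ?_⟩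
  have : spMapOfOver (BasedFunctor.comp (BasedFunctor.comp (toOverCat T') E)
      (fpFst x (subIncl 𝒳 (sub h𝒳.isStack.1 W)))) = (yon S).map j := by
    rw [← Points.spMap_toOverCat_overMap j, ← hEj]
    rfl
  rw [this]
  exact (AlgSp.repWith_yon_map_iff _ _).2 hj

theorem isAlgStack_sub (h𝒳 : IsAlgStack Scheme.fppfPrecoverage 𝒳) {W : Set (AlgSt.Points 𝒳)}
    (hW : IsOpen W) : IsAlgStack Scheme.fppfPrecoverage (fullSub 𝒳 (sub h𝒳.isStack.1 W)) := by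
  obtain ⟨U, a, ha, has⟩ := h𝒳.atlas
  obtain ⟨T', j, -, E, hE, -, -⟩ :=
    exists_fp_equiv h𝒳.isStack.1 a (hW.preimage (Points.continuous_ofChart h𝒳 a))
  exact Bootstrap.isAlgStack_of_stack_atlas (isStack_sub h𝒳 W)
    ⟨T', BasedFunctor.comp E (fpSnd a (subIncl 𝒳 (sub h𝒳.isStack.1 W))),
      LocQ.rep_precomp_equiv hE (Sep.Rep.fpSnd_of _ ha),
      LocQ.rep_precomp_equiv hE (Sep.Rep.fpSnd_of _ has)⟩

theorem isOpenSubstack_sub (h𝒳 : IsAlgStack Scheme.fppfPrecoverage 𝒳) {W : Set (AlgSt.Points 𝒳)}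
    (hW : IsOpen W) : IsOpenSubstack 𝒳 (sub h𝒳.isStack.1 W) Scheme.fppfPrecoverage :=
  ⟨isClosedUnderIsomorphisms_sub _ W, isAlgStack_sub h𝒳 hW, isOpenImm_sub h𝒳 hW⟩

/-! ### Every open substack is the substack of its points -/

theorem smooth_of_isOpenImm {𝒴 : AlgSt.Cat S} {f : 𝒴 ⥤ᵇ 𝒳} (hf : IsOpenImm f) :
    RepByAlgSpWith (LocP @Smooth) f :=
  Rep.repByAlgSpWith_mono hf fun _ _ _ _ _ hh =>
    Lib.AlgSpMor.LocP.locP_of_repWith LocQ.smoothST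
      (Lib.AlgSpace.repWith_mono hh fun _ _ g hg => have := hg; (inferInstance : Smooth g))

theorem isOpen_range_map {𝒴 : AlgSt.Cat S} (h𝒴 : IsAlgStack Scheme.fppfPrecoverage 𝒴)
    (h : IsFibGrpd 𝒳.p) {f : 𝒴 ⥤ᵇ 𝒳} (hf : RepByAlgSpWith (LocP @Smooth) f) :
    IsOpen (Set.range (AlgSt.Points.map f)) := by
  obtain ⟨U, a, ha, has⟩ := h𝒴.atlas
  have : Set.range (AlgSt.Points.map f) =
      Set.range (AlgSt.Points.ofChart (BasedFunctor.comp a f)) := by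
    rw [← Set.image_univ, ← (Points.surjective_ofChart h𝒴.isStack.1 has).range_eq, ← Set.range_comp]
    rfl
  rw [this]
  exact (Points.isOpenMap_ofChart h (IsAlgFp.comp_locP LocQ.smoothST (Yoneda.isFibGrpd_overCat U)
    h𝒴.isStack.1 ha hf)).isOpen_range

theorem rangeObj_subset_range (h : IsFibGrpd 𝒳.p) {Q : 𝒳.obj → Prop}
    (hQ : ObjectProperty.IsClosedUnderIsomorphisms Q) (hg : IsFibGrpd (fullSub 𝒳 Q).p)
    {y : 𝒳.obj} (hy : Q y) : rangeObj h y ⊆ Set.range (AlgSt.Points.map (subIncl 𝒳 Q)) := by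
  rintro _ ⟨t, rfl⟩
  let q : (fullSub 𝒳 Q).obj := ⟨y, hy⟩
  have hq : (fullSub 𝒳 Q).p.obj q = 𝒳.p.obj y := rfl
  let x : overCat (𝒳.p.obj y) ⥤ᵇ fullSub 𝒳 Q := Yoneda.fromObj hg (U := 𝒳.p.obj y) hq
  obtain ⟨e, he⟩ := Yoneda.exists_fromObj_iso hg (U := 𝒳.p.obj y) hq
  obtain ⟨e', he'⟩ := Yoneda.exists_fromObj_iso h (rfl : 𝒳.p.obj y = 𝒳.p.obj y)
  have := he'
  have h1 : 𝒳.p.IsHomLift (𝟙 (𝒳.p.obj y)) ((subIncl 𝒳 Q).map e.hom) :=
    haveI := he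
    BasedFunctor.preserves_isHomLift (subIncl 𝒳 Q) (𝟙 (𝒳.p.obj y)) e.hom
  have h2 : 𝒳.p.IsHomLift (𝟙 (𝒳.p.obj y)) e'.inv := inferInstance
  have h3 : 𝒳.p.IsHomLift (𝟙 (𝒳.p.obj y)) ((subIncl 𝒳 Q).map e.hom ≫ e'.inv) := inferInstance
  obtain ⟨ε, -⟩ := Yoneda.exists_iso_of_id h (BasedFunctor.comp x (subIncl 𝒳 Q))
    (Yoneda.fromObj h (rfl : 𝒳.p.obj y = 𝒳.p.obj y)) ((subIncl 𝒳 Q).map e.hom ≫ e'.inv)
  exact ⟨AlgSt.Points.ofChart x t, by rw [Points.map_ofChart]; exact Points.ofChart_iso ε t⟩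

theorem mem_of_rangeObj_subset (h : IsFibGrpd 𝒳.p) {Q : 𝒳.obj → Prop}
    (hQ : ObjectProperty.IsClosedUnderIsomorphisms Q) (hg : IsFibGrpd (fullSub 𝒳 Q).p)
    (hi : IsOpenImm (subIncl 𝒳 Q)) {y : 𝒳.obj}
    (hy : rangeObj h y ⊆ Set.range (AlgSt.Points.map (subIncl 𝒳 Q))) : Q y := by
  let x := Yoneda.fromObj h (rfl : 𝒳.p.obj y = 𝒳.p.obj y)
  obtain ⟨G, e, he, hG⟩ := hi (𝒳.p.obj y) x
  let γ := spMapOfOver (BasedFunctor.comp e (fpFst x (subIncl 𝒳 Q)))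
  obtain ⟨σ, hσ⟩ := Lib.AlgSpace.exists_lift_yon_of_range_subset (j := γ) hG (𝟙 _) (by
    rintro _ ⟨t, rfl⟩
    obtain ⟨q, hq⟩ := hy ⟨t, rfl⟩
    obtain ⟨U, z, k, rfl⟩ := Points.exists_ofChart_eq hg q
    obtain ⟨W', a, b, w, ha, -, ⟨β⟩⟩ :=
      Points.exists_of_ofChart_eq h (x := x) (y := BasedFunctor.comp z (subIncl 𝒳 Q)) hq.symm
    obtain ⟨g, hg', -⟩ := Points.exists_hom_of_iso he a (BasedFunctor.comp (overMap b) z) β
    refine ⟨AlgSp.Points.ofPt g w, ?_⟩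
    change AlgSp.Points.map γ (AlgSp.Points.map g (AlgSp.Points.schemeHomeo W' w)) =
      AlgSp.Points.map (𝟙 _) (AlgSp.Points.schemeHomeo (𝒳.p.obj y) t)
    rw [← AlgSp.Points.map_comp, hg', AlgSp.Points.map_yon_map_apply, ha, AlgSp.Points.map_id])
  let η : overCat (𝒳.p.obj y) ⥤ᵇ fp x (subIncl 𝒳 Q) :=
    BasedFunctor.comp (ofOverCat _) (BasedFunctor.comp (ofSpMap σ) e)
  let ι₁ : BasedFunctor.comp η (fpFst x (subIncl 𝒳 Q)) ≅ vOf (𝟙 (𝒳.p.obj y)) :=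
    BasedBasic.isoWhiskerLeft (ofOverCat _)
      (Rep.isoSpMapOfOver (BasedFunctor.comp (ofSpMap σ) (BasedFunctor.comp e (fpFst x (subIncl 𝒳 Q)))) ≪≫
        eqToIso (by rw [Rep.spMapOfOver_precomp, hσ, ← CategoryTheory.Functor.map_id]))
  let β : BasedFunctor.comp (vOf (𝟙 (𝒳.p.obj y))) x ≅
      BasedFunctor.comp (BasedFunctor.comp η (fpSnd x (subIncl 𝒳 Q))) (subIncl 𝒳 Q) :=
    (BasedBasic.isoWhiskerRight ι₁ x).symm ≪≫ BasedBasic.isoWhiskerLeft η (fpIso x (subIncl 𝒳 Q))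
  let i := BasedBasic.appIso β (Over.mk (𝟙 (𝒳.p.obj y)))
  have hQ' : Q (x.obj ((vOf (𝟙 (𝒳.p.obj y))).obj (Over.mk (𝟙 (𝒳.p.obj y))))) :=
    hQ.of_iso i.symm ((BasedFunctor.comp η (fpSnd x (subIncl 𝒳 Q))).obj _).property
  obtain ⟨e', -⟩ := Yoneda.exists_fromObj_iso h (rfl : 𝒳.p.obj y = 𝒳.p.obj y)
  have j : (vOf (𝟙 (𝒳.p.obj y))).obj (Over.mk (𝟙 (𝒳.p.obj y))) ≅ Over.mk (𝟙 (𝒳.p.obj y)) :=
    Over.isoMk (Iso.refl _) (by
      change 𝟙 _ ≫ 𝟙 _ = 𝟙 _ ≫ 𝟙 _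
      rfl)
  exact hQ.of_iso (x.toFunctor.mapIso j ≪≫ e') hQ'

theorem eq_sub (h𝒳 : IsAlgStack Scheme.fppfPrecoverage 𝒳) {Q : 𝒳.obj → Prop}
    (hQ : IsOpenSubstack 𝒳 Q Scheme.fppfPrecoverage) :
    Q = sub h𝒳.isStack.1 (Set.range (AlgSt.Points.map (subIncl 𝒳 Q))) :=
  funext fun _ => propext ⟨fun hy => rangeObj_subset_range _ hQ.1 hQ.2.1.isStack.1 hy,
    fun hy => mem_of_rangeObj_subset _ hQ.1 hQ.2.1.isStack.1 hQ.2.2 hy⟩

theorem isOpen_range (h𝒳 : IsAlgStack Scheme.fppfPrecoverage 𝒳) {Q : 𝒳.obj → Prop}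
    (hQ : IsOpenSubstack 𝒳 Q Scheme.fppfPrecoverage) :
    IsOpen (Set.range (AlgSt.Points.map (subIncl 𝒳 Q))) :=
  isOpen_range_map hQ.2.1 h𝒳.isStack.1 (smooth_of_isOpenImm hQ.2.2)

theorem le_iff (h𝒳 : IsAlgStack Scheme.fppfPrecoverage 𝒳) {Q Q' : 𝒳.obj → Prop}
    (hQ : IsOpenSubstack 𝒳 Q Scheme.fppfPrecoverage) (hQ' : IsOpenSubstack 𝒳 Q' Scheme.fppfPrecoverage) :
    (∀ y, Q y → Q' y) ↔ Set.range (AlgSt.Points.map (subIncl 𝒳 Q)) ⊆
      Set.range (AlgSt.Points.map (subIncl 𝒳 Q')) := by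
  constructor
  · rintro hle _ ⟨p, rfl⟩
    obtain ⟨p, rfl⟩ := AlgSt.Points.mk_surjective p
    let p' : AlgSt.FPt (fullSub 𝒳 Q') :=
      { K := p.K
        str := p.str
        obj := ⟨p.obj.obj, hle _ p.obj.property⟩
        lies := p.lies }
    exact ⟨AlgSt.Points.mk p', rfl⟩
  · intro hle y hy
    exact mem_of_rangeObj_subset h𝒳.isStack.1 hQ'.1 hQ'.2.1.isStack.1 hQ'.2.2
      ((rangeObj_subset_range h𝒳.isStack.1 hQ.1 hQ.2.1.isStack.1 hy).trans hle)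

theorem bijOn (h𝒳 : IsAlgStack Scheme.fppfPrecoverage 𝒳) :
    Set.BijOn (fun Q : 𝒳.obj → Prop => Set.range (AlgSt.Points.map (subIncl 𝒳 Q)))
      {Q | IsOpenSubstack 𝒳 Q Scheme.fppfPrecoverage} {T | IsOpen T} :=
  ⟨fun _ hQ => isOpen_range h𝒳 hQ,
    fun Q hQ Q' hQ' e => funext fun y => propext
      ⟨(le_iff h𝒳 hQ hQ').2 (le_of_eq e) y, (le_iff h𝒳 hQ' hQ).2 (le_of_eq e.symm) y⟩,
    fun W hW => ⟨sub h𝒳.isStack.1 W, isOpenSubstack_sub h𝒳 hW, range_map_sub _ W⟩⟩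

end Groth.Agent.H14.Chart.OpenSub
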