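import Groth.Agent.H14.Chart.Basic
import Groth.Agent.Lib.AlgSpMor.QC

/-!
Quasi-compactness of algebraic stacks and of their morphisms through spaces of points.
-/

set_option autoImplicit false
set_option backward.isDefEq.respectTransparency false
set_option backward.isDefEq.respectTransparency.types false

universe u

open CategoryTheory CategoryTheory.Limits AlgebraicGeometry

namespace Groth.Agent.H14.Chart.QC

open Groth.Agent.Lib.AlgStack
open Groth.Agent.H14.Sep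
open Groth.Agent.Lib.AlgStack.FibProd (fpMap congrLeft congrRight swap)
open FibCat (IsEquivOver fp fpFst fpSnd fpLift fpIso overCat IsFibGrpd toSelf)
open AlgSt (ofSp ofSpMap ofOverCat toOverCat spMapOfOver overMap RepByAlgSp1 RepByAlgSpWith IsAlgStack)
open AlgSp (Sp yon IsAlgSpace LocP RepWith)

variable {S : Scheme.{u}}

theorem smoothST : Lib.SourceDescent.Scheme.EtaleLocalST (@Smooth : MorphismProperty Scheme.{u}) :=
  Lib.SourceDescent.Scheme.smooth

variable {𝒳 𝒴 : AlgSt.Cat S}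

theorem compactSpace_points_of_chart (h𝒳 : IsAlgStack Scheme.fppfPrecoverage 𝒳) {U : Over S}
    [CompactSpace ↥U.left] (x : overCat U ⥤ᵇ 𝒳) (hx : RepByAlgSpWith AlgSp.IsSurjectiveMor x) :
    CompactSpace (AlgSt.Points 𝒳) := by
  refine ⟨?_⟩
  rw [← Set.image_univ_of_surjective (Points.surjective_ofChart h𝒳.isStack.1 hx)]
  exact isCompact_univ.image (Points.continuous_ofChart h𝒳 x)

/-- Quasi-compactness is compactness of the space of points. -/
theorem isQuasiCompact_iff (h𝒳 : IsAlgStack Scheme.fppfPrecoverage 𝒳) :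
    AlgSt.IsQuasiCompact 𝒳 ↔ CompactSpace (AlgSt.Points 𝒳) := by
  constructor
  · rintro ⟨U, x, hU, -, hs⟩
    exact compactSpace_points_of_chart h𝒳 x hs
  · intro hc
    obtain ⟨U, a, ha, has⟩ := h𝒳.atlas
    have hcov : ∀ p : AlgSt.Points 𝒳, ∃ O : U.left.affineOpens,
        p ∈ AlgSt.Points.ofChart a '' (O.1 : Set ↥U.left) := fun p => by
      obtain ⟨v, rfl⟩ := Points.surjective_ofChart h𝒳.isStack.1 has p
      obtain ⟨O, hO, hv, -⟩ := exists_isAffineOpen_mem_and_subset (U := ⊤) (Set.mem_univ v)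
      exact ⟨⟨O, hO⟩, v, hv, rfl⟩
    obtain ⟨s, hs⟩ := isCompact_univ.elim_finite_subcover
      (fun O : U.left.affineOpens ↦ AlgSt.Points.ofChart a '' (O.1 : Set ↥U.left))
      (fun O ↦ Points.isOpenMap_ofChart h𝒳.isStack.1 ha _ O.1.2)
      (fun p _ ↦ Set.mem_iUnion.2 (hcov p))
    let O' : ↥s → U.left.Opens := fun x ↦ x.1.1
    let j := Lib.AlgSpace.opensSigmaMap O'
    have : ∀ i, IsAffine (O' i).toScheme := fun i ↦ i.1.2
    have hj : Smooth j.left := have := Lib.AlgSpace.etale_opensSigmaMap O'; inferInstance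
    have hsm : RepByAlgSpWith (LocP @Smooth) (BasedFunctor.comp (overMap j) a) :=
      IsAlgFp.comp_locP smoothST (Yoneda.isFibGrpd_overCat _) (Yoneda.isFibGrpd_overCat _)
        (Basic.rep_overMap_locP j smoothST hj) ha
    refine ⟨_, _, inferInstanceAs (IsAffine (∐ fun i ↦ (O' i).toScheme)), hsm,
      Points.rep_of_isSurjective h𝒳.isStack.1 (Yoneda.isFibGrpd_overCat _)
        (Rep.repByAlgSp1_of_repByAlgSpWith hsm) fun p => ?_⟩
    obtain ⟨i, hi, v, hv, rfl⟩ := Set.mem_iUnion₂.1 (hs (Set.mem_univ p))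
    refine ⟨AlgSt.Points.ofChart (BasedFunctor.id _)
      (Sigma.ι (fun i ↦ (O' i).toScheme) ⟨i, hi⟩ ⟨v, hv⟩), ?_⟩
    rw [Points.map_ofChart]
    refine (Points.ofChart_overMap j a _).trans (congrArg _ ?_)
    exact Lib.AlgSpace.opensSigmaMap_apply O' ⟨i, hi⟩ ⟨v, hv⟩

theorem isQuasiCompact_of_surjective (h𝒳 : IsAlgStack Scheme.fppfPrecoverage 𝒳)
    (h𝒴 : IsAlgStack Scheme.fppfPrecoverage 𝒴) {f : 𝒳 ⥤ᵇ 𝒴} (hf : AlgSt.IsSurjective f)
    (h : AlgSt.IsQuasiCompact 𝒳) : AlgSt.IsQuasiCompact 𝒴 :=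
  have := (isQuasiCompact_iff h𝒳).1 h
  (isQuasiCompact_iff h𝒴).2 (Basic.compactSpace_of_surjective h𝒴 hf)

theorem isQuasiCompact_overCat (V : Over S) [CompactSpace ↥V.left] :
    AlgSt.IsQuasiCompact (overCat V) :=
  have : Surjective (𝟙 V : V ⟶ V).left := inferInstanceAs (Surjective (𝟙 V.left))
  (isQuasiCompact_iff (Basic.isAlgStack_overCat V)).2
    (compactSpace_points_of_chart (Basic.isAlgStack_overCat V) (overMap (𝟙 V))
      (Basic.rep_overMap_surjective (𝟙 V)))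

/-- The points of the stack of an algebraic space are compact as soon as the space is quasi-compact. -/
theorem compactSpace_ofSp_iff (G : AlgSp.Space S) :
    CompactSpace (AlgSt.Points (ofSp G.obj)) ↔ CompactSpace (AlgSp.Points G.obj) := by
  constructor
  · intro h
    obtain ⟨U, x, hU, -, hs⟩ := (isQuasiCompact_iff (IsAlg.isAlgStack_ofSp G)).2 h
    have := Lib.AlgSpMor.QC.compactSpace_yon (T := U)
    exact Lib.AlgSpMor.QC.compactSpace_of_surjective (q := SpMapProp.ofPoint x)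
      (SpMapProp.prop_ofPoint IsAlgFp.respectsIsoSp_surjective IsAlgFp.detected_surjective
        G.property hs)
  · intro h
    obtain ⟨W, p, hW, he, hs⟩ := Lib.AlgSpMor.QC.exists_affine_atlas G.property
    exact compactSpace_points_of_chart (IsAlg.isAlgStack_ofSp G) _
      (IsAlg.repByAlgSpWith_atlas he hs fun _ _ _ _ hq => Lib.AlgSpace.surjective_map hq)

/-! ### Quasi-compact morphisms -/

/-- Quasi-compactness of a morphism is tested on affine charts of the target. -/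
theorem isQuasiCompactMor_iff (h𝒳 : IsAlgStack Scheme.fppfPrecoverage 𝒳)
    (h𝒴 : IsAlgStack Scheme.fppfPrecoverage 𝒴) {f : 𝒳 ⥤ᵇ 𝒴} :
    AlgSt.IsQuasiCompactMor Scheme.fppfPrecoverage f ↔
      ∀ (V : Over S), IsAffine V.left → ∀ y : overCat V ⥤ᵇ 𝒴, CompactSpace (AlgSt.Points (fp y f)) := by
  constructor
  · intro hf V hV y
    exact (isQuasiCompact_iff (Basic.isAlgStack_fp h𝒴 (Basic.isAlgStack_overCat V) h𝒳 y f)).1
      (hf _ (Basic.isAlgStack_overCat V) (isQuasiCompact_overCat V) y)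
  · intro h 𝒵 h𝒵 hc g
    obtain ⟨U, a, hU, -, has⟩ := hc
    have := h U hU (BasedFunctor.comp a g)
    have hP := Basic.isAlgStack_fp h𝒴 h𝒵 h𝒳 g f
    have := Basic.compactSpace_of_isEquivOver
      (Basic.isAlgStack_fp h𝒵 (Basic.isAlgStack_overCat U) hP a (fpFst g f))
      (Rep.isEquivOver_pasteBase a g f)
    exact (isQuasiCompact_iff hP).2 (Basic.compactSpace_of_surjective hP
      (Basic.surjective_fpSnd hP.isStack.1 h𝒵.isStack.1 (Yoneda.isFibGrpd_overCat U) (fpFst g f)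
        (Points.isSurjective_of_rep h𝒵.isStack.1 has)))

variable {𝒵 𝒳' : AlgSt.Cat S}

theorem isQuasiCompactMor_fpFst (h𝒳 : IsAlgStack Scheme.fppfPrecoverage 𝒳)
    (h𝒴 : IsAlgStack Scheme.fppfPrecoverage 𝒴) (h𝒵 : IsAlgStack Scheme.fppfPrecoverage 𝒵)
    {f : 𝒳 ⥤ᵇ 𝒴} (g : 𝒵 ⥤ᵇ 𝒴) (hf : AlgSt.IsQuasiCompactMor Scheme.fppfPrecoverage f) :
    AlgSt.IsQuasiCompactMor Scheme.fppfPrecoverage (fpFst g f) := by
  have hP := Basic.isAlgStack_fp h𝒴 h𝒵 h𝒳 g f
  refine (isQuasiCompactMor_iff hP h𝒵).2 fun V hV y => ?_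
  have := (isQuasiCompactMor_iff h𝒳 h𝒴).1 hf V hV (BasedFunctor.comp y g)
  exact Basic.compactSpace_of_isEquivOver
    (Basic.isAlgStack_fp h𝒵 (Basic.isAlgStack_overCat V) hP y (fpFst g f))
    (Rep.isEquivOver_pasteBase y g f)

theorem isQuasiCompactMor_comp (h𝒳 : IsAlgStack Scheme.fppfPrecoverage 𝒳)
    (h𝒴 : IsAlgStack Scheme.fppfPrecoverage 𝒴) (h𝒵 : IsAlgStack Scheme.fppfPrecoverage 𝒵)
    {f : 𝒳 ⥤ᵇ 𝒴} {g : 𝒴 ⥤ᵇ 𝒵} (hf : AlgSt.IsQuasiCompactMor Scheme.fppfPrecoverage f)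
    (hg : AlgSt.IsQuasiCompactMor Scheme.fppfPrecoverage g) :
    AlgSt.IsQuasiCompactMor Scheme.fppfPrecoverage (BasedFunctor.comp f g) := by
  refine (isQuasiCompactMor_iff h𝒳 h𝒵).2 fun V hV y => ?_
  have hQ := Basic.isAlgStack_fp h𝒵 (Basic.isAlgStack_overCat V) h𝒴 y g
  have hg' := hg _ (Basic.isAlgStack_overCat V) (isQuasiCompact_overCat V) y
  have := (isQuasiCompact_iff (Basic.isAlgStack_fp h𝒴 hQ h𝒳 (fpSnd y g) f)).1
    (hf _ hQ hg' (fpSnd y g))
  exact Basic.compactSpace_of_surjective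
    (Basic.isAlgStack_fp h𝒵 (Basic.isAlgStack_overCat V) h𝒳 y (BasedFunctor.comp f g))
    (Basic.surjective_map_of_isEquivOver (Rep.isEquivOver_pasteComp y g f))

/-- Quasi-compactness does not change along an equivalence of the source. -/
theorem isQuasiCompactMor_of_source (h𝒳 : IsAlgStack Scheme.fppfPrecoverage 𝒳)
    (h𝒳' : IsAlgStack Scheme.fppfPrecoverage 𝒳') (h𝒴 : IsAlgStack Scheme.fppfPrecoverage 𝒴)
    {f : 𝒳 ⥤ᵇ 𝒴} {f' : 𝒳' ⥤ᵇ 𝒴} {E : 𝒳' ⥤ᵇ 𝒳} (hE : IsEquivOver E)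
    (e : BasedFunctor.comp E f ≅ f') (hf : AlgSt.IsQuasiCompactMor Scheme.fppfPrecoverage f) :
    AlgSt.IsQuasiCompactMor Scheme.fppfPrecoverage f' := by
  refine (isQuasiCompactMor_iff h𝒳' h𝒴).2 fun V hV y => ?_
  have := (isQuasiCompactMor_iff h𝒳 h𝒴).1 hf V hV y
  have : (BasedFunctor.id 𝒴).toFunctor.Full := inferInstanceAs (𝟭 𝒴.obj).Full
  have : (BasedFunctor.id 𝒴).toFunctor.Faithful := inferInstanceAs (𝟭 𝒴.obj).Faithful
  exact Basic.compactSpace_of_isEquivOver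
    (Basic.isAlgStack_fp h𝒴 (Basic.isAlgStack_overCat V) h𝒳' y f')
    (FibProd.isEquivOver_fpMap (BasedFunctor.id _) E (BasedFunctor.id 𝒴) (F := y) (G := f) (F' := y)
      (G' := f') (Iso.refl _) e BasedBasic.isEquivOver_id hE)

/-- For a representable functor quasi-compactness is read on the representing spaces. -/
theorem repByAlgSpWith_qc_iff (h𝒳 : IsAlgStack Scheme.fppfPrecoverage 𝒳)
    (h𝒴 : IsAlgStack Scheme.fppfPrecoverage 𝒴) {f : 𝒳 ⥤ᵇ 𝒴} (hf : RepByAlgSp1 f) :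
    RepByAlgSpWith AlgSp.IsQuasiCompactMor f ↔
      AlgSt.IsQuasiCompactMor Scheme.fppfPrecoverage f := by
  constructor
  · intro h
    refine (isQuasiCompactMor_iff h𝒳 h𝒴).2 fun V hV y => ?_
    obtain ⟨G, e, he, hq⟩ := h V y
    have := (compactSpace_ofSp_iff G).2 (Lib.AlgSpMor.QC.compactSpace_of_isQuasiCompactMor hq
      (g := 𝟙 _) (fst := 𝟙 G.obj) (snd := spMapOfOver (BasedFunctor.comp e (fpFst y f)))
      (IsPullback.of_horiz_isIso ⟨by simp⟩))
    exact Basic.compactSpace_of_surjective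
      (Basic.isAlgStack_fp h𝒴 (Basic.isAlgStack_overCat V) h𝒳 y f)
      (Basic.surjective_map_of_isEquivOver he)
  · intro h U y
    obtain ⟨G, e, he⟩ := hf U y
    refine ⟨G, e, he, Lib.AlgSpMor.QC.isQuasiCompactMor_of_affine G.property
      (IsAlgSpace.yon_obj U).diag fun Z hZ g P fst snd sq => ?_⟩
    have hP : IsAlgSpace P := Lib.AlgSpace.isAlgSpace_of_isPullback sq
      (IsAlgSpace.yon_obj U).diag G.property (IsAlgSpace.yon_obj Z)
    have := BasedBasic.IsEquivOver.full (Rep.isEquivOver_toOverCat U)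
    have := BasedBasic.IsEquivOver.faithful (Rep.isEquivOver_toOverCat U)
    have h1 := Space.isEquivOver_sqLift (sq.flip.map (sheafToPresheaf _ _))
    have h2 := FibProd.isEquivOver_fpMap (F := BasedFunctor.comp (ofSpMap g) (toOverCat U))
      (G := fpFst y f) (F' := ofSpMap g)
      (G' := ofSpMap (spMapOfOver (BasedFunctor.comp e (fpFst y f))))
      (BasedFunctor.id (ofSp ((yon S).obj Z))) e (toOverCat U) (Iso.refl _) (Rep.isoSpMapOfOver _)
      BasedBasic.isEquivOver_id he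
    have h3 := BasedBasic.IsEquivOver.comp (BasedBasic.IsEquivOver.comp h1 h2)
      (Rep.isEquivOver_pasteBase (BasedFunctor.comp (ofSpMap g) (toOverCat U)) y f)
    have hZ' : IsAlgStack Scheme.fppfPrecoverage (ofSp ((yon S).obj Z)) :=
      IsAlg.isAlgStack_ofSp ((AlgSp.ofScheme S).obj Z)
    have hc : AlgSt.IsQuasiCompact (ofSp ((yon S).obj Z)) :=
      (isQuasiCompact_iff hZ').2 ((compactSpace_ofSp_iff ((AlgSp.ofScheme S).obj Z)).2
        Lib.AlgSpMor.QC.compactSpace_yon)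
    have := (isQuasiCompact_iff (Basic.isAlgStack_fp h𝒴 hZ' h𝒳
      (BasedFunctor.comp (BasedFunctor.comp (ofSpMap g) (toOverCat U)) y) f)).1 (h _ hZ' hc _)
    exact (compactSpace_ofSp_iff ⟨P, hP⟩).1
      (Basic.compactSpace_of_isEquivOver (IsAlg.isAlgStack_ofSp ⟨P, hP⟩) h3)

end Groth.Agent.H14.Chart.QC
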