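import Groth.Agent.H14.Chart.OpenSub
import Groth.Agent.H14.Chart.QC

/-!
Unions, preimages and factorisations for open substacks.
-/

set_option autoImplicit false
set_option backward.isDefEq.respectTransparency false
set_option backward.isDefEq.respectTransparency.types false

universe u v w

open CategoryTheory CategoryTheory.Limits AlgebraicGeometry

namespace Groth.Agent.H14.Chart.OpenSub

open Groth.Agent.Lib.AlgStack
open Groth.Agent.H14.Sep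
open Groth.Agent.H14.Sep.Lft (vOf)
open FibCat (IsEquivOver fp fpFst fpSnd fpLift fpIso overCat IsFibGrpd toSelf)
open AlgSt (ofSp ofSpMap ofOverCat toOverCat spMapOfOver overMap RepByAlgSp1 RepByAlgSpWith IsAlgStack
  fullSub subIncl IsOpenSubstack IsOpenImm)
open AlgSp (Sp yon IsAlgSpace LocP RepWith IsSurjectiveMor)

variable {S : Scheme.{u}} {𝒳 𝒴 : AlgSt.Cat S}

/-- The points of an image object. -/
theorem rangeObj_map (h : IsFibGrpd 𝒳.p) (h' : IsFibGrpd 𝒴.p) (g : 𝒳 ⥤ᵇ 𝒴) (a : 𝒳.obj) :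
    rangeObj h' (g.obj a) = AlgSt.Points.map g '' rangeObj h a := by
  obtain ⟨e, he⟩ := Yoneda.exists_fromObj_iso h (rfl : 𝒳.p.obj a = 𝒳.p.obj a)
  have := he
  have h1 : 𝒴.p.IsHomLift (𝟙 (𝒳.p.obj a)) (g.map e.hom) :=
    BasedFunctor.preserves_isHomLift g (𝟙 (𝒳.p.obj a)) e.hom
  rw [rangeObj_eq h' (BasedFunctor.comp (Yoneda.fromObj h (rfl : 𝒳.p.obj a = 𝒳.p.obj a)) g) (g.map e.hom),
    rangeObj, ← Set.range_comp]
  rfl

theorem sub_comp (h : IsFibGrpd 𝒳.p) (h' : IsFibGrpd 𝒴.p) (g : 𝒳 ⥤ᵇ 𝒴)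
    (W : Set (AlgSt.Points 𝒴)) :
    (fun a => sub h' W (g.obj a)) = sub h (AlgSt.Points.map g ⁻¹' W) := by
  funext a
  change (rangeObj h' (g.obj a) ⊆ W) = (rangeObj h a ⊆ AlgSt.Points.map g ⁻¹' W)
  rw [rangeObj_map h h', Set.image_subset_iff]

theorem exists_union (h𝒳 : IsAlgStack Scheme.fppfPrecoverage 𝒳) {ι : Type w} (Q : ι → 𝒳.obj → Prop)
    (hQ : ∀ i, IsOpenSubstack 𝒳 (Q i) Scheme.fppfPrecoverage) :
    ∃ Q' : 𝒳.obj → Prop, IsOpenSubstack 𝒳 Q' Scheme.fppfPrecoverage ∧ (∀ i y, Q i y → Q' y) ∧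
      Set.range (AlgSt.Points.map (subIncl 𝒳 Q')) =
        ⋃ i, Set.range (AlgSt.Points.map (subIncl 𝒳 (Q i))) := by
  have hW := isOpen_iUnion fun i => isOpen_range h𝒳 (hQ i)
  exact ⟨_, isOpenSubstack_sub h𝒳 hW,
    fun i => (le_iff h𝒳 (hQ i) (isOpenSubstack_sub h𝒳 hW)).2
      (by rw [range_map_sub]; exact fun x hx => Set.mem_iUnion.2 ⟨i, hx⟩), range_map_sub _ _⟩

theorem exists_finset_subcover (h𝒳 : IsAlgStack Scheme.fppfPrecoverage 𝒳) {Q' : 𝒳.obj → Prop}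
    (hQ' : IsOpenSubstack 𝒳 Q' Scheme.fppfPrecoverage) (hqc : AlgSt.IsQuasiCompact (fullSub 𝒳 Q'))
    {ι : Type w} (Q : ι → 𝒳.obj → Prop) (hQ : ∀ i, IsOpenSubstack 𝒳 (Q i) Scheme.fppfPrecoverage)
    (hcov : Set.range (AlgSt.Points.map (subIncl 𝒳 Q')) ⊆
      ⋃ i, Set.range (AlgSt.Points.map (subIncl 𝒳 (Q i)))) :
    ∃ I' : Finset ι, Set.range (AlgSt.Points.map (subIncl 𝒳 Q')) ⊆
      ⋃ i ∈ I', Set.range (AlgSt.Points.map (subIncl 𝒳 (Q i))) := by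
  have : CompactSpace (AlgSt.Points (fullSub 𝒳 Q')) := (QC.isQuasiCompact_iff hQ'.2.1).1 hqc
  have hc : IsCompact (Set.range (AlgSt.Points.map (subIncl 𝒳 Q'))) :=
    isCompact_range (Basic.continuous_map h𝒳 _)
  exact hc.elim_finite_subcover _ (fun i => isOpen_range h𝒳 (hQ i)) hcov

/-! ### Factorisations through a substack -/

/-- A property of a composite with the inclusion of a substack holds for the factorisation. -/
theorem rep_of_comp_subIncl {𝒵 : AlgSt.Cat S} {Q : 𝒳.obj → Prop} (g : 𝒵 ⥤ᵇ fullSub 𝒳 Q)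
    {P : MorphismProperty (Sp S)} (hg : RepByAlgSpWith P (BasedFunctor.comp g (subIncl 𝒳 Q))) :
    RepByAlgSpWith P g := by
  intro T x
  let x' := BasedFunctor.comp x (subIncl 𝒳 Q)
  let g' := BasedFunctor.comp g (subIncl 𝒳 Q)
  obtain ⟨G, e, he, hP⟩ := hg T x'
  let E : fp x g ⥤ᵇ fp x' g' :=
    fpLift (fpFst x g) (fpSnd x g) (BasedBasic.isoWhiskerRight (fpIso x g) (subIncl 𝒳 Q))
  have hfa : E.toFunctor.Faithful := ⟨fun {a b f f'} hff => Lib.Fibred.Fp.hom_ext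
    (congrArg (fun k => k.hom.fst) hff) (congrArg (fun k => k.hom.snd) hff)⟩
  have hfu : E.toFunctor.Full := ⟨fun {a b} k =>
    ⟨Lib.Fibred.Fp.mkHom (F := x) (G := g) k.hom.fst k.hom.snd
      ((ObjectProperty.ι Q).map_injective (Lib.Fibred.Fp.w k)), Lib.Fibred.Fp.hom_ext rfl rfl⟩⟩
  have hE : IsEquivOver E := by
    refine BasedBasic.isEquivOver_of E fun η => ?_
    let i : x.obj η.obj.fst ≅ g.obj η.obj.snd := ObjectProperty.isoMk _ η.obj.iso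
    have hi : (fullSub 𝒳 Q).p.IsHomLift (𝟙 ((overCat T).p.obj η.obj.fst)) i.hom :=
      ((subIncl 𝒳 Q).isHomLift_iff _ i.hom).1 η.property
    refine ⟨Lib.Fibred.Fp.mkObj η.obj.fst η.obj.snd i hi,
      Lib.Fibred.Fp.isoMk (Iso.refl _) (Iso.refl _) ?_, ?_⟩
    · change x'.map (𝟙 η.obj.fst) ≫ η.obj.iso.hom = η.obj.iso.hom ≫ g'.map (𝟙 η.obj.snd)
      rw [x'.toFunctor.map_id, g'.toFunctor.map_id, Category.id_comp, Category.comp_id]
    · exact (Lib.Fibred.Fp.isHomLift_iff _ _).2 (IsHomLift.id rfl)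
  obtain ⟨i, hi, -, ⟨ε⟩⟩ := BasedBasic.IsEquivOver.exists_inverse hE
  refine ⟨G, BasedFunctor.comp e i, BasedBasic.IsEquivOver.comp he hi, ?_⟩
  have : spMapOfOver (BasedFunctor.comp (BasedFunctor.comp e i) (fpFst x g)) =
      spMapOfOver (BasedFunctor.comp e (fpFst x' g')) :=
    Rep.spMapOfOver_eq_of_iso (BasedBasic.isoWhiskerLeft e (BasedBasic.isoWhiskerRight ε (fpFst x' g')))
  rw [this]
  exact hP

/-- The image of a smooth morphism is an open substack through which it factors. -/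
theorem exists_image {𝒵 : AlgSt.Cat S} (h𝒵 : IsAlgStack Scheme.fppfPrecoverage 𝒵)
    (h𝒳 : IsAlgStack Scheme.fppfPrecoverage 𝒳) (c : 𝒵 ⥤ᵇ 𝒳)
    (hc : RepByAlgSpWith (LocP @Smooth) c) :
    ∃ (𝒴 : AlgSt.Cat S) (i : 𝒴 ⥤ᵇ 𝒳) (g : 𝒵 ⥤ᵇ 𝒴),
      IsAlgStack Scheme.fppfPrecoverage 𝒴 ∧ IsOpenImm i ∧
        RepByAlgSpWith (LocP @Smooth) g ∧ RepByAlgSpWith IsSurjectiveMor g ∧
          Nonempty (BasedFunctor.comp g i ≅ c) := by
  let h := h𝒳.isStack.1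
  let W := Set.range (AlgSt.Points.map c)
  have hW : IsOpen W := isOpen_range_map h𝒵 h hc
  have hcW : ∀ a, sub h W (c.obj a) := fun a => by
    change rangeObj h (c.obj a) ⊆ W
    rw [rangeObj_map h𝒵.isStack.1 h]
    exact Set.image_subset_range _ _
  let g : 𝒵 ⥤ᵇ fullSub 𝒳 (sub h W) :=
    { toFunctor := ObjectProperty.lift _ c.toFunctor hcW
      w := c.w }
  have hg : RepByAlgSpWith (LocP @Smooth) g := rep_of_comp_subIncl g hc
  refine ⟨_, subIncl 𝒳 (sub h W), g, isAlgStack_sub h𝒳 hW, isOpenImm_sub h𝒳 hW, hg,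
    Points.rep_of_isSurjective (isStack_sub h𝒳 W).1 h𝒵.isStack.1 (Rep.repByAlgSp1_of_repByAlgSpWith hg) ?_,
    ⟨Iso.refl _⟩⟩
  intro q
  obtain ⟨q, rfl⟩ := AlgSt.Points.mk_surjective q
  have : AlgSt.Points.map (subIncl 𝒳 (sub h W)) (AlgSt.Points.mk q) ∈ W :=
    (range_map_sub h W).subset ⟨_, rfl⟩
  obtain ⟨p, hp⟩ := this
  refine ⟨p, injective_map_subIncl h𝒳.isStack.1 (fun _ _ φ hx => sub_of_hom h φ hx) ?_⟩
  rw [← hp, ← Basic.map_comp]
  rfl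
where
  injective_map_subIncl {Q : 𝒳.obj → Prop} (h : IsFibGrpd 𝒳.p)
      (hQ : ∀ ⦃y' y : 𝒳.obj⦄ (_ : y' ⟶ y), Q y → Q y') {a b : AlgSt.Points (fullSub 𝒳 Q)}
      (e : AlgSt.Points.map (subIncl 𝒳 Q) a = AlgSt.Points.map (subIncl 𝒳 Q) b) : a = b := by
    obtain ⟨a, rfl⟩ := AlgSt.Points.mk_surjective a
    obtain ⟨b, rfl⟩ := AlgSt.Points.mk_surjective b
    obtain ⟨r, α, β, -⟩ := Lib.AlgStack.Points.rel_of_mk_eq h e
    let r' : AlgSt.FPt (fullSub 𝒳 Q) :=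
      { K := r.K
        str := r.str
        obj := ⟨r.obj, hQ α a.obj.property⟩
        lies := r.lies }
    exact AlgSt.Points.sound ⟨r', ObjectProperty.homMk α, ObjectProperty.homMk β, trivial⟩

end Groth.Agent.H14.Chart.OpenSub
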