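import Groth.Prelude.Def_AlgSt4
import Groth.Agent.H14.Sep.Cover
import Groth.Agent.Lib.AlgStack.Points

/-!
Points of algebraic stacks through scheme charts: comparison of charts, lifting, openness.
-/

set_option autoImplicit false
set_option backward.isDefEq.respectTransparency false
set_option backward.isDefEq.respectTransparency.types false

universe u

open CategoryTheory CategoryTheory.Limits AlgebraicGeometry

namespace Groth.Agent.H14.Chart.Points

open Groth.Agent.Lib.AlgStack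
open Groth.Agent.H14.Sep
open Groth.Agent.H14.Sep.Lft (vOf)
open FibCat (IsEquivOver fp fpFst fpSnd fpLift fpIso overCat IsFibGrpd toSelf)
open AlgSt (ofSp ofSpMap ofOverCat toOverCat spMapOfOver overMap RepByAlgSp1 RepByAlgSpWith IsAlgStack FPt)
open AlgSp (Sp yon IsAlgSpace LocP RepWith)

variable {S : Scheme.{u}} {𝒳 𝒴 𝒵 : AlgSt.Cat S}

/-- A field-valued point through a chart is the point of the chart below it. -/
theorem mk_obj_eq_ofChart {U : Over S} (x : overCat U ⥤ᵇ 𝒳) {K : Type u} [Field K]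
    {str : Spec (CommRingCat.of K) ⟶ S} (g : Over.mk str ⟶ U) :
    AlgSt.Points.mk { K := K, str := str, obj := x.obj (Over.mk g), lies := x.w_obj _ } =
      AlgSt.Points.ofChart x (g.left (IsLocalRing.closedPoint K)) := by
  let t := g.left (IsLocalRing.closedPoint K)
  let φ := Scheme.descResidueField (Scheme.stalkClosedPointTo g.left)
  have hφ : Spec.map φ ≫ U.left.fromSpecResidueField t = g.left :=
    Scheme.descResidueField_stalkClosedPointTo_fromSpecResidueField K U.left g.left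
  let d : Over.mk str ⟶ Over.mk (U.left.fromSpecResidueField t ≫ U.hom) :=
    Over.homMk (Spec.map φ) (by
      change Spec.map φ ≫ U.left.fromSpecResidueField t ≫ U.hom = str
      rw [← Category.assoc, hφ]; exact Over.w g)
  let m : Over.mk g ⟶ Over.mk (Over.homMk (U.left.fromSpecResidueField t) rfl :
      Over.mk (U.left.fromSpecResidueField t ≫ U.hom) ⟶ U) :=
    Over.homMk d (Over.OverMorphism.ext hφ)
  exact AlgSt.Points.sound
    ⟨{ K := K, str := str, obj := x.obj (Over.mk g), lies := x.w_obj _ }, 𝟙 _, x.map m, trivial⟩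

theorem ofChart_overMap {U V : Over S} (h : U ⟶ V) (y : overCat V ⥤ᵇ 𝒳) (u : ↥U.left) :
    AlgSt.Points.ofChart (BasedFunctor.comp (overMap h) y) u = AlgSt.Points.ofChart y (h.left u) := by
  have := mk_obj_eq_ofChart y ((Over.homMk (U.left.fromSpecResidueField u) rfl :
    Over.mk (U.left.fromSpecResidueField u ≫ U.hom) ⟶ U) ≫ h)
  refine this.trans (congrArg _ ?_)
  change h.left (U.left.fromSpecResidueField u (IsLocalRing.closedPoint _)) = _
  rw [Scheme.fromSpecResidueField_apply]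

theorem ofChart_iso {U : Over S} {x x' : overCat U ⥤ᵇ 𝒳} (e : x ≅ x') (u : ↥U.left) :
    AlgSt.Points.ofChart x u = AlgSt.Points.ofChart x' u :=
  AlgSt.Points.sound ⟨_, 𝟙 _, (BasedBasic.appIso e _).hom, trivial⟩

theorem map_ofChart (f : 𝒳 ⥤ᵇ 𝒴) {U : Over S} (x : overCat U ⥤ᵇ 𝒳) (u : ↥U.left) :
    AlgSt.Points.map f (AlgSt.Points.ofChart x u) = AlgSt.Points.ofChart (BasedFunctor.comp x f) u :=
  rfl

/-- Every point lies on a chart. -/
theorem exists_ofChart_eq (h : IsFibGrpd 𝒳.p) (p : AlgSt.Points 𝒳) :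
    ∃ (U : Over S) (x : overCat U ⥤ᵇ 𝒳) (u : ↥U.left), AlgSt.Points.ofChart x u = p := by
  obtain ⟨p, rfl⟩ := AlgSt.Points.mk_surjective p
  let x := Yoneda.fromObj h p.lies
  obtain ⟨e, -⟩ := Yoneda.exists_fromObj_iso h p.lies
  refine ⟨Over.mk p.str, x, (𝟙 (Over.mk p.str) : _ ⟶ _).left (IsLocalRing.closedPoint p.K),
    (mk_obj_eq_ofChart x (𝟙 (Over.mk p.str))).symm.trans ?_⟩
  exact AlgSt.Points.sound
    ⟨{ K := p.K, str := p.str, obj := x.obj (Over.mk (𝟙 _)), lies := x.w_obj _ }, 𝟙 _, e.hom, trivial⟩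

/-- Two charts give the same point only if they agree on some common refinement. -/
theorem exists_of_ofChart_eq (h : IsFibGrpd 𝒳.p) {U V : Over S} {x : overCat U ⥤ᵇ 𝒳}
    {y : overCat V ⥤ᵇ 𝒳} {u : ↥U.left} {v : ↥V.left}
    (e : AlgSt.Points.ofChart x u = AlgSt.Points.ofChart y v) :
    ∃ (W : Over S) (a : W ⟶ U) (b : W ⟶ V) (w : ↥W.left), a.left w = u ∧ b.left w = v ∧
      Nonempty (BasedFunctor.comp (overMap a) x ≅ BasedFunctor.comp (overMap b) y) := by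
  obtain ⟨r, α, β, -⟩ := Lib.AlgStack.Points.rel_of_mk_eq h e
  let Au : Over.mk (U.left.fromSpecResidueField u ≫ U.hom) ⟶ U :=
    Over.homMk (U.left.fromSpecResidueField u) rfl
  let Bv : Over.mk (V.left.fromSpecResidueField v ≫ V.hom) ⟶ V :=
    Over.homMk (V.left.fromSpecResidueField v) rfl
  let W : Over S := Over.mk r.str
  let ga : W ⟶ Over.mk (U.left.fromSpecResidueField u ≫ U.hom) :=
    eqToHom r.lies.symm ≫ 𝒳.p.map α ≫ eqToHom (x.w_obj (Over.mk Au))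
  let gb : W ⟶ Over.mk (V.left.fromSpecResidueField v ≫ V.hom) :=
    eqToHom r.lies.symm ≫ 𝒳.p.map β ≫ eqToHom (y.w_obj (Over.mk Bv))
  have hα : 𝒳.p.IsHomLift ga α := IsHomLift.of_fac 𝒳.p ga α r.lies (x.w_obj _) rfl
  have hβ : 𝒳.p.IsHomLift gb β := IsHomLift.of_fac 𝒳.p gb β r.lies (y.w_obj _) rfl
  let ma : (BasedFunctor.comp (overMap (ga ≫ Au)) x).obj (Over.mk (𝟙 W)) ⟶ x.obj (Over.mk Au) :=
    x.map (Over.homMk ga (by simp) : Over.mk (𝟙 W ≫ (ga ≫ Au)) ⟶ Over.mk Au)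
  let mb : (BasedFunctor.comp (overMap (gb ≫ Bv)) y).obj (Over.mk (𝟙 W)) ⟶ y.obj (Over.mk Bv) :=
    y.map (Over.homMk gb (by simp) : Over.mk (𝟙 W ≫ (gb ≫ Bv)) ⟶ Over.mk Bv)
  have hma : 𝒳.p.IsHomLift ga ma :=
    Yoneda.map_isHomLift x (Over.homMk ga (by simp) : Over.mk (𝟙 W ≫ (ga ≫ Au)) ⟶ Over.mk Au)
  have hmb : 𝒳.p.IsHomLift gb mb :=
    Yoneda.map_isHomLift y (Over.homMk gb (by simp) : Over.mk (𝟙 W ≫ (gb ≫ Bv)) ⟶ Over.mk Bv)
  have ca : 𝒳.p.IsStronglyCartesian ga α := Yoneda.stronglyCartesian h ga α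
  have cb : 𝒳.p.IsStronglyCartesian gb mb := Yoneda.stronglyCartesian h gb mb
  let θ₁ := Functor.IsStronglyCartesian.map 𝒳.p ga α (g := 𝟙 W) (Category.id_comp ga).symm ma
  let θ₂ := Functor.IsStronglyCartesian.map 𝒳.p gb mb (g := 𝟙 W) (Category.id_comp gb).symm β
  have h1 : 𝒳.p.IsHomLift (𝟙 W) θ₁ := Functor.IsStronglyCartesian.map_isHomLift _ _ _ _ _
  have h2 : 𝒳.p.IsHomLift (𝟙 W) θ₂ := Functor.IsStronglyCartesian.map_isHomLift _ _ _ _ _
  have h3 : 𝒳.p.IsHomLift (𝟙 W) (θ₁ ≫ θ₂) := inferInstance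
  obtain ⟨ε, -⟩ := Yoneda.exists_iso_of_id h (BasedFunctor.comp (overMap (ga ≫ Au)) x)
    (BasedFunctor.comp (overMap (gb ≫ Bv)) y) (θ₁ ≫ θ₂)
  refine ⟨W, ga ≫ Au, gb ≫ Bv, IsLocalRing.closedPoint r.K, ?_, ?_, ⟨ε⟩⟩
  · exact (Scheme.Hom.comp_apply _ _ _).trans (Scheme.fromSpecResidueField_apply u _)
  · exact (Scheme.Hom.comp_apply _ _ _).trans (Scheme.fromSpecResidueField_apply v _)

theorem ofChart_eq_of_iso {U V W : Over S} {x : overCat U ⥤ᵇ 𝒳} {y : overCat V ⥤ᵇ 𝒳} (a : W ⟶ U)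
    (b : W ⟶ V) (e : BasedFunctor.comp (overMap a) x ≅ BasedFunctor.comp (overMap b) y) (w : ↥W.left) :
    AlgSt.Points.ofChart x (a.left w) = AlgSt.Points.ofChart y (b.left w) := by
  rw [← ofChart_overMap, ← ofChart_overMap]
  exact ofChart_iso e w

/-! ### The space representing a base change to a scheme, and its points -/

theorem spMap_toOverCat_overMap {U V : Over S} (h : U ⟶ V) :
    spMapOfOver (BasedFunctor.comp (toOverCat U) (overMap h)) = (yon S).map h :=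
  Rep.spMapOfOver_ofSpMap_toOverCat ((yon S).map h)

/-- Maps to the representing space. -/
theorem exists_hom_of_iso {f : 𝒵 ⥤ᵇ 𝒳} {V : Over S} {y : overCat V ⥤ᵇ 𝒳} {G : Sp S}
    {e : ofSp G ⥤ᵇ fp y f} (he : IsEquivOver e) {W : Over S} (a : W ⟶ V) (z : overCat W ⥤ᵇ 𝒵)
    (β : BasedFunctor.comp (overMap a) y ≅ BasedFunctor.comp z f) :
    ∃ g : (yon S).obj W ⟶ G, g ≫ spMapOfOver (BasedFunctor.comp e (fpFst y f)) = (yon S).map a ∧
      Nonempty (BasedFunctor.comp (ofSpMap g) (BasedFunctor.comp e (fpSnd y f)) ≅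
        BasedFunctor.comp (toOverCat W) z) := by
  let η : ofSp ((yon S).obj W) ⥤ᵇ fp y f :=
    BasedFunctor.comp (toOverCat W) (fpLift (overMap a) z β)
  obtain ⟨inv, -, -, ⟨ε⟩⟩ := BasedBasic.IsEquivOver.exists_inverse he
  let g := Space.spHom (BasedFunctor.comp η inv)
  let ι : BasedFunctor.comp (ofSpMap g) e ≅ η :=
    (BasedBasic.isoWhiskerRight (OfPsh.isoOfPshMap (BasedFunctor.comp η inv)) e).symm ≪≫
      BasedBasic.isoWhiskerLeft η ε
  refine ⟨g, ?_, ⟨BasedBasic.isoWhiskerRight ι (fpSnd y f)⟩⟩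
  rw [← Rep.spMapOfOver_precomp, ← spMap_toOverCat_overMap]
  exact Rep.spMapOfOver_eq_of_iso (BasedBasic.isoWhiskerRight ι (fpFst y f))

/-- Lifting a chart along a surjective representable functor. -/
theorem exists_chart_lift {f : 𝒵 ⥤ᵇ 𝒳} (hs : RepByAlgSpWith AlgSp.IsSurjectiveMor f) {T : Over S}
    (y : overCat T ⥤ᵇ 𝒳) :
    ∃ (T' : Over S) (s : T' ⟶ T) (_ : Surjective s.left) (z : overCat T' ⥤ᵇ 𝒵),
      Nonempty (BasedFunctor.comp (overMap s) y ≅ BasedFunctor.comp z f) ∧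
      ∀ {Q : MorphismProperty Scheme.{u}}, Lib.SourceDescent.Scheme.EtaleLocalST Q →
        RepByAlgSpWith (LocP Q) f → Q s.left := by
  obtain ⟨G, e, he, hsu⟩ := hs T y
  obtain ⟨T', p, hp, hps⟩ := G.property.atlas
  let γ : G.obj ⟶ (yon S).obj T := spMapOfOver (BasedFunctor.comp e (fpFst y f))
  obtain ⟨s, hs'⟩ := (yon S).map_surjective (p ≫ γ)
  have h2 : Surjective s.left := ⟨fun t => by
    obtain ⟨g, hg⟩ := hsu (AlgSp.Points.schemeHomeo T t)
    obtain ⟨q, hq⟩ := Lib.AlgSpace.surjective_map hps g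
    obtain ⟨t', rfl⟩ := (AlgSp.Points.schemeHomeo T').surjective q
    refine ⟨t', (AlgSp.Points.schemeHomeo T).injective ?_⟩
    rw [← AlgSp.Points.map_yon_map_apply, ← hg, ← hq, hs', AlgSp.Points.map_comp]⟩
  let η : overCat T' ⥤ᵇ fp y f :=
    BasedFunctor.comp (ofOverCat T') (BasedFunctor.comp (ofSpMap p) e)
  have hv : spMapOfOver (BasedFunctor.comp (ofSpMap p) (BasedFunctor.comp e (fpFst y f))) =
      (yon S).map s := by rw [Rep.spMapOfOver_precomp, hs']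
  let ι : BasedFunctor.comp η (fpFst y f) ≅ vOf s :=
    BasedBasic.isoWhiskerLeft (ofOverCat T')
      (Rep.isoSpMapOfOver (BasedFunctor.comp (ofSpMap p) (BasedFunctor.comp e (fpFst y f))) ≪≫
        eqToIso (by rw [hv]))
  exact ⟨T', s, h2, BasedFunctor.comp η (fpSnd y f),
    ⟨(BasedBasic.isoWhiskerRight ι y).symm ≪≫ BasedBasic.isoWhiskerLeft η (fpIso y f)⟩,
    fun {Q} hQ hf => Space.prop_of_rep (IsAlgFp.respectsIsoSp_locP hQ) hf G.property he p (𝟙 _) s hp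
      (AlgSp.repWith_id _ _) (by rw [Category.comp_id, hs'])⟩

theorem isSurjective_of_rep (h𝒳 : IsFibGrpd 𝒳.p) {f : 𝒵 ⥤ᵇ 𝒳}
    (hs : RepByAlgSpWith AlgSp.IsSurjectiveMor f) : AlgSt.IsSurjective f := fun p => by
  obtain ⟨T, y, t, rfl⟩ := exists_ofChart_eq h𝒳 p
  obtain ⟨T', s, _, z, ⟨β⟩, -⟩ := exists_chart_lift hs y
  obtain ⟨t', rfl⟩ := s.left.surjective t
  exact ⟨AlgSt.Points.ofChart z t', by rw [map_ofChart, ← ofChart_iso β, ofChart_overMap]⟩

theorem rep_of_isSurjective (h𝒳 : IsFibGrpd 𝒳.p) (h𝒵 : IsFibGrpd 𝒵.p) {f : 𝒵 ⥤ᵇ 𝒳}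
    (hf : RepByAlgSp1 f) (hs : AlgSt.IsSurjective f) :
    RepByAlgSpWith AlgSp.IsSurjectiveMor f := fun T y => by
  obtain ⟨G, e, he⟩ := hf T y
  refine ⟨G, e, he, fun τ => ?_⟩
  obtain ⟨t, rfl⟩ := (AlgSp.Points.schemeHomeo T).surjective τ
  obtain ⟨p, hp⟩ := hs (AlgSt.Points.ofChart y t)
  obtain ⟨U, z, k, rfl⟩ := exists_ofChart_eq h𝒵 p
  obtain ⟨W, a, b, w, ha, -, ⟨β⟩⟩ :=
    exists_of_ofChart_eq h𝒳 (x := y) (y := BasedFunctor.comp z f) hp.symm
  obtain ⟨g, hg, -⟩ := exists_hom_of_iso he a (BasedFunctor.comp (overMap b) z) β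
  refine ⟨AlgSp.Points.map g (AlgSp.Points.schemeHomeo W w), ?_⟩
  calc AlgSp.Points.map (spMapOfOver (BasedFunctor.comp e (fpFst y f)))
        (AlgSp.Points.map g (AlgSp.Points.schemeHomeo W w))
      = AlgSp.Points.map ((yon S).map a) (AlgSp.Points.schemeHomeo W w) := by
        rw [← hg, AlgSp.Points.map_comp]
    _ = _ := by rw [AlgSp.Points.map_yon_map_apply, ha]

/-! ### Smooth charts -/

/-- Two charts, the second one smooth: the comparison scheme. -/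
theorem exists_chart_square {U V : Over S} (x : overCat U ⥤ᵇ 𝒳) (y : overCat V ⥤ᵇ 𝒳)
    (h𝒳 : IsFibGrpd 𝒳.p) {Q : MorphismProperty Scheme.{u}} (hx : RepByAlgSpWith (LocP Q) x) :
    ∃ (T : Over S) (s : T ⟶ V) (v : T ⟶ U), Q s.left ∧
      Nonempty (BasedFunctor.comp (overMap s) y ≅ BasedFunctor.comp (overMap v) x) ∧
      ∀ (a : ↥V.left) (b : ↥U.left), AlgSt.Points.ofChart y a = AlgSt.Points.ofChart x b →
        ∃ t : ↥T.left, s.left t = a ∧ v.left t = b := by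
  obtain ⟨G, e, he, hQG⟩ := hx V y
  obtain ⟨T, p, hp, hps⟩ := G.property.atlas
  let γ : G.obj ⟶ (yon S).obj V := spMapOfOver (BasedFunctor.comp e (fpFst y x))
  let δ : G.obj ⟶ (yon S).obj U := spMapOfOver (BasedFunctor.comp e (fpSnd y x))
  obtain ⟨s, hs⟩ := (yon S).map_surjective (p ≫ γ)
  obtain ⟨v, hv⟩ := (yon S).map_surjective (p ≫ δ)
  let η : overCat T ⥤ᵇ fp y x :=
    BasedFunctor.comp (ofOverCat T) (BasedFunctor.comp (ofSpMap p) e)
  let ι₁ : BasedFunctor.comp η (fpFst y x) ≅ vOf s :=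
    BasedBasic.isoWhiskerLeft (ofOverCat T)
      (Rep.isoSpMapOfOver (BasedFunctor.comp (ofSpMap p) (BasedFunctor.comp e (fpFst y x))) ≪≫
        eqToIso (by rw [Rep.spMapOfOver_precomp, hs]))
  let ι₂ : BasedFunctor.comp η (fpSnd y x) ≅ vOf v :=
    BasedBasic.isoWhiskerLeft (ofOverCat T)
      (Rep.isoSpMapOfOver (BasedFunctor.comp (ofSpMap p) (BasedFunctor.comp e (fpSnd y x))) ≪≫
        eqToIso (by rw [Rep.spMapOfOver_precomp, hv]))
  refine ⟨T, s, v, hQG p (𝟙 _) s hp (AlgSp.repWith_id _ _) (by rw [Category.comp_id, hs]),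
    ⟨(BasedBasic.isoWhiskerRight ι₁ y).symm ≪≫ BasedBasic.isoWhiskerLeft η (fpIso y x) ≪≫
      BasedBasic.isoWhiskerRight ι₂ x⟩, fun a b hab => ?_⟩
  obtain ⟨W, a', b', w, rfl, rfl, ⟨β⟩⟩ := exists_of_ofChart_eq h𝒳 hab
  obtain ⟨g, hg₁, ⟨ι⟩⟩ := exists_hom_of_iso he a' (overMap b') β
  have hg₂ : g ≫ δ = (yon S).map b' := by
    rw [← Rep.spMapOfOver_precomp, ← spMap_toOverCat_overMap]
    exact Rep.spMapOfOver_eq_of_iso ι
  obtain ⟨t, ht⟩ := Lib.AlgSpace.surjective_ofPt hps (AlgSp.Points.ofPt g w)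
  obtain ⟨W', c, d, w', rfl, rfl, hcd⟩ := (Lib.AlgSpace.ofPt_eq_ofPt_iff p g t w).1 ht
  have key : ∀ {X : Over S} (ε : G.obj ⟶ (yon S).obj X) (k : T ⟶ X) (l : W ⟶ X),
      p ≫ ε = (yon S).map k → g ≫ ε = (yon S).map l → k.left (c.left w') = l.left (d.left w') := by
    intro X ε k l hk hl
    have : c ≫ k = d ≫ l := (yon S).map_injective (by
      rw [Functor.map_comp, Functor.map_comp, ← hk, ← hl, reassoc_of% hcd])
    rw [← Scheme.Hom.comp_apply, ← Scheme.Hom.comp_apply, ← Over.comp_left, ← Over.comp_left, this]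
  exact ⟨_, key γ s a' hs.symm hg₁, key δ v b' hv.symm hg₂⟩

/-- The preimage of the image of an open set under a smooth chart is open. -/
theorem isOpen_preimage_image (h𝒳 : IsFibGrpd 𝒳.p) {U V : Over S} {x : overCat U ⥤ᵇ 𝒳}
    (hx : RepByAlgSpWith (LocP @Smooth) x) (y : overCat V ⥤ᵇ 𝒳) {O : Set ↥U.left} (hO : IsOpen O) :
    IsOpen (AlgSt.Points.ofChart y ⁻¹' (AlgSt.Points.ofChart x '' O)) := by
  obtain ⟨T, s, v, hs, ⟨β⟩, h⟩ := exists_chart_square x y h𝒳 hx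
  have := hs
  have heq : AlgSt.Points.ofChart y ⁻¹' (AlgSt.Points.ofChart x '' O) = s.left '' (v.left ⁻¹' O) := by
    ext a
    constructor
    · rintro ⟨b, hb, hab⟩
      obtain ⟨t, rfl, rfl⟩ := h a b hab.symm
      exact ⟨t, hb, rfl⟩
    · rintro ⟨t, ht, rfl⟩
      exact ⟨_, ht, (ofChart_eq_of_iso s v β t).symm⟩
  rw [heq]
  exact s.left.isOpenMap _ (hO.preimage v.left.continuous)

/-- A smooth chart is open on points. -/
theorem isOpenMap_ofChart (h𝒳 : IsFibGrpd 𝒳.p) {U : Over S} {x : overCat U ⥤ᵇ 𝒳}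
    (hx : RepByAlgSpWith (LocP @Smooth) x) : IsOpenMap (AlgSt.Points.ofChart x) :=
  fun _ hO _ y _ => isOpen_preimage_image h𝒳 hx y hO

/-- A functor between slices comes from a morphism of schemes. -/
theorem exists_iso_overMap {W U : Over S} (z : overCat W ⥤ᵇ overCat U) :
    ∃ v : W ⟶ U, Nonempty (z ≅ overMap v) := by
  obtain ⟨v, hv⟩ := (yon S).map_surjective (spMapOfOver (BasedFunctor.comp (toOverCat W) z))
  let ι : z ≅ vOf v := BasedBasic.isoWhiskerLeft (ofOverCat W)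
    (Rep.isoSpMapOfOver (BasedFunctor.comp (toOverCat W) z) ≪≫ eqToIso (by rw [hv]))
  exact ⟨v, ⟨ι⟩⟩

/-- A surjective chart is surjective on points. -/
theorem surjective_ofChart (h𝒳 : IsFibGrpd 𝒳.p) {U : Over S} {x : overCat U ⥤ᵇ 𝒳}
    (hx : RepByAlgSpWith AlgSp.IsSurjectiveMor x) : Function.Surjective (AlgSt.Points.ofChart x) :=
  fun p => by
    obtain ⟨q, rfl⟩ := isSurjective_of_rep h𝒳 hx p
    obtain ⟨W, z, k, rfl⟩ := exists_ofChart_eq (Yoneda.isFibGrpd_overCat U) q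
    obtain ⟨v, ⟨ε⟩⟩ := exists_iso_overMap z
    exact ⟨v.left k, by
      rw [map_ofChart, ← ofChart_overMap]
      exact (ofChart_iso (BasedBasic.isoWhiskerRight ε x) k).symm⟩

/-- Every chart is continuous on points. -/
theorem continuous_ofChart (h𝒳 : IsAlgStack Scheme.fppfPrecoverage 𝒳) {V : Over S}
    (y : overCat V ⥤ᵇ 𝒳) : Continuous (AlgSt.Points.ofChart y) := by
  refine ⟨fun W hW => ?_⟩
  obtain ⟨U, a, ha, has⟩ := h𝒳.atlas
  have : AlgSt.Points.ofChart y ⁻¹' W = AlgSt.Points.ofChart y ⁻¹'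
      (AlgSt.Points.ofChart a '' (AlgSt.Points.ofChart a ⁻¹' W)) := by
    ext t
    constructor
    · intro ht
      obtain ⟨b, hb⟩ := surjective_ofChart h𝒳.isStack.1 has (AlgSt.Points.ofChart y t)
      exact ⟨b, show _ ∈ W by rw [hb]; exact ht, hb⟩
    · rintro ⟨b, hb, hab⟩
      show _ ∈ W
      rw [← hab]; exact hb
  rw [this]
  exact isOpen_preimage_image h𝒳.isStack.1 ha y (hW U a ha)

end Groth.Agent.H14.Chart.Points
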