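import Groth.Agent.H14.Chart.LocQ2

/-!
Properties of schemes local for the smooth topology, on algebraic stacks.
-/

set_option autoImplicit false
set_option backward.isDefEq.respectTransparency false
set_option backward.isDefEq.respectTransparency.types false

universe u

open CategoryTheory CategoryTheory.Limits AlgebraicGeometry

namespace Groth.Agent.H14.Chart.SmLoc

open Groth.Agent.Lib.AlgStack
open Groth.Agent.H14.Sep
open Groth.Agent.H14.Sep.Lft (vOf)
open FibCat (IsEquivOver fp fpFst fpSnd fpLift fpIso overCat IsFibGrpd toSelf)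
open AlgSt (ofSp ofSpMap ofOverCat toOverCat spMapOfOver overMap RepByAlgSp1 RepByAlgSpWith IsAlgStack)
open AlgSp (Sp yon IsAlgSpace LocP RepWith IsSurjectiveMor)

/-- A property of schemes is local for the smooth topology. -/
def IsSmLocal (P : Scheme.{u} → Prop) : Prop :=
  ∀ (U : Scheme.{u}) (R : Presieve U), R ∈ Scheme.precoverage @Smooth U →
    (P U ↔ ∀ ⦃V : Scheme.{u}⦄ (g : V ⟶ U), R g → P V)

variable {P : Scheme.{u} → Prop}

theorem IsSmLocal.of_smooth (hP : IsSmLocal P) {V U : Scheme.{u}} (g : V ⟶ U) [hg : Smooth g]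
    (h : P U) : P V := by
  let E : PreZeroHypercover.{u} U :=
    { I₀ := ULift Bool, X := fun b => if b.down then V else U,
      f := fun b => match b with
        | ⟨true⟩ => g
        | ⟨false⟩ => 𝟙 U }
  have hE : E.presieve₀ ∈ Scheme.precoverage @Smooth U := by
    rw [Scheme.presieve₀_mem_precoverage_iff]
    exact ⟨fun x => ⟨⟨false⟩, x, rfl⟩, fun b => match b with
      | ⟨true⟩ => hg
      | ⟨false⟩ => (inferInstance : Smooth (𝟙 U))⟩
  exact (hP U _ hE).1 h (E.f ⟨true⟩) (E.presieve₀_f ⟨true⟩)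

theorem IsSmLocal.of_smooth_surjective (hP : IsSmLocal P) {V U : Scheme.{u}} (g : V ⟶ U)
    [hg : Smooth g] [Surjective g] (h : P V) : P U := by
  have hE : (PreZeroHypercover.singleton.{u} g).presieve₀ ∈ Scheme.precoverage @Smooth U := by
    rw [Scheme.presieve₀_mem_precoverage_iff]
    exact ⟨fun x => ⟨PUnit.unit, g.surjective x⟩, fun _ => hg⟩
  refine (hP U _ hE).2 ?_
  rintro W _ ⟨i⟩
  exact h

variable {S : Scheme.{u}} {𝒳 : AlgSt.Cat S}

/-- Two smooth charts have a common refinement smooth over both. -/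
theorem exists_smooth_square {U V : Over S} (x : overCat U ⥤ᵇ 𝒳) (y : overCat V ⥤ᵇ 𝒳)
    (h𝒳 : IsFibGrpd 𝒳.p) (hx : RepByAlgSpWith (LocP @Smooth) x)
    (hy : RepByAlgSpWith (LocP @Smooth) y) :
    ∃ (T : Over S) (s : T ⟶ V) (v : T ⟶ U), Smooth s.left ∧ Smooth v.left ∧
      ∀ (a : ↥V.left) (b : ↥U.left), AlgSt.Points.ofChart y a = AlgSt.Points.ofChart x b →
        ∃ t : ↥T.left, s.left t = a ∧ v.left t = b := by
  obtain ⟨G, e, he, hQG⟩ := hx V y
  have hδ := Space.prop_of_rep (IsAlgFp.respectsIsoSp_locP LocQ.smoothST) hy G.property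
    (BasedBasic.IsEquivOver.comp he (FibProd.isEquivOver_swap y x))
  obtain ⟨T, p, hp, hps⟩ := G.property.atlas
  let γ : G.obj ⟶ (yon S).obj V := spMapOfOver (BasedFunctor.comp e (fpFst y x))
  let δ : G.obj ⟶ (yon S).obj U := spMapOfOver (BasedFunctor.comp e (fpSnd y x))
  obtain ⟨s, hs⟩ := (yon S).map_surjective (p ≫ γ)
  obtain ⟨v, hv⟩ := (yon S).map_surjective (p ≫ δ)
  refine ⟨T, s, v, hQG p (𝟙 _) s hp (AlgSp.repWith_id _ _) (by rw [Category.comp_id, hs]),
    (show LocP @Smooth δ from hδ) p (𝟙 _) v hp (AlgSp.repWith_id _ _) (by rw [Category.comp_id, hv]),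
    fun a b hab => ?_⟩
  obtain ⟨W, a', b', w, rfl, rfl, ⟨β⟩⟩ := Points.exists_of_ofChart_eq h𝒳 hab
  obtain ⟨g, hg₁, ⟨ι⟩⟩ := Points.exists_hom_of_iso he a' (overMap b') β
  have hg₂ : g ≫ δ = (yon S).map b' := by
    rw [← Rep.spMapOfOver_precomp, ← Points.spMap_toOverCat_overMap]
    exact Rep.spMapOfOver_eq_of_iso ι
  obtain ⟨t, ht⟩ := Lib.AlgSpace.surjective_ofPt hps (AlgSp.Points.ofPt g w)
  obtain ⟨W', c, d, w', rfl, rfl, hcd⟩ := (Lib.AlgSpace.ofPt_eq_ofPt_iff p g t w).1 ht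
  have key : ∀ {X : Over S} (ε : G.obj ⟶ (yon S).obj X) (k : T ⟶ X) (l : W ⟶ X),
      p ≫ ε = (yon S).map k → g ≫ ε = (yon S).map l → k.left (c.left w') = l.left (d.left w') := by
    intro X ε k l hk hl
    have : c ≫ k = d ≫ l := (yon S).map_injective (by
      rw [Functor.map_comp, Functor.map_comp, ← hk, ← hl, reassoc_of% hcd])
    rw [← Scheme.Hom.comp_apply, ← Scheme.Hom.comp_apply, ← Over.comp_left, ← Over.comp_left, this]
  exact ⟨_, key γ s a' hs.symm hg₁, key δ v b' hv.symm hg₂⟩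

/-- A smooth chart has the property as soon as a surjective smooth chart has it. -/
theorem smoothLocally_of_chart (hP : IsSmLocal P) (h𝒳 : IsFibGrpd 𝒳.p) {U : Over S}
    {x : overCat U ⥤ᵇ 𝒳} (hx : RepByAlgSpWith (LocP @Smooth) x)
    (hxs : RepByAlgSpWith IsSurjectiveMor x) (hU : P U.left) : AlgSt.SmoothLocally P 𝒳 := by
  intro V y hy
  obtain ⟨T, s, v, hs, hv, h⟩ := exists_smooth_square x y h𝒳 hx hy
  have := hs
  have := hv
  have : Surjective s.left := ⟨fun a => by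
    obtain ⟨b, hb⟩ := Points.surjective_ofChart h𝒳 hxs (AlgSt.Points.ofChart y a)
    obtain ⟨t, ht, -⟩ := h a b hb.symm
    exact ⟨t, ht⟩⟩
  exact hP.of_smooth_surjective s.left (hP.of_smooth v.left hU)

theorem smoothLocally_iff_exists (hP : IsSmLocal P) (h𝒳 : IsAlgStack Scheme.fppfPrecoverage 𝒳) :
    AlgSt.SmoothLocally P 𝒳 ↔ ∃ (U : Over S) (x : overCat U ⥤ᵇ 𝒳),
      RepByAlgSpWith (LocP @Smooth) x ∧ RepByAlgSpWith IsSurjectiveMor x ∧ P U.left := by
  refine ⟨fun h => ?_, fun ⟨U, x, hx, hxs, hU⟩ => smoothLocally_of_chart hP h𝒳.isStack.1 hx hxs hU⟩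
  obtain ⟨U, x, hx, hxs⟩ := h𝒳.atlas
  exact ⟨U, x, hx, hxs, h U x hx⟩

/-! ### Charts from algebraic spaces -/

/-- The chart of a scheme through an etale chart of a space. -/
theorem rep_etale_chart {F : AlgSp.Space S} {U : Over S} {p : (yon S).obj U ⟶ F.obj}
    (he : RepWith @Etale p) (hs : RepWith @Surjective p) :
    RepByAlgSpWith (LocP @Smooth) (BasedFunctor.comp (ofOverCat U) (ofSpMap p)) ∧
      RepByAlgSpWith IsSurjectiveMor (BasedFunctor.comp (ofOverCat U) (ofSpMap p)) :=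
  ⟨IsAlg.repByAlgSpWith_atlas he hs (fun _ _ q hq _ => IsAlg.locP_smooth hq),
    IsAlg.repByAlgSpWith_atlas he hs (fun _ _ q _ hq => Lib.AlgSpace.surjective_map hq)⟩

theorem smoothLocally_ofSp_iff (hP : IsSmLocal P) (X : AlgSp.Space S) :
    AlgSt.SmoothLocally P (ofSp X.obj) ↔ AlgSp.EtaleLocally P X.obj := by
  constructor
  · intro h
    obtain ⟨U, p, he, hs⟩ := X.property.atlas
    exact ⟨U, p, he, hs, h U _ (rep_etale_chart he hs).1⟩
  · rintro ⟨U, p, he, hs, hU⟩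
    exact smoothLocally_of_chart hP (Stk.isFibGrpd_ofPsh X.obj.obj) (rep_etale_chart he hs).1
      (rep_etale_chart he hs).2 hU

theorem etaleLocally_yon_iff (hP : IsSmLocal P) (U : Over S) :
    AlgSp.EtaleLocally P ((yon S).obj U) ↔ P U.left := by
  constructor
  · rintro ⟨V, p, he, hs, hV⟩
    obtain ⟨g, rfl⟩ := (yon S).map_surjective p
    have : Etale g.left := (AlgSp.repWith_yon_map_iff _ _).1 he
    have : Surjective g.left := (AlgSp.repWith_yon_map_iff _ _).1 hs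
    exact hP.of_smooth_surjective g.left hV
  · exact fun h => ⟨U, 𝟙 _, AlgSp.repWith_id _ _, AlgSp.repWith_id _ _, h⟩

theorem smoothLocally_iff_forall_space (hP : IsSmLocal P) :
    AlgSt.SmoothLocally P 𝒳 ↔ ∀ (U : AlgSp.Space S) (x : ofSp U.obj ⥤ᵇ 𝒳),
      RepByAlgSpWith (LocP @Smooth) x → AlgSp.EtaleLocally P U.obj := by
  constructor
  · intro h U x hx
    obtain ⟨V, p, he, hs⟩ := U.property.atlas
    exact ⟨V, p, he, hs, h V _ (IsAlgFp.comp_locP LocQ.smoothST (Yoneda.isFibGrpd_overCat V)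
      (Stk.isFibGrpd_ofPsh U.obj.obj) (rep_etale_chart he hs).1 hx)⟩
  · intro h U x hx
    exact (etaleLocally_yon_iff hP U).1 (h ((AlgSp.ofScheme S).obj U) _
      (LocQ.rep_precomp_equiv (Rep.isEquivOver_toOverCat U) hx))

theorem smoothLocally_iff_exists_space (hP : IsSmLocal P)
    (h𝒳 : IsAlgStack Scheme.fppfPrecoverage 𝒳) :
    AlgSt.SmoothLocally P 𝒳 ↔ ∃ (U : AlgSp.Space S) (x : ofSp U.obj ⥤ᵇ 𝒳),
      RepByAlgSpWith (LocP @Smooth) x ∧ RepByAlgSpWith IsSurjectiveMor x ∧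
        AlgSp.EtaleLocally P U.obj := by
  constructor
  · intro h
    obtain ⟨U, x, hx, hxs, hU⟩ := (smoothLocally_iff_exists hP h𝒳).1 h
    exact ⟨(AlgSp.ofScheme S).obj U, _, LocQ.rep_precomp_equiv (Rep.isEquivOver_toOverCat U) hx,
      LocQ.rep_precomp_equiv (Rep.isEquivOver_toOverCat U) hxs, (etaleLocally_yon_iff hP U).2 hU⟩
  · rintro ⟨U, x, hx, hxs, V, p, he, hs, hV⟩
    exact smoothLocally_of_chart hP h𝒳.isStack.1
      (IsAlgFp.comp_locP LocQ.smoothST (Yoneda.isFibGrpd_overCat V) (Stk.isFibGrpd_ofPsh U.obj.obj)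
        (rep_etale_chart he hs).1 hx)
      (IsAlgFp.comp_surjective (Yoneda.isFibGrpd_overCat V) (Stk.isFibGrpd_ofPsh U.obj.obj)
        (rep_etale_chart he hs).2 hxs) hV

end Groth.Agent.H14.Chart.SmLoc
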