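import Groth.Agent.Lib.SourceDescent.Ring
import Groth.Agent.Lib.Flat55.FlatDescend

/-!
Descent of finiteness conditions along standard smooth faithfully flat ring maps on the source.
-/

universe u

open TensorProduct
open Groth.Agent.Lib.SourceDescent.Ring (surjective_of_tensor_map_surjective)

namespace Groth.Agent.H14.Chart.SmRing

variable (A B C : Type u) [CommRing A] [CommRing B] [CommRing C]
  [Algebra A B] [Algebra B C] [Algebra A C] [IsScalarTower A B C]

variable {A B C} in
/-- An standard smooth algebra over a quotient lifts to an standard smooth algebra over the ring. -/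
theorem exists_stdSmooth_lift {P : Type u} [CommRing P] [Algebra P B] [Algebra P C] [IsScalarTower P B C]
    (hP : Function.Surjective (algebraMap P B)) [Algebra.IsStandardSmooth B C] :
    ∃ (Q : Type u) (_ : CommRing Q) (_ : Algebra P Q) (π : Q →ₐ[P] C),
      Algebra.IsStandardSmooth P Q ∧ Function.Surjective π ∧
        RingHom.ker π = (RingHom.ker (algebraMap P B)).map (algebraMap P Q) := by
  classical
  obtain ⟨ι, σ, _, _, ⟨S⟩⟩ := Algebra.IsStandardSmooth.out (R := B) (S := C)
  cases nonempty_fintype σ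
  have hmap : Function.Surjective (MvPolynomial.map (σ := ι) (algebraMap P B)) :=
    MvPolynomial.map_surjective _ hP
  choose v hv using fun j : σ ↦ hmap (S.relation j)
  let pre := Algebra.PreSubmersivePresentation.naive (R := P) (v := v) S.map S.map_inj
  let Q₀ := MvPolynomial ι P ⧸ Ideal.span (Set.range v)
  let π₀ : Q₀ →ₐ[P] C := Ideal.Quotient.liftₐ _ (MvPolynomial.aeval S.val) (by
    intro a ha
    refine Submodule.span_induction (p := fun x _ ↦ MvPolynomial.aeval S.val x = (0 : C))
      (fun x hx ↦ ?_) (map_zero _) (fun _ _ _ _ hx hy ↦ by simp [hx, hy])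
      (fun _ _ _ hx ↦ by simp [hx]) ha
    obtain ⟨j, rfl⟩ := hx
    rw [← MvPolynomial.aeval_map_algebraMap B, hv]
    exact S.toPresentation.aeval_val_relation j)
  let d : Q₀ := pre.jacobian
  have hd : π₀ d = S.jacobian := by
    rw [show d = pre.jacobian from rfl, pre.jacobian_eq_jacobiMatrix_det,
      S.jacobian_eq_jacobiMatrix_det]
    have e : pre.jacobiMatrix.map (MvPolynomial.map (algebraMap P B)) = S.jacobiMatrix := by
      ext i j : 1
      rw [Matrix.map_apply, Algebra.PreSubmersivePresentation.jacobiMatrix_apply,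
        Algebra.PreSubmersivePresentation.jacobiMatrix_apply, ← hv, MvPolynomial.pderiv_map]
      rfl
    rw [← e, ← RingHom.mapMatrix_apply, ← RingHom.map_det]
    rw [S.toGenerators.algebraMap_apply, MvPolynomial.aeval_map_algebraMap,
      show algebraMap pre.Ring Q₀ = Ideal.Quotient.mk _ from ?_]
    · rfl
    · refine MvPolynomial.ringHom_ext (fun r ↦ ?_) (fun i ↦ ?_)
      · rw [pre.toGenerators.algebraMap_apply, MvPolynomial.aeval_C]
        rfl
      · rw [pre.toGenerators.algebraMap_apply, MvPolynomial.aeval_X]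
        rfl
  let Q := Localization.Away d
  have hdu : ∀ y : Submonoid.powers d, IsUnit (π₀ y) := by
    rintro ⟨_, n, rfl⟩
    simp only [map_pow, hd]
    exact S.jacobian_isUnit.pow n
  let π : Q →ₐ[P] C := IsLocalization.liftAlgHom (M := Submonoid.powers d) (f := π₀) hdu
  let sub : Algebra.SubmersivePresentation P Q (Unit ⊕ ι) (Unit ⊕ σ) :=
    { toPreSubmersivePresentation :=
        (Algebra.PreSubmersivePresentation.localizationAway Q d).comp pre
      jacobian_isUnit := by
        have hu : IsUnit (algebraMap Q₀ Q d) := IsLocalization.Away.algebraMap_isUnit d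
        rw [Algebra.PreSubmersivePresentation.comp_jacobian_eq_jacobian_smul_jacobian,
          Algebra.smul_def, Algebra.PreSubmersivePresentation.localizationAway_jacobian,
          IsUnit.mul_iff]
        exact ⟨hu, hu⟩ }
  have : Algebra.IsStandardSmooth P Q := sub.isStandardSmooth
  have hπsurj : Function.Surjective π := by
    intro c
    obtain ⟨x, rfl⟩ := S.algebraMap_surjective c
    obtain ⟨p, rfl⟩ := hmap x
    refine ⟨algebraMap Q₀ Q (Ideal.Quotient.mk _ p), ?_⟩
    change IsLocalization.lift _ _ = _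
    rw [IsLocalization.lift_eq]
    rw [S.toGenerators.algebraMap_apply, MvPolynomial.aeval_map_algebraMap]
    rfl
  refine ⟨Q, inferInstance, inferInstance, π, inferInstance, hπsurj, le_antisymm ?_ ?_⟩
  · intro x hx
    obtain ⟨a, ⟨s, hs⟩, rfl⟩ := IsLocalization.exists_mk'_eq (Submonoid.powers d) x
    obtain ⟨p, rfl⟩ := Ideal.Quotient.mk_surjective a
    change IsLocalization.lift _ _ = 0 at hx
    rw [IsLocalization.lift_mk'_spec, mul_zero] at hx
    have hp : MvPolynomial.map (algebraMap P B) p ∈
        (Ideal.span (Set.range v)).map (MvPolynomial.map (algebraMap P B)) := by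
      rw [Ideal.map_span, ← Set.range_comp,
        show MvPolynomial.map (algebraMap P B) ∘ v = S.relation from funext hv,
        S.toPresentation.span_range_relation_eq_ker, Algebra.Generators.ker_eq_ker_aeval_val]
      exact (MvPolynomial.aeval_map_algebraMap B S.val p).trans hx
    rw [← Ideal.mem_comap, Ideal.comap_map_of_surjective _ hmap, ← RingHom.ker_eq_comap_bot,
      MvPolynomial.ker_map, Submodule.mem_sup] at hp
    obtain ⟨y, hy, z, hz, rfl⟩ := hp
    rw [IsLocalization.mk'_eq_mul_mk'_one]
    refine Ideal.mul_mem_right _ _ ?_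
    rw [map_add (Ideal.Quotient.mk _), Ideal.Quotient.eq_zero_iff_mem.mpr hy, zero_add]
    have := Ideal.mem_map_of_mem ((algebraMap Q₀ Q).comp (Ideal.Quotient.mk _)) hz
    rw [Ideal.map_map] at this
    exact this
  · rw [Ideal.map_le_iff_le_comap]
    intro x hx
    rw [RingHom.mem_ker] at hx
    rw [Ideal.mem_comap, RingHom.mem_ker, AlgHom.commutes, IsScalarTower.algebraMap_apply P B C, hx,
      map_zero]


theorem finitePresentation_of_comp_of_finiteType [Module.FaithfullyFlat B C] [Algebra.IsStandardSmooth B C]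
    [Algebra.FiniteType A B] [Algebra.FinitePresentation A C] :
    Algebra.FinitePresentation A B := by
  classical
  obtain ⟨n, f, hf⟩ := Algebra.FiniteType.iff_quotient_mvPolynomial''.mp ‹Algebra.FiniteType A B›
  let P := MvPolynomial (Fin n) A
  algebraize [f.toRingHom, (algebraMap B C).comp f.toRingHom]
  have : IsScalarTower P B C := .of_algebraMap_eq' rfl
  obtain ⟨Q, _, _, π, hQ, hπ, hker⟩ := exists_stdSmooth_lift (B := B) (C := C) (P := P) hf
  refine .of_surjective hf ?_
  have : Algebra.Smooth P Q := inferInstance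
  set I := RingHom.ker f.toRingHom
  have hker' : RingHom.ker π = I.map (algebraMap P Q) := hker
  algebraize [(algebraMap P Q).comp (algebraMap A P)]
  have : Algebra.FinitePresentation A Q := Algebra.FinitePresentation.trans A P Q
  let π' : Q →ₐ[A] C :=
    { π.toRingHom with
      commutes' := fun r ↦ by
        simp [IsScalarTower.algebraMap_apply A B C,
          RingHom.algebraMap_toAlgebra] }
  have hfg : (I.map (algebraMap P Q)).FG := by
    rw [← hker']
    exact Algebra.FinitePresentation.ker_fG_of_surjective π' hπ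
  -- the open image of `Spec Q` contains `V(I)`
  have : Algebra.HasGoingDown P Q := inferInstance
  have hopen : IsOpen (Set.range (PrimeSpectrum.comap (algebraMap P Q))) :=
    (PrimeSpectrum.isOpenMap_comap_of_hasGoingDown_of_finitePresentation (R := P) (S := Q)).isOpen_range
  obtain ⟨K, hK⟩ := (PrimeSpectrum.isClosed_iff_zeroLocus_ideal _).mp hopen.isClosed_compl
  have hIU : PrimeSpectrum.zeroLocus (I : Set P) ⊆
      Set.range (PrimeSpectrum.comap (algebraMap P Q)) := by
    intro p hp
    obtain ⟨b, rfl⟩ : p ∈ Set.range (PrimeSpectrum.comap (algebraMap P B)) := by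
      rwa [range_comap_of_surjective _ (algebraMap P B) hf]
    obtain ⟨c, rfl⟩ := PrimeSpectrum.comap_surjective_of_faithfullyFlat (A := B) (B := C) b
    refine ⟨PrimeSpectrum.comap π.toRingHom c, ?_⟩
    ext x
    simp [RingHom.algebraMap_toAlgebra]
  have hIK : I ⊔ K = ⊤ := by
    rw [← PrimeSpectrum.zeroLocus_empty_iff_eq_top, PrimeSpectrum.zeroLocus_sup, ← hK]
    exact Set.eq_empty_of_forall_notMem fun p hp ↦ hp.2 (hIU hp.1)
  obtain ⟨i, hi, k, hk, hik⟩ := Submodule.mem_sup.mp ((Ideal.eq_top_iff_one _).mp hIK)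
  obtain ⟨s, hsI, hs⟩ :=
    (Submodule.fg_span_iff_fg_span_finset_subset (R := Q) ((algebraMap P Q) '' I)).mp hfg
  obtain ⟨t, htI, rfl⟩ := Finset.subset_set_image_iff.mp hsI
  let J : Ideal P := Ideal.span (insert i (t : Set P))
  have hJI : J ≤ I := Ideal.span_le.mpr (Set.insert_subset hi htI)
  suffices I ≤ J by
    rw [le_antisymm this hJI]
    exact Submodule.fg_span ((Finset.finite_toSet t).insert i)
  have hJQ : J.map (algebraMap P Q) = I.map (algebraMap P Q) := by
    refine le_antisymm (Ideal.map_mono hJI) ?_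
    calc I.map (algebraMap P Q) = Ideal.span ((algebraMap P Q) '' I) := rfl
      _ = Ideal.span ((t.image (algebraMap P Q) : Finset Q) : Set Q) := hs
      _ ≤ _ := by
        rw [Finset.coe_image, Ideal.span_le]
        rintro _ ⟨x, hx, rfl⟩
        exact Ideal.mem_map_of_mem _ (Ideal.subset_span (Set.mem_insert_of_mem _ hx))
  let L := Localization.Away i
  have : Module.Flat P (Q × L) := by
    refine Module.Flat.iff_lTensor_preserves_injective_linearMap.mpr fun N N' _ _ _ _ g hg ↦ ?_
    have h1 : Function.Injective (g.lTensor Q) := Module.Flat.lTensor_preserves_injective_linearMap g hg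
    have h2 : Function.Injective (g.lTensor L) := Module.Flat.lTensor_preserves_injective_linearMap g hg
    have key : ∀ x, TensorProduct.prodLeft P P Q L N' (g.lTensor (Q × L) x) =
        Prod.map (g.lTensor Q) (g.lTensor L) (TensorProduct.prodLeft P P Q L N x) := by
      intro x
      induction x with
      | zero => simp [Prod.map, Prod.mk_zero_zero]
      | add x y hx hy => simp [map_add, hx, hy, Prod.map]
      | tmul a m =>
        obtain ⟨a₁, a₂⟩ := a
        simp [Prod.map]
    exact fun x y h ↦ (TensorProduct.prodLeft P P Q L N).injective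
      ((h1.prodMap h2) (by rw [← key, ← key, h]))
  have : Module.FaithfullyFlat P (Q × L) := by
    refine .of_comap_surjective fun p ↦ ?_
    by_cases hp : p ∈ Set.range (PrimeSpectrum.comap (algebraMap P Q))
    · obtain ⟨q, rfl⟩ := hp
      exact ⟨PrimeSpectrum.comap (RingHom.fst Q L) q, by ext x; simp⟩
    · have hip : i ∉ p.asIdeal := by
        intro hip
        have hkp : k ∈ p.asIdeal :=
          (show p ∈ PrimeSpectrum.zeroLocus (K : Set P) by rw [← hK]; exact hp) hk
        exact p.2.ne_top ((Ideal.eq_top_iff_one _).mpr (hik ▸ add_mem hip hkp))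
      obtain ⟨q, rfl⟩ : p ∈ Set.range (PrimeSpectrum.comap (algebraMap P L)) := by
        rw [PrimeSpectrum.localization_away_comap_range L i]
        exact hip
      exact ⟨PrimeSpectrum.comap (RingHom.snd Q L) q, by ext x; simp⟩
  intro x hx
  rw [← Ideal.comap_map_eq_self_of_faithfullyFlat (B := Q × L) J, Ideal.mem_comap]
  set J' := J.map (algebraMap P (Q × L))
  have h2 : ∀ y : L, ((0 : Q), y) ∈ J' := by
    intro y
    have := J'.mul_mem_left ((0 : Q), y * IsLocalization.Away.invSelf i)
      (Ideal.mem_map_of_mem (algebraMap P (Q × L))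
        (Ideal.subset_span (Set.mem_insert i _) : i ∈ J))
    convert! this using 1
    ext
    · simp
    · simp only [Prod.algebraMap_apply, Prod.snd_mul]
      rw [mul_assoc, mul_comm (IsLocalization.Away.invSelf i), IsLocalization.Away.mul_invSelf,
        mul_one]
  have h1 : ∀ a ∈ J.map (algebraMap P Q), (a, (0 : L)) ∈ J' := by
    intro a ha
    refine Submodule.span_induction (fun y hy ↦ ?_) (zero_mem J') ?_ ?_ ha
    · obtain ⟨p, hp, rfl⟩ := hy
      have := J'.mul_mem_left ((1 : Q), (0 : L)) (Ideal.mem_map_of_mem _ hp)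
      convert! this using 1
      simp
    · intro y z _ _ hy hz
      convert! add_mem hy hz using 1
      simp
    · intro q y _ hy
      convert! J'.mul_mem_left (q, (0 : L)) hy using 1
      simp
  convert! add_mem (h1 (algebraMap P Q x) (hJQ ▸ Ideal.mem_map_of_mem _ hx))
    (h2 (algebraMap P L x)) using 1
  simp
  rfl


theorem finiteType_of_comp [Module.FaithfullyFlat B C] [Algebra.Smooth B C]
    [Algebra.FiniteType A C] : Algebra.FiniteType A B := by
  classical
  obtain ⟨A₀, B₀, _, _, hA₀, _, ⟨e⟩⟩ := Algebra.Smooth.exists_subalgebra_fg A B C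
  obtain ⟨s, hs⟩ := Algebra.FiniteType.out (R := A) (A := C)
  choose k t m h using fun x : s ↦ TensorProduct.exists_sum_tmul_eq (e x.1)
  have hopen : IsOpen (Set.range (PrimeSpectrum.comap (algebraMap A₀ B₀))) :=
    (PrimeSpectrum.isOpenMap_comap_of_hasGoingDown_of_finitePresentation (R := A₀) (S := B₀)).isOpen_range
  obtain ⟨K, hK⟩ := (PrimeSpectrum.isClosed_iff_zeroLocus_ideal _).mp hopen.isClosed_compl
  have hKtop : K.map (algebraMap A₀ B) = ⊤ := by
    rw [← PrimeSpectrum.zeroLocus_empty_iff_eq_top]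
    refine Set.eq_empty_of_forall_notMem fun b hb ↦ ?_
    obtain ⟨c, rfl⟩ := PrimeSpectrum.comap_surjective_of_faithfullyFlat (A := B) (B := C) b
    have hb' : PrimeSpectrum.comap (algebraMap A₀ B) (PrimeSpectrum.comap (algebraMap B C) c) ∈
        PrimeSpectrum.zeroLocus (K : Set A₀) :=
      fun x hx ↦ hb (Ideal.mem_map_of_mem _ hx)
    rw [← hK] at hb'
    refine hb' ⟨PrimeSpectrum.comap ((e.symm : B ⊗[A₀] B₀ →+* C).comp
      Algebra.TensorProduct.includeRight.toRingHom) c, ?_⟩
    rw [← PrimeSpectrum.comap_comp_apply, ← PrimeSpectrum.comap_comp_apply]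
    congr 1
    ext x
    simp only [RingHom.coe_comp, Function.comp_apply, AlgHom.toRingHom_eq_coe, RingHom.coe_coe,
      Algebra.TensorProduct.includeRight_apply]
    rw [Algebra.algebraMap_eq_smul_one (R := A₀) (A := B₀), ← TensorProduct.smul_tmul,
      ← Algebra.algebraMap_eq_smul_one, ← e.symm.commutes]
    rfl
  obtain ⟨N, cf, g, hcf⟩ := Submodule.mem_span_set'.mp
    ((Ideal.eq_top_iff_one _).mp hKtop :
      (1 : B) ∈ Submodule.span B ((algebraMap A₀ B) '' (K : Set A₀)))
  let W : Finset B := (Finset.univ.biUnion fun x : s ↦ Finset.univ.image (t x)) ∪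
    Finset.univ.image cf
  let A₁ : Subalgebra A B := A₀ ⊔ Algebra.adjoin A (W : Set B)
  suffices hA₁ : (A₁ : Set B) = Set.univ by
    constructor
    have : A₁ = ⊤ := SetLike.coe_injective (by simpa using hA₁)
    rw [← this]
    exact Subalgebra.FG.sup hA₀ ⟨W, rfl⟩
  have hW : ∀ w ∈ W, w ∈ A₁ := fun w hw ↦
    (le_sup_right : _ ≤ A₁) (Algebra.subset_adjoin hw)
  algebraize [(Subalgebra.inclusion (le_sup_left : A₀ ≤ A₁)).toRingHom]
  have : IsScalarTower A₀ A₁ B := .of_algebraMap_eq fun _ ↦ rfl
  let ι : A₁ →ₐ[A₀] B := IsScalarTower.toAlgHom A₀ A₁ B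
  -- `A₁ ⊗ B₀` is faithfully flat over `A₁`
  have : Module.FaithfullyFlat A₁ (A₁ ⊗[A₀] B₀) := by
    refine .of_comap_surjective fun p ↦ ?_
    let p₀ := PrimeSpectrum.comap (algebraMap A₀ A₁) p
    have hp₀ : p₀ ∈ Set.range (PrimeSpectrum.comap (algebraMap A₀ B₀)) := by
      by_contra hcon
      have hp' : p₀ ∈ PrimeSpectrum.zeroLocus (K : Set A₀) := by rw [← hK]; exact hcon
      refine p.2.ne_top ((Ideal.eq_top_iff_one _).mpr ?_)
      have hg : ∀ l : Fin N, ∃ x ∈ K, algebraMap A₀ B x = g l := fun l ↦ (g l).2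
      choose x hx hgx using hg
      have : (1 : A₁) = ∑ l, (⟨cf l, hW _ (by simp [W])⟩ : A₁) * algebraMap A₀ A₁ (x l) := by
        apply Subtype.ext
        refine Eq.trans hcf.symm ?_
        rw [AddSubmonoidClass.coe_finsetSum]
        refine Finset.sum_congr rfl fun l _ ↦ ?_
        rw [smul_eq_mul, ← hgx]
        rfl
      rw [this]
      exact Submodule.sum_mem _ fun l _ ↦ Ideal.mul_mem_left _ _ (hp' (hx l))
    rw [← Set.mem_range, ← PrimeSpectrum.nontrivial_iff_mem_rangeComap]
    rw [← PrimeSpectrum.nontrivial_iff_mem_rangeComap] at hp₀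
    have e1 := AlgebraTensorModule.cancelBaseChange A₀ A₁ A₁ p.asIdeal.ResidueField B₀
    suffices Nontrivial (p.asIdeal.ResidueField ⊗[A₀] B₀) from e1.toEquiv.nontrivial
    let φ : p₀.asIdeal.ResidueField →ₐ[A₀] p.asIdeal.ResidueField :=
      Ideal.ResidueField.mapₐ p₀.asIdeal p.asIdeal (Algebra.ofId A₀ A₁) rfl
    algebraize [φ.toRingHom]
    have : IsScalarTower A₀ p₀.asIdeal.ResidueField p.asIdeal.ResidueField :=
      .of_algebraMap_eq fun x ↦ (φ.commutes x).symm
    exact (AlgebraTensorModule.cancelBaseChange A₀ p₀.asIdeal.ResidueField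
      p₀.asIdeal.ResidueField p.asIdeal.ResidueField B₀).symm.toEquiv.nontrivial
  -- `A₁ ⊗ B₀ → B ⊗ B₀` is surjective
  let F : A₁ ⊗[A₀] B₀ →ₐ[A₀] B ⊗[A₀] B₀ := Algebra.TensorProduct.map ι (AlgHom.id _ _)
  have hF : Function.Surjective F := by
    suffices H : ∀ c : C, e c ∈ F.range by
      intro y
      obtain ⟨c, rfl⟩ := e.surjective y
      exact H c
    intro c
    have hc : c ∈ Algebra.adjoin A (s : Set C) := by rw [hs]; trivial
    induction hc using Algebra.adjoin_induction with
    | mem x hx =>
      rw [h ⟨x, hx⟩]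
      refine Subalgebra.sum_mem _ fun j _ ↦ ?_
      exact ⟨(⟨t ⟨x, hx⟩ j, hW _ (Finset.mem_union_left _ (Finset.mem_biUnion.mpr
        ⟨⟨x, hx⟩, Finset.mem_univ _, Finset.mem_image_of_mem _ (Finset.mem_univ j)⟩))⟩ : A₁) ⊗ₜ
        m ⟨x, hx⟩ j, rfl⟩
    | algebraMap r =>
      rw [IsScalarTower.algebraMap_apply A B C, e.commutes]
      exact ⟨(algebraMap A A₁ r) ⊗ₜ 1, rfl⟩
    | add x y _ _ hx hy => rw [map_add]; exact add_mem hx hy
    | mul x y _ _ hx hy => rw [map_mul]; exact mul_mem hx hy
  have hsurj := surjective_of_tensor_map_surjective A₀ A₁ B B₀ hF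
  exact Set.eq_univ_of_forall fun b ↦ by obtain ⟨⟨a, ha⟩, rfl⟩ := hsurj b; exact ha


theorem finitePresentation_of_comp [Module.FaithfullyFlat B C] [Algebra.IsStandardSmooth B C]
    [Algebra.FinitePresentation A C] : Algebra.FinitePresentation A B :=
  have : Algebra.FiniteType A B := finiteType_of_comp A B C
  finitePresentation_of_comp_of_finiteType A B C

end Groth.Agent.H14.Chart.SmRing
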