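import Mathlib.Topology.Spectral.ConstructibleTopology
import Mathlib.Topology.Spectral.Basic
import Mathlib.Order.Zorn

/-!
Quotients of spectral spaces by spectral relations with open quotient map are spectral.
-/

set_option autoImplicit false

open Topology TopologicalSpace Function

namespace Groth.Agent.H14.Chart.SpecQuot

variable {U : Type*} [TopologicalSpace U]

theorem compactSpace_constructible (U : Type*) [TopologicalSpace U] [SpectralSpace U] :
    @CompactSpace U (constructibleTopology U) :=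
  by
  refine @CompactSpace.mk U (constructibleTopology U) ?_
  have h := @IsCompact.image (WithConstructibleTopology U) U inferInstance (constructibleTopology U) _ _
    isCompact_univ (WithTopology.continuous_ofTopology (constructibleTopology U))
  rwa [Set.image_univ_of_surjective fun x ↦ ⟨WithTopology.toTopology _ x, rfl⟩] at h

theorem cl_compactOpen {W : Set U} (ho : IsOpen W) (hc : IsCompact W) :
    IsClosed[constructibleTopology U] W := by
  rw [← @isOpen_compl_iff U W (constructibleTopology U)]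
  exact IsCompact.isOpen_constructibleTopology_of_isClosed (by rwa [compl_compl]) ho.isClosed_compl

theorem cl_of_isClosed [PrespectralSpace U] {F : Set U} (hF : IsClosed F) :
    IsClosed[constructibleTopology U] F := by
  rw [← @isOpen_compl_iff U F (constructibleTopology U)]
  obtain ⟨S, hS, hU⟩ := PrespectralSpace.isTopologicalBasis.open_eq_sUnion hF.isOpen_compl
  rw [hU]
  exact @isOpen_sUnion U (constructibleTopology U) _ fun W hW ↦
    (hS hW).2.isOpen_constructibleTopology_of_isOpen (hS hW).1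

theorem continuous_constructible {R : Type*} [TopologicalSpace R] {f : R → U} (hf : IsSpectralMap f) :
    Continuous[constructibleTopology R, constructibleTopology U] f := by
  refine continuous_generateFrom_iff.2 fun W hW ↦ ?_
  rcases hW with ⟨ho, hc⟩ | ⟨hcl, hc⟩
  · exact (hf.isCompact_preimage_of_isOpen ho hc).isOpen_constructibleTopology_of_isOpen
      (ho.preimage hf.toContinuous)
  · exact IsCompact.isOpen_constructibleTopology_of_isClosed
      (s := f ⁻¹' W) (hf.isCompact_preimage_of_isOpen hcl.isOpen_compl hc)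
      (hcl.preimage hf.toContinuous)

/-- A compact set for the constructible topology is closed under limits of specialisations. -/
theorem exists_specializes [PrespectralSpace U] {E : Set U}
    (hE : @IsCompact U (constructibleTopology U) E) {u : U}
    (hu : u ∈ closure E) : ∃ v ∈ E, v ⤳ u := by
  classical
  let ι := {W : Set U // IsOpen W ∧ IsCompact W ∧ u ∈ W}
  obtain ⟨v, hv, hv'⟩ := @IsCompact.inter_iInter_nonempty U (constructibleTopology U) E ι hE
    (fun W ↦ W.1) (fun W ↦ cl_compactOpen W.2.1 W.2.2.1) fun s ↦ by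
      obtain ⟨v, hv, hvE⟩ := mem_closure_iff.1 hu (⋂ W ∈ s, W.1)
        (isOpen_biInter_finset fun W _ ↦ W.2.1) (Set.mem_iInter₂.2 fun W _ ↦ W.2.2.2)
      exact ⟨v, hvE, hv⟩
  refine ⟨v, hv, specializes_iff_forall_open.2 fun O hO huO ↦ ?_⟩
  obtain ⟨W, ⟨hWo, hWc⟩, huW, hWO⟩ :=
    PrespectralSpace.isTopologicalBasis.exists_subset_of_mem_open huO hO
  exact hWO (Set.mem_iInter.1 hv' ⟨W, hWo, hWc, huW⟩)

/-- A nonempty compact set for the constructible topology has a point without proper generalisations. -/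
theorem exists_minimal [SpectralSpace U] {E : Set U} (hE : @IsCompact U (constructibleTopology U) E)
    (hne : E.Nonempty) : ∃ u ∈ E, ∀ v ∈ E, v ⤳ u → v = u := by
  classical
  let G : U → Set U := fun u ↦ {v | v ⤳ u}
  have hG : ∀ u, IsClosed[constructibleTopology U] (G u) := fun u ↦ by
    have : G u = ⋂ W : {W : Set U // IsOpen W ∧ IsCompact W ∧ u ∈ W}, W.1 := by
      ext v
      refine ⟨fun h ↦ Set.mem_iInter.2 fun W ↦ h.mem_open W.2.1 W.2.2.2,
        fun h ↦ specializes_iff_forall_open.2 fun O hO huO ↦ ?_⟩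
      obtain ⟨W, ⟨hWo, hWc⟩, huW, hWO⟩ :=
        PrespectralSpace.isTopologicalBasis.exists_subset_of_mem_open huO hO
      exact hWO (Set.mem_iInter.1 h ⟨W, hWo, hWc, huW⟩)
    rw [this]
    exact @isClosed_iInter U _ (constructibleTopology U) _ fun W ↦ cl_compactOpen W.2.1 W.2.2.1
  obtain ⟨u, ⟨hu, hmin⟩⟩ : ∃ u, u ∈ E ∧ ∀ v ∈ E, G v ⊆ G u → G u ⊆ G v := by
    obtain ⟨M, hM, hmin⟩ := zorn_superset ((G '' E)) fun c hc hchain ↦ by
      rcases c.eq_empty_or_nonempty with rfl | hcne
      · obtain ⟨e, he⟩ := hne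
        exact ⟨G e, ⟨e, he, rfl⟩, by simp⟩
      · obtain ⟨v, hvE, hv⟩ := @IsCompact.inter_iInter_nonempty U (constructibleTopology U) E c hE
          (fun A ↦ A.1) (fun A ↦ by obtain ⟨e, -, he⟩ := hc A.2; rw [← he]; exact hG e) fun s ↦ by
            rcases s.eq_empty_or_nonempty with rfl | hs
            · simpa using hne
            · obtain ⟨A, hA, hAmin⟩ : ∃ A ∈ c, ∀ B ∈ s, A ⊆ B.1 := by
                clear * - hchain hs
                induction hs using Finset.Nonempty.cons_induction with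
                | singleton a => exact ⟨a.1, a.2, by simp⟩
                | cons a s ha hs ih =>
                  obtain ⟨A, hA, h⟩ := ih
                  rcases hchain.total hA a.2 with h' | h'
                  · exact ⟨A, hA, by simpa [h'] using h⟩
                  · exact ⟨a.1, a.2, fun B hB ↦ by
                      rcases Finset.mem_cons.1 hB with rfl | hB
                      · exact subset_rfl
                      · exact h'.trans (h B hB)⟩
              obtain ⟨e, he, rfl⟩ := hc hA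
              exact ⟨e, he, Set.mem_iInter₂.2 fun B hB ↦ hAmin B hB (specializes_rfl : e ⤳ e)⟩
        refine ⟨G v, ⟨v, hvE, rfl⟩, fun A hA w hw ↦ ?_⟩
        obtain ⟨e, -, rfl⟩ := hc hA
        exact Specializes.trans hw (Set.mem_iInter.1 hv ⟨_, hA⟩)
    obtain ⟨u, hu, rfl⟩ := hM
    exact ⟨u, hu, fun v hv h ↦ hmin ⟨v, hv, rfl⟩ h⟩
  refine ⟨u, hu, fun v hv h ↦ ?_⟩
  have : u ⤳ v := hmin v hv (fun w hw ↦ Specializes.trans hw h) (specializes_rfl : u ⤳ u)
  exact (h.antisymm this).eq

variable {X R : Type*} [TopologicalSpace X] [TopologicalSpace R]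

theorem spectralSpace_of_rel [SpectralSpace U] [SpectralSpace R] {π : U → X} (hc : Continuous π)
    (ho : IsOpenMap π) (hsur : Surjective π) {s t : R → U} (hs : IsSpectralMap s)
    (ht : IsSpectralMap t) (h : ∀ u v, π u = π v ↔ ∃ r, s r = u ∧ t r = v) : SpectralSpace X := by
  have hsat : ∀ W : Set U, π ⁻¹' (π '' W) = t '' (s ⁻¹' W) := fun W ↦ by
    ext v
    constructor
    · rintro ⟨u, hu, huv⟩
      obtain ⟨r, rfl, rfl⟩ := (h u v).1 huv
      exact ⟨r, hu, rfl⟩
    · rintro ⟨r, hr, rfl⟩
      exact ⟨s r, hr, (h _ _).2 ⟨r, rfl, rfl⟩⟩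
  have hbasis : IsTopologicalBasis ((fun W ↦ π '' W) '' {W : Set U | IsOpen W ∧ IsCompact W}) :=
    isTopologicalBasis_of_isOpen_of_nhds (by rintro _ ⟨W, hW, rfl⟩; exact ho _ hW.1) fun x O hx hO ↦ by
      obtain ⟨u, rfl⟩ := hsur x
      obtain ⟨W, hW, huW, hWO⟩ := PrespectralSpace.isTopologicalBasis.exists_subset_of_mem_open
        (show u ∈ π ⁻¹' O from hx) (hO.preimage hc)
      exact ⟨_, ⟨W, hW, rfl⟩, ⟨u, huW, rfl⟩, Set.image_subset_iff.2 hWO⟩
  have hπ : IsSpectralMap π := ⟨hc, fun V hVo hVc ↦ by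
    obtain ⟨T, hT, hTfin, hVT⟩ : ∃ T, T ⊆ {W : Set U | IsOpen W ∧ IsCompact W ∧ π '' W ⊆ V} ∧
        T.Finite ∧ V ⊆ ⋃ W ∈ T, π '' W := by
      refine hVc.elim_finite_subcover_image (fun W hW ↦ ho _ hW.1) fun x hx ↦ ?_
      obtain ⟨_, ⟨W, hW, rfl⟩, hxW, hWV⟩ := hbasis.exists_subset_of_mem_open hx hVo
      exact Set.mem_iUnion₂.2 ⟨W, ⟨hW.1, hW.2, hWV⟩, hxW⟩
    have : π ⁻¹' V = ⋃ W ∈ T, t '' (s ⁻¹' W) := by
      simp_rw [← hsat, ← Set.preimage_iUnion₂]
      exact congrArg _ (hVT.antisymm (Set.iUnion₂_subset fun W hW ↦ (hT hW).2.2))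
    rw [this]
    exact hTfin.isCompact_biUnion fun W hW ↦
      (hs.isCompact_preimage_of_isOpen (hT hW).1 (hT hW).2.1).image ht.toContinuous⟩
  have : PrespectralSpace X := .of_isTopologicalBasis hbasis (by
    rintro _ ⟨W, hW, rfl⟩; exact hW.2.image hc)
  have : CompactSpace X := ⟨by rw [← hsur.range_eq]; exact isCompact_range hc⟩
  have : QuasiSeparatedSpace X := ⟨fun A B hA hA' hB hB' ↦ by
    rw [← Set.image_preimage_eq (A ∩ B) hsur, Set.preimage_inter]
    exact (QuasiSeparatedSpace.inter_isCompact _ _ (hA.preimage hc)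
      (hπ.isCompact_preimage_of_isOpen hA hA') (hB.preimage hc)
      (hπ.isCompact_preimage_of_isOpen hB hB')).image hc⟩
  have hcpt := compactSpace_constructible R
  have hcptU := compactSpace_constructible U
  -- classes
  have hE : ∀ u, @IsCompact U (constructibleTopology U) {v | π u = π v} := fun u ↦ by
    have h1 : IsClosed[constructibleTopology U] ({u} : Set U) := by
      have : ({u} : Set U) = closure {u} ∩
          ⋂ W : {W : Set U // IsOpen W ∧ IsCompact W ∧ u ∈ W}, W.1 := by
        ext v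
        refine ⟨fun e ↦ ⟨subset_closure e, Set.mem_iInter.2 fun W ↦ (Set.mem_singleton_iff.1 e) ▸ W.2.2.2⟩,
          fun ⟨hv, hv'⟩ ↦ ?_⟩
        have e1 : u ⤳ v := specializes_iff_mem_closure.2 hv
        have e2 : v ⤳ u := specializes_iff_forall_open.2 fun O hO huO ↦ by
          obtain ⟨W, ⟨hWo, hWc⟩, huW, hWO⟩ :=
            PrespectralSpace.isTopologicalBasis.exists_subset_of_mem_open huO hO
          exact hWO (Set.mem_iInter.1 hv' ⟨W, hWo, hWc, huW⟩)
        exact (e2.antisymm e1).eq
      rw [this]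
      exact @IsClosed.inter U _ _ (constructibleTopology U) (cl_of_isClosed isClosed_closure)
        (@isClosed_iInter U _ (constructibleTopology U) _ fun W ↦ cl_compactOpen W.2.1 W.2.2.1)
    have : {v | π u = π v} = t '' (s ⁻¹' {u}) := by
      rw [← hsat]; ext v; simp [eq_comm]
    rw [this]
    exact @IsCompact.image R U (constructibleTopology R) (constructibleTopology U) _ t
      (@IsClosed.isCompact R (constructibleTopology R) _ hcpt
        (@IsClosed.preimage R U (constructibleTopology R) (constructibleTopology U) _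
          (continuous_constructible hs) _ h1))
      (continuous_constructible ht)
  have key : ∀ x y, x ⤳ y → ∀ u, π u = y → ∃ v, π v = x ∧ v ⤳ u := fun x y hxy u hu ↦ by
    obtain ⟨a, rfl⟩ := hsur x
    have : u ∈ closure {v | π a = π v} := by
      have : π ⁻¹' closure {π a} ⊆ closure (π ⁻¹' {π a}) := ho.preimage_closure_subset_closure_preimage
      have h' := this (show π u ∈ closure {π a} by rw [hu]; exact hxy.mem_closure)
      have e : π ⁻¹' {π a} = {v | π a = π v} := by ext; simp [eq_comm]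
      rwa [e] at h'
    obtain ⟨v, hv, hvu⟩ := exists_specializes (hE a) this
    exact ⟨v, hv.symm, hvu⟩
  have : T0Space X := by
    refine ⟨fun x y hxy ↦ ?_⟩
    obtain ⟨a, rfl⟩ := hsur x
    obtain ⟨u, hu, hmin⟩ := exists_minimal (hE a) ⟨a, rfl⟩
    obtain ⟨v, hv, hvu⟩ := key y (π a) hxy.symm.specializes u hu.symm
    obtain ⟨u', hu', hu'v⟩ := key (π a) y hxy.specializes v hv
    have := hmin u' hu'.symm (hu'v.trans hvu)
    subst this
    rw [← hu', (hu'v.antisymm hvu).eq, hv]
  have : QuasiSober X := ⟨fun {Z} hZ hZc ↦ by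
    classical
    let ι := {V : Set X // IsOpen V ∧ IsCompact V ∧ (Z ∩ V).Nonempty}
    have hF : @IsCompact U (constructibleTopology U) (π ⁻¹' Z) :=
      @IsClosed.isCompact U (constructibleTopology U) _ hcptU (cl_of_isClosed (hZc.preimage hc))
    obtain ⟨u, hu, hu'⟩ := @IsCompact.inter_iInter_nonempty U (constructibleTopology U) _ ι hF
      (fun V ↦ π ⁻¹' V.1) (fun V ↦ cl_compactOpen (V.2.1.preimage hc)
        (hπ.isCompact_preimage_of_isOpen V.2.1 V.2.2.1)) fun F ↦ by
          obtain ⟨z, hz, hz'⟩ := isIrreducible_iff_sInter.1 hZ (F.image fun V : ι ↦ V.1)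
            (by intro V hV; obtain ⟨W, -, rfl⟩ := Finset.mem_image.1 hV; exact W.2.1)
            (by intro V hV; obtain ⟨W, -, rfl⟩ := Finset.mem_image.1 hV; exact W.2.2.2)
          obtain ⟨w, rfl⟩ := hsur z
          exact ⟨w, hz, Set.mem_iInter₂.2 fun V hV ↦ hz' V.1 (by
            rw [Finset.coe_image]; exact ⟨V, hV, rfl⟩)⟩
    refine ⟨π u, (closure_minimal (Set.singleton_subset_iff.2 (show π u ∈ Z from hu)) hZc).antisymm fun z hz ↦ ?_⟩
    refine mem_closure_iff.2 fun O hO hzO ↦ ?_
    obtain ⟨V, ⟨hVo, hVc⟩, hzV, hVO⟩ :=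
      PrespectralSpace.isTopologicalBasis.exists_subset_of_mem_open hzO hO
    exact ⟨π u, hVO (Set.mem_iInter.1 hu' ⟨V, hVo, hVc, z, hz, hzV⟩), rfl⟩⟩
  exact ⟨⟩

end Groth.Agent.H14.Chart.SpecQuot
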