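import Groth.Agent.H14.Chart.QC2
import Groth.Agent.H14.Chart.SpecQuot
import Groth.Agent.H14.Sep.Main4
import Mathlib.AlgebraicGeometry.Noetherian

/-!
Topology of the space of points of an algebraic stack.
-/

set_option autoImplicit false
set_option backward.isDefEq.respectTransparency false
set_option backward.isDefEq.respectTransparency.types false

universe u

open CategoryTheory CategoryTheory.Limits AlgebraicGeometry Topology TopologicalSpace

namespace Groth.Agent.H14.Chart.Top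

open Groth.Agent.Lib.AlgStack
open Groth.Agent.H14.Sep
open Groth.Agent.H14.Sep.Lft (vOf)
open FibCat (IsEquivOver fp fpFst fpSnd fpLift fpIso overCat IsFibGrpd toSelf diag selfOver)
open AlgSt (ofSp ofSpMap ofOverCat toOverCat spMapOfOver overMap RepByAlgSp1 RepByAlgSpWith IsAlgStack)
open AlgSp (Sp yon IsAlgSpace LocP RepWith)

variable {S : Scheme.{u}} {𝒳 𝒴 : AlgSt.Cat S}

/-- A chart that is flat and locally of finite presentation is open. -/
theorem isOpenMap_of_flat_lfp (h : IsFibGrpd 𝒳.p) {U : Over S} {x : overCat U ⥤ᵇ 𝒳}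
    (h₁ : RepByAlgSpWith (LocP @Flat) x)
    (h₂ : RepByAlgSpWith (LocP @LocallyOfFinitePresentation) x) :
    IsOpenMap (AlgSt.Points.ofChart x) := by
  intro O hO V y hy
  have hx : RepByAlgSpWith (LocP (@Flat ⊓ @LocallyOfFinitePresentation)) x :=
    Rep.repByAlgSpWith_mono (Main4.repByAlgSpWith_inf
      (SpProps.stableBC_locP Lib.SourceDescent.Scheme.locallyOfFinitePresentation) h₁ h₂)
      fun _ _ _ _ _ hh _ _ p q r hp hq e => ⟨hh.1 p q r hp hq e, hh.2 p q r hp hq e⟩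
  obtain ⟨T, s, v, hs, ⟨β⟩, hT⟩ := Points.exists_chart_square x y h hx
  have : Flat s.left := hs.1
  have : LocallyOfFinitePresentation s.left := hs.2
  have : UniversallyOpen s.left := inferInstance
  have heq : AlgSt.Points.ofChart y ⁻¹' (AlgSt.Points.ofChart x '' O) = s.left '' (v.left ⁻¹' O) := by
    ext a
    constructor
    · rintro ⟨b, hb, hab⟩
      obtain ⟨t, rfl, rfl⟩ := hT a b hab.symm
      exact ⟨t, hb, rfl⟩
    · rintro ⟨t, ht, rfl⟩
      exact ⟨_, ht, (Points.ofChart_eq_of_iso s v β t).symm⟩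
  rw [heq]
  exact s.left.isOpenMap _ (hO.preimage v.left.continuous)

theorem spectralSpace_of_isAffine (X : Scheme.{u}) [IsAffine X] : SpectralSpace ↥X :=
  haveI : SpectralSpace ↥(Spec Γ(X, ⊤)) := inferInstanceAs (SpectralSpace (PrimeSpectrum Γ(X, ⊤)))
  (Scheme.homeoOfIso X.isoSpec).isOpenEmbedding.spectralSpace

theorem isSpectralMap_of_qc {X Y : Scheme.{u}} (f : X ⟶ Y) [QuasiCompact f] : IsSpectralMap f :=
  ⟨f.continuous, fun U hU hU' => QuasiCompact.isCompact_preimage (f := f) U hU hU'⟩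

/-- With quasi-compact diagonal over a quasi-separated base, a map from a quasi-compact stack is
quasi-compact. -/
theorem isQuasiCompactMor_of_diag [QuasiSeparatedSpace S]
    (h𝒳 : IsAlgStack Scheme.fppfPrecoverage 𝒳) (h𝒴 : IsAlgStack Scheme.fppfPrecoverage 𝒴)
    (f : 𝒳 ⥤ᵇ 𝒴) (hc : AlgSt.IsQuasiCompact 𝒳)
    (hΔ : RepByAlgSpWith AlgSp.IsQuasiCompactMor (diag (toSelf 𝒴))) :
    AlgSt.IsQuasiCompactMor Scheme.fppfPrecoverage f := by
  have hP := Basic.isAlgStack_fp QC2.isAlgStack_selfOver h𝒳 h𝒴 (toSelf 𝒳) (toSelf 𝒴)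
  let γ : 𝒳 ⥤ᵇ fp (toSelf 𝒳) (toSelf 𝒴) := fpLift (BasedFunctor.id 𝒳) f
    (eqToIso (QC2.eq_toSelf (BasedFunctor.comp f (toSelf 𝒴))).symm :
      BasedFunctor.comp (BasedFunctor.id 𝒳) (toSelf 𝒳) ≅ BasedFunctor.comp f (toSelf 𝒴))
  have hγ : RepByAlgSpWith AlgSp.IsQuasiCompactMor γ := Rep.graph_of_diag f _ hΔ
  exact QC.isQuasiCompactMor_comp h𝒳 hP h𝒴
    ((QC.repByAlgSpWith_qc_iff h𝒳 hP (Rep.repByAlgSp1_of_repByAlgSpWith hγ)).1 hγ)
    (QC2.isQuasiCompactMor_fpSnd h𝒳 QC2.isAlgStack_selfOver h𝒴 _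
      (QC2.isQuasiCompactMor_toSelf h𝒳 hc))

/-- The relation of an affine chart comes from an affine scheme. -/
theorem exists_affine_rel [QuasiSeparatedSpace S] (h𝒳 : IsAlgStack Scheme.fppfPrecoverage 𝒳)
    (hΔ : RepByAlgSpWith AlgSp.IsQuasiCompactMor (diag (toSelf 𝒳))) {U : Over S} [IsAffine U.left]
    {x : overCat U ⥤ᵇ 𝒳} (hx : RepByAlgSp1 x) :
    ∃ (T : Over S) (_ : IsAffine T.left) (s v : T ⟶ U), ∀ a b : ↥U.left,
      AlgSt.Points.ofChart x a = AlgSt.Points.ofChart x b ↔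
        ∃ t : ↥T.left, s.left t = a ∧ v.left t = b := by
  have h := h𝒳.isStack.1
  obtain ⟨G, e, he⟩ := hx U x
  have hqc := (QC.isQuasiCompactMor_iff (Basic.isAlgStack_overCat U) h𝒳).1
    (isQuasiCompactMor_of_diag (Basic.isAlgStack_overCat U) h𝒳 x (QC.isQuasiCompact_overCat U) hΔ)
    U inferInstance x
  have := Basic.compactSpace_of_isEquivOver (IsAlg.isAlgStack_ofSp G) he
  have := (QC.compactSpace_ofSp_iff G).1 this
  obtain ⟨T, p, hTa, -, hps⟩ := Lib.AlgSpMor.QC.exists_affine_atlas G.property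
  let γ : G.obj ⟶ (yon S).obj U := spMapOfOver (BasedFunctor.comp e (fpFst x x))
  let δ : G.obj ⟶ (yon S).obj U := spMapOfOver (BasedFunctor.comp e (fpSnd x x))
  obtain ⟨s, hs⟩ := (yon S).map_surjective (p ≫ γ)
  obtain ⟨v, hv⟩ := (yon S).map_surjective (p ≫ δ)
  let η : overCat T ⥤ᵇ fp x x :=
    BasedFunctor.comp (ofOverCat T) (BasedFunctor.comp (ofSpMap p) e)
  let ι₁ : BasedFunctor.comp η (fpFst x x) ≅ vOf s :=
    BasedBasic.isoWhiskerLeft (ofOverCat T)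
      (Rep.isoSpMapOfOver (BasedFunctor.comp (ofSpMap p) (BasedFunctor.comp e (fpFst x x))) ≪≫
        eqToIso (by rw [Rep.spMapOfOver_precomp, hs]))
  let ι₂ : BasedFunctor.comp η (fpSnd x x) ≅ vOf v :=
    BasedBasic.isoWhiskerLeft (ofOverCat T)
      (Rep.isoSpMapOfOver (BasedFunctor.comp (ofSpMap p) (BasedFunctor.comp e (fpSnd x x))) ≪≫
        eqToIso (by rw [Rep.spMapOfOver_precomp, hv]))
  let β : BasedFunctor.comp (overMap s) x ≅ BasedFunctor.comp (overMap v) x :=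
    (BasedBasic.isoWhiskerRight ι₁ x).symm ≪≫ BasedBasic.isoWhiskerLeft η (fpIso x x) ≪≫
      BasedBasic.isoWhiskerRight ι₂ x
  refine ⟨T, hTa, s, v, fun a b => ⟨fun hab => ?_, ?_⟩⟩
  · obtain ⟨W, a', b', w, rfl, rfl, ⟨β'⟩⟩ := Points.exists_of_ofChart_eq h hab
    obtain ⟨g, hg₁, ⟨ι⟩⟩ := Points.exists_hom_of_iso he a' (BasedFunctor.comp (overMap b') (BasedFunctor.id _))
      (β' : BasedFunctor.comp (overMap a') x ≅
        BasedFunctor.comp (BasedFunctor.comp (overMap b') (BasedFunctor.id _)) x)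
    have hg₂ : g ≫ δ = (yon S).map b' := by
      rw [← Rep.spMapOfOver_precomp, ← Points.spMap_toOverCat_overMap]
      exact Rep.spMapOfOver_eq_of_iso ι
    obtain ⟨t, ht⟩ := Lib.AlgSpace.surjective_ofPt hps (AlgSp.Points.ofPt g w)
    obtain ⟨W', c, d, w', rfl, rfl, hcd⟩ := (Lib.AlgSpace.ofPt_eq_ofPt_iff p g t w).1 ht
    have key : ∀ {X : Over S} (ε : G.obj ⟶ (yon S).obj X) (k : T ⟶ X) (l : W ⟶ X),
        p ≫ ε = (yon S).map k → g ≫ ε = (yon S).map l → k.left (c.left w') = l.left (d.left w') := by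
      intro X ε k l hk hl
      have : c ≫ k = d ≫ l := (yon S).map_injective (by
        rw [Functor.map_comp, Functor.map_comp, ← hk, ← hl, reassoc_of% hcd])
      rw [← Scheme.Hom.comp_apply, ← Scheme.Hom.comp_apply, ← Over.comp_left, ← Over.comp_left, this]
    exact ⟨_, key γ s a' hs.symm hg₁, key δ v b' hv.symm hg₂⟩
  · rintro ⟨t, rfl, rfl⟩
    exact Points.ofChart_eq_of_iso s v β t

/-- The image of an affine smooth chart is spectral. -/
theorem spectralSpace_range [QuasiSeparatedSpace S] (h𝒳 : IsAlgStack Scheme.fppfPrecoverage 𝒳)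
    (hΔ : RepByAlgSpWith AlgSp.IsQuasiCompactMor (diag (toSelf 𝒳))) {U : Over S} [IsAffine U.left]
    {x : overCat U ⥤ᵇ 𝒳} (hx : RepByAlgSpWith (LocP @Smooth) x) :
    SpectralSpace ↥(Set.range (AlgSt.Points.ofChart x)) := by
  obtain ⟨T, hT, s, v, h⟩ := exists_affine_rel h𝒳 hΔ (Rep.repByAlgSp1_of_repByAlgSpWith hx)
  have := spectralSpace_of_isAffine U.left
  have := spectralSpace_of_isAffine T.left
  have : QuasiCompact s.left := inferInstance
  have : QuasiCompact v.left := inferInstance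
  exact SpecQuot.spectralSpace_of_rel (π := Set.rangeFactorization (AlgSt.Points.ofChart x))
    ((Points.continuous_ofChart h𝒳 x).subtype_mk _)
    (fun O hO => ⟨_, Points.isOpenMap_ofChart h𝒳.isStack.1 hx O hO, by
      ext p
      constructor
      · rintro ⟨a, ha, e⟩
        exact ⟨a, ha, Subtype.ext e⟩
      · rintro ⟨a, ha, rfl⟩
        exact ⟨a, ha, rfl⟩⟩)
    Set.rangeFactorization_surjective (isSpectralMap_of_qc s.left) (isSpectralMap_of_qc v.left)
    fun a b => Iff.trans ⟨fun e => congrArg Subtype.val e, fun e => Subtype.ext e⟩ (h a b)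

theorem spectralSpace_points [QuasiSeparatedSpace S] (h𝒳 : IsAlgStack Scheme.fppfPrecoverage 𝒳)
    (hqc : AlgSt.IsQuasiCompact 𝒳) (hΔ : RepByAlgSpWith AlgSp.IsQuasiCompactMor (diag (toSelf 𝒳))) :
    SpectralSpace (AlgSt.Points 𝒳) := by
  have := (QC.isQuasiCompact_iff h𝒳).1 hqc
  obtain ⟨U, x, hU, hx, hs⟩ := hqc
  have := spectralSpace_range h𝒳 hΔ hx
  rw [(Points.surjective_ofChart h𝒳.isStack.1 hs).range_eq] at this
  exact (Homeomorph.Set.univ _).symm.isOpenEmbedding.spectralSpace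

/-- A point of an open set lies in the image of an affine smooth chart inside it. -/
theorem exists_affine_chart (h𝒳 : IsAlgStack Scheme.fppfPrecoverage 𝒳) (p : AlgSt.Points 𝒳)
    {W : Set (AlgSt.Points 𝒳)} (hW : IsOpen W) (hp : p ∈ W) :
    ∃ (U : Over S) (x : overCat U ⥤ᵇ 𝒳), IsAffine U.left ∧ RepByAlgSpWith (LocP @Smooth) x ∧
      p ∈ Set.range (AlgSt.Points.ofChart x) ∧ Set.range (AlgSt.Points.ofChart x) ⊆ W ∧
      ∀ (P : Scheme.{u} → Prop), AlgSt.SmoothLocally P 𝒳 → P U.left := by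
  obtain ⟨A, a, ha, has⟩ := h𝒳.atlas
  obtain ⟨t, rfl⟩ := Points.surjective_ofChart h𝒳.isStack.1 has p
  obtain ⟨O, hO, ht, hOW⟩ := exists_isAffineOpen_mem_and_subset
    (U := ⟨AlgSt.Points.ofChart a ⁻¹' W, hW.preimage (Points.continuous_ofChart h𝒳 a)⟩)
    (show t ∈ AlgSt.Points.ofChart a ⁻¹' W from hp)
  let U : Over S := Over.mk (O.ι ≫ A.hom)
  let j : U ⟶ A := Over.homMk O.ι rfl
  have hU : IsAffine U.left := hO
  have hj : Smooth j.left := inferInstanceAs (Smooth O.ι)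
  have hx : RepByAlgSpWith (LocP @Smooth) (BasedFunctor.comp (overMap j) a) :=
    IsAlgFp.comp_locP QC.smoothST (Yoneda.isFibGrpd_overCat _) (Yoneda.isFibGrpd_overCat _)
      (Basic.rep_overMap_locP j QC.smoothST hj) ha
  exact ⟨U, _, hU, hx, ⟨⟨t, ht⟩, (Points.ofChart_overMap j a _)⟩,
    by rintro _ ⟨q, rfl⟩; rw [Points.ofChart_overMap j a q]; exact hOW q.2, fun P hP => hP U _ hx⟩

theorem exists_compact_nhd (h𝒳 : IsAlgStack Scheme.fppfPrecoverage 𝒳) (p : AlgSt.Points 𝒳)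
    {W : Set (AlgSt.Points 𝒳)} (hW : IsOpen W) (hp : p ∈ W) :
    ∃ V : Set (AlgSt.Points 𝒳), IsOpen V ∧ IsCompact V ∧ p ∈ V ∧ V ⊆ W := by
  obtain ⟨U, x, hU, hx, hp, hW, -⟩ := exists_affine_chart h𝒳 p hW hp
  exact ⟨_, (Points.isOpenMap_ofChart h𝒳.isStack.1 hx).isOpen_range,
    isCompact_range (Points.continuous_ofChart h𝒳 x), hp, hW⟩

theorem spectral_cover [QuasiSeparatedSpace S] (h𝒳 : IsAlgStack Scheme.fppfPrecoverage 𝒳)
    (hΔ : RepByAlgSpWith AlgSp.IsQuasiCompactMor (diag (toSelf 𝒳))) :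
    (∀ p : AlgSt.Points 𝒳, ∃ U : Set (AlgSt.Points 𝒳), IsOpen U ∧ p ∈ U ∧ SpectralSpace ↥U) ∧
      QuasiSober (AlgSt.Points 𝒳) ∧ T0Space (AlgSt.Points 𝒳) := by
  have h : ∀ p : AlgSt.Points 𝒳, ∃ U : Set (AlgSt.Points 𝒳), IsOpen U ∧ p ∈ U ∧ SpectralSpace ↥U :=
    fun p => by
      obtain ⟨U, x, hU, hx, hp, -, -⟩ := exists_affine_chart h𝒳 p isOpen_univ (Set.mem_univ p)
      exact ⟨_, (Points.isOpenMap_ofChart h𝒳.isStack.1 hx).isOpen_range, hp, spectralSpace_range h𝒳 hΔ hx⟩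
  refine ⟨h, ?_, T0Space.of_open_cover fun p => ?_⟩
  · choose U hU hp hs using h
    have : ∀ s : Set.range U, QuasiSober ↥(s : Set (AlgSt.Points 𝒳)) := by
      rintro ⟨_, p, rfl⟩; exact (hs p).toQuasiSober
    exact quasiSober_of_open_cover (Set.range U) (by rintro ⟨_, p, rfl⟩; exact hU p)
      (Set.eq_univ_of_forall fun p => ⟨_, ⟨p, rfl⟩, hp p⟩)
  · obtain ⟨U, hU, hp, hs⟩ := h p
    exact ⟨U, hp, hU, hs.toT0Space⟩

/-! ### Locally Noetherian stacks -/

theorem exists_noetherian_chart (h𝒳 : IsAlgStack Scheme.fppfPrecoverage 𝒳)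
    (hN : AlgSt.SmoothLocally (fun T ↦ IsLocallyNoetherian T) 𝒳) (p : AlgSt.Points 𝒳) :
    ∃ (U : Over S) (x : overCat U ⥤ᵇ 𝒳), NoetherianSpace ↥U.left ∧
      IsOpenMap (AlgSt.Points.ofChart x) ∧ p ∈ Set.range (AlgSt.Points.ofChart x) := by
  obtain ⟨U, x, hU, hx, hp, -, hP⟩ := exists_affine_chart h𝒳 p isOpen_univ (Set.mem_univ p)
  have : IsLocallyNoetherian U.left := hP (fun T ↦ IsLocallyNoetherian T) hN
  have : IsNoetherian U.left := {}
  exact ⟨U, x, inferInstance, Points.isOpenMap_ofChart h𝒳.isStack.1 hx, hp⟩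

theorem exists_noetherian_nhd (h𝒳 : IsAlgStack Scheme.fppfPrecoverage 𝒳)
    (hN : AlgSt.SmoothLocally (fun T ↦ IsLocallyNoetherian T) 𝒳) (p : AlgSt.Points 𝒳) :
    ∃ U : Set (AlgSt.Points 𝒳), IsOpen U ∧ p ∈ U ∧ NoetherianSpace U := by
  obtain ⟨U, x, hU, ho, hp⟩ := exists_noetherian_chart h𝒳 hN p
  exact ⟨_, ho.isOpen_range, hp, NoetherianSpace.range _ (Points.continuous_ofChart h𝒳 x)⟩

theorem noetherianSpace_points (h𝒳 : IsAlgStack Scheme.fppfPrecoverage 𝒳)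
    (hc : AlgSt.IsQuasiCompact 𝒳) (hN : AlgSt.SmoothLocally (fun T ↦ IsLocallyNoetherian T) 𝒳) :
    NoetherianSpace (AlgSt.Points 𝒳) := by
  obtain ⟨U, x, hU, hx, hs⟩ := hc
  have : IsLocallyNoetherian U.left := hN U x hx
  have : IsNoetherian U.left := {}
  exact noetherianSpace_of_surjective _ (Points.continuous_ofChart h𝒳 x)
    (Points.surjective_ofChart h𝒳.isStack.1 hs)

theorem quasiSober_points (h𝒳 : IsAlgStack Scheme.fppfPrecoverage 𝒳)
    (hN : AlgSt.SmoothLocally (fun T ↦ IsLocallyNoetherian T) 𝒳) : QuasiSober (AlgSt.Points 𝒳) := by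
  refine ⟨fun {Z} hZ hZc => ?_⟩
  obtain ⟨z, hz⟩ := hZ.nonempty
  obtain ⟨U, x, hU, ho, hp⟩ := exists_noetherian_chart h𝒳 hN z
  let π := AlgSt.Points.ofChart x
  have hπ : Continuous π := Points.continuous_ofChart h𝒳 x
  obtain ⟨C, hCf, hCc, hCi, hC⟩ :=
    NoetherianSpace.exists_finite_set_isClosed_irreducible (hZc.preimage hπ)
  have hg : ∀ c ∈ C, ∃ g ∈ π ⁻¹' Z, c ⊆ closure {g} := fun c hc => by
    have := (hCi c hc).isGenericPoint_genericPoint (hCc c hc)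
    exact ⟨_, hC ▸ ⟨c, hc, this.mem⟩, this.def.ge⟩
  have : Nonempty ↥U.left := ⟨hp.choose⟩
  choose! g hgZ hg using hg
  have hsub : Z ⊆ ⋃₀ ((fun c => closure {π (g c)}) '' C) := by
    refine (subset_closure_inter_of_isPreirreducible_of_isOpen hZ.isPreirreducible ho.isOpen_range
      ⟨z, hz, hp⟩).trans (closure_minimal ?_ ?_)
    · rintro _ ⟨hq, a, rfl⟩
      obtain ⟨c, hc, hac⟩ := hC.le (show a ∈ π ⁻¹' Z from hq)
      refine ⟨_, ⟨c, hc, rfl⟩, ?_⟩
      have := image_closure_subset_closure_image hπ ⟨a, hg c hc hac, rfl⟩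
      rwa [Set.image_singleton] at this
    · rw [Set.sUnion_image]
      exact hCf.isClosed_biUnion fun c _ => isClosed_closure
  obtain ⟨t, ht, hZt⟩ := isIrreducible_iff_sUnion_isClosed.1 hZ
    ((hCf.image fun c => closure {π (g c)}).toFinset) (fun t ht => by
      obtain ⟨c, -, rfl⟩ := (Set.Finite.mem_toFinset _).1 ht
      exact isClosed_closure) (by rwa [Set.Finite.coe_toFinset])
  obtain ⟨c, hc, rfl⟩ := (Set.Finite.mem_toFinset _).1 ht
  exact ⟨π (g c), (closure_minimal (Set.singleton_subset_iff.2 (show π (g c) ∈ Z from hgZ c hc)) hZc).antisymm hZt⟩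

end Groth.Agent.H14.Chart.Top
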