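import Groth.Agent.H14.Chart.Top

/-!
Flat finitely presented maps from algebraic spaces to algebraic stacks on points.
-/

set_option autoImplicit false
set_option backward.isDefEq.respectTransparency false
set_option backward.isDefEq.respectTransparency.types false

universe u

open CategoryTheory CategoryTheory.Limits AlgebraicGeometry Topology

namespace Groth.Agent.H14.Chart.Top2

open Groth.Agent.Lib.AlgStack
open Groth.Agent.H14.Sep
open FibCat (IsEquivOver fp fpFst fpSnd overCat IsFibGrpd toSelf diag)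
open AlgSt (ofSp ofSpMap ofOverCat toOverCat overMap RepByAlgSp1 RepByAlgSpWith IsAlgStack)
open AlgSp (Sp yon IsAlgSpace LocP RepWith)
open Groth.Agent.Lib.SourceDescent.Scheme (EtaleLocalST)

variable {S : Scheme.{u}} {𝒳 : AlgSt.Cat S}

theorem isOpenMap_map (h𝒳 : IsAlgStack Scheme.fppfPrecoverage 𝒳) (U : AlgSp.Space S)
    {u : ofSp U.obj ⥤ᵇ 𝒳} (hu₁ : RepByAlgSpWith (LocP @Flat) u)
    (hu₂ : RepByAlgSpWith (LocP @LocallyOfFinitePresentation) u) :
    IsOpenMap (AlgSt.Points.map u) := by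
  obtain ⟨V, p, he, hs⟩ := U.property.atlas
  have hU := IsAlg.isAlgStack_ofSp U
  let a := BasedFunctor.comp (ofOverCat V) (ofSpMap p)
  have hsur : Function.Surjective (AlgSt.Points.ofChart a) :=
    Points.surjective_ofChart hU.isStack.1
      (IsAlg.repByAlgSpWith_atlas he hs fun _ _ _ _ hq => Lib.AlgSpace.surjective_map hq)
  have ha : ∀ {Q : MorphismProperty Scheme.{u}}, EtaleLocalST Q →
      (∀ ⦃X Y : Scheme.{u}⦄ (f : X ⟶ Y), Etale f → Q f) → RepByAlgSpWith (LocP Q) a :=
    fun hQ h => IsAlg.repByAlgSpWith_atlas he hs fun _ _ _ hq _ =>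
      Lib.AlgSpMor.LocP.locP_of_repWith hQ (Lib.AlgSpace.repWith_mono hq h)
  have h1 : RepByAlgSpWith (LocP @Flat) (BasedFunctor.comp a u) :=
    IsAlgFp.comp_locP Lib.SourceDescent.Scheme.flat (Yoneda.isFibGrpd_overCat _) hU.isStack.1
      (ha Lib.SourceDescent.Scheme.flat fun _ _ f (_ : Etale f) => (inferInstance : Flat f)) hu₁
  have h2 : RepByAlgSpWith (LocP @LocallyOfFinitePresentation) (BasedFunctor.comp a u) :=
    IsAlgFp.comp_locP Lib.SourceDescent.Scheme.locallyOfFinitePresentation (Yoneda.isFibGrpd_overCat _)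
      hU.isStack.1 (ha Lib.SourceDescent.Scheme.locallyOfFinitePresentation
        fun _ _ f (_ : Etale f) => (inferInstance : LocallyOfFinitePresentation f)) hu₂
  intro O hO
  have h3 := Top.isOpenMap_of_flat_lfp h𝒳.isStack.1 h1 h2 _
    (hO.preimage (Points.continuous_ofChart hU a))
  convert h3 using 1
  rw [← Set.image_preimage_eq O hsur, ← Set.image_comp]
  exact congrArg _ (by rw [Set.image_preimage_eq O hsur])

theorem isOpen_iff (h𝒳 : IsAlgStack Scheme.fppfPrecoverage 𝒳) (U : AlgSp.Space S)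
    {p : ofSp U.obj ⥤ᵇ 𝒳} (hp₁ : RepByAlgSpWith (LocP @Flat) p)
    (hp₂ : RepByAlgSpWith (LocP @LocallyOfFinitePresentation) p)
    (hp₃ : RepByAlgSpWith AlgSp.IsSurjectiveMor p) (W : Set (AlgSt.Points 𝒳)) :
    IsOpen W ↔ IsOpen (AlgSt.Points.map p ⁻¹' W) :=
  ⟨fun h => h.preimage (Basic.continuous_map h𝒳 p), fun h => by
    have := isOpenMap_map h𝒳 U hp₁ hp₂ _ h
    rwa [Set.image_preimage_eq W (Points.isSurjective_of_rep h𝒳.isStack.1 hp₃)] at this⟩

end Groth.Agent.H14.Chart.Top2
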