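import Groth.Agent.H14.Chart.Top
import Groth.Agent.H14.Sep.Lft
import Groth.Agent.Lib.AlgStack.DiagCalc
import Mathlib.AlgebraicGeometry.AlgClosed.Basic
import Mathlib.FieldTheory.IsAlgClosed.AlgebraicClosure

/-!
Universally injective morphisms of algebraic stacks and surjectivity of the diagonal.
-/

set_option autoImplicit false
set_option backward.isDefEq.respectTransparency false
set_option backward.isDefEq.respectTransparency.types false

universe u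

open CategoryTheory CategoryTheory.Limits AlgebraicGeometry Topology

namespace Groth.Agent.H14.Chart.UnivInj

open Groth.Agent.Lib.AlgStack
open Groth.Agent.H14.Sep
open FibCat (IsEquivOver fp fpFst fpSnd fpLift fpIso overCat IsFibGrpd toSelf diag)
open AlgSt (ofSp ofSpMap ofOverCat toOverCat overMap RepByAlgSp1 RepByAlgSpWith IsAlgStack IsSurjective IsUnivInjective)
open AlgSp (Sp yon LocP)

variable {S : Scheme.{u}} {𝒳 𝒴 𝒵 : AlgSt.Cat S}

theorem eq_of_overMap_iso {W U : Over S} {a b : W ⟶ U} (e : overMap a ≅ overMap b) : a = b := by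
  apply (yon S).map_injective
  rw [← Points.spMap_toOverCat_overMap, ← Points.spMap_toOverCat_overMap]
  exact Rep.spMapOfOver_eq_of_iso (BasedBasic.isoWhiskerLeft (toOverCat W) e)

theorem overCat_hom_eq_id {U : Over S} {p : (overCat U).obj} (m : p ⟶ p)
    (h : (overCat U).p.IsHomLift (𝟙 ((overCat U).p.obj p)) m) : m = 𝟙 p := by
  apply Over.OverMorphism.ext
  exact ((@IsHomLift.eq_of_isHomLift _ _ _ _ (overCat U).p _ _ (𝟙 _) m h).symm)

/-- A surjective diagonal makes a functor injective on points. -/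
theorem injective_map (h𝒳 : IsFibGrpd 𝒳.p) (h𝒴 : IsFibGrpd 𝒴.p) {f : 𝒳 ⥤ᵇ 𝒴}
    (hΔ : IsSurjective (diag f)) : Function.Injective (AlgSt.Points.map f) := fun p q e => by
  obtain ⟨r, rfl, rfl⟩ := Basic.exists_points_fp h𝒳 h𝒴 h𝒳 (g := f) (f := f) e
  obtain ⟨t, rfl⟩ := hΔ r
  rw [← Basic.map_comp, ← Basic.map_comp]
  rfl

/-- Surjectivity of the diagonal is stable under base change. -/
theorem surjective_diag_fpFst (h𝒳 : IsFibGrpd 𝒳.p) (h𝒴 : IsFibGrpd 𝒴.p) (h𝒵 : IsFibGrpd 𝒵.p)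
    {f : 𝒳 ⥤ᵇ 𝒴} (g : 𝒵 ⥤ᵇ 𝒴) (hΔ : IsSurjective (diag f)) :
    IsSurjective (diag (fpFst g f)) := by
  intro w
  let z : fp (fpFst g f) (fpFst g f) ⥤ᵇ fp (fpFst g f) (fpFst g f) := BasedFunctor.id _
  have hP := FibProd.isFibGrpd_fp (F := g) (G := f) h𝒵 h𝒳 h𝒴
  obtain ⟨r, hr⟩ := Basic.surjective_fpFst h𝒳 (FibProd.isFibGrpd_fp h𝒳 h𝒳 h𝒴)
    (FibProd.isFibGrpd_fp hP hP h𝒵) (BasedFunctor.comp z (DiagCalc.bcProj f g)) hΔ w
  obtain ⟨r', rfl⟩ := Basic.surjective_map_of_isEquivOver (DiagCalc.isEquivOver_bcDiag f g z) r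
  rw [← Basic.map_comp, DiagCalc.bcDiag_fst] at hr
  refine ⟨AlgSt.Points.map (fpSnd z (diag (fpFst g f))) r', ?_⟩
  rw [← Basic.map_comp, ← Basic.map_iso (fpIso z (diag (fpFst g f))), Basic.map_comp, hr, Basic.map_id]

/-- The two sections of the base change attached to a chart of `𝒳 ×_𝒴 𝒳` separate its point from the
diagonal. -/
theorem mem_range_diag (h𝒳 : IsFibGrpd 𝒳.p) (h𝒴 : IsFibGrpd 𝒴.p) {f : 𝒳 ⥤ᵇ 𝒴} {W : Over S}
    (c : overCat W ⥤ᵇ fp f f)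
    (hinj : Function.Injective
      (AlgSt.Points.map (fpFst (BasedFunctor.comp (BasedFunctor.comp c (fpFst f f)) f) f)))
    (u : ↥W.left) : AlgSt.Points.ofChart c u ∈ Set.range (AlgSt.Points.map (diag f)) := by
  let g := BasedFunctor.comp (BasedFunctor.comp c (fpFst f f)) f
  let σ₁ : overCat W ⥤ᵇ fp g f :=
    fpLift (BasedFunctor.id _) (BasedFunctor.comp c (fpFst f f)) (Iso.refl g)
  let σ₂ : overCat W ⥤ᵇ fp g f :=
    fpLift (BasedFunctor.id _) (BasedFunctor.comp c (fpSnd f f))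
      (BasedBasic.isoWhiskerLeft c (fpIso f f))
  have hP := FibProd.isFibGrpd_fp (F := g) (G := f) (Yoneda.isFibGrpd_overCat W) h𝒳 h𝒴
  have e : AlgSt.Points.ofChart σ₁ u = AlgSt.Points.ofChart σ₂ u := hinj (by
    rw [Points.map_ofChart, Points.map_ofChart]; rfl)
  obtain ⟨W', a, b, u', rfl, hb, ⟨β⟩⟩ := Points.exists_of_ofChart_eq hP e
  have hab : a = b := eq_of_overMap_iso (BasedBasic.isoWhiskerRight β (fpFst g f))
  subst hab
  let o : (overCat W').obj := Over.mk (𝟙 W')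
  let c' := BasedFunctor.comp (overMap a) c
  let x := BasedFunctor.comp c' (fpFst f f)
  let m := (BasedBasic.appIso β o).hom
  have hm : (fp g f).p.IsHomLift (𝟙 W') m := BasedBasic.appIso_isHomLift β o
  have h1 : m.hom.fst = 𝟙 _ := overCat_hom_eq_id _ (by
    have := hm
    exact IsHomLift.of_fac' _ _ _ rfl rfl (IsHomLift.fac' (fp g f).p (𝟙 W') m))
  have hw := m.hom.w
  rw [h1] at hw
  have hx : (fp f f).p.obj ((BasedFunctor.comp x (diag f)).obj o) = W' := (BasedFunctor.comp x (diag f)).w_obj o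
  let θ : (BasedFunctor.comp x (diag f)).obj o ⟶ c'.obj o := FibProd.homMk (𝟙 _) m.hom.snd (by
    change f.map (𝟙 _) ≫ (c'.obj o).obj.iso.hom = 𝟙 _ ≫ f.map m.hom.snd
    have : g.map (𝟙 ((overMap a).obj o)) ≫ (c'.obj o).obj.iso.hom = 𝟙 _ ≫ f.map m.hom.snd := hw
    rw [g.map_id] at this
    rw [f.map_id]
    exact this)
  have hθ : (fp f f).p.IsHomLift (𝟙 W') θ :=
    IsHomLift.of_fac' _ _ _ hx (c'.w_obj o) (by
      refine (𝒳.p.map_id _).trans ?_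
      simp only [Category.id_comp, eqToHom_trans]; rfl)
  obtain ⟨ε, -⟩ := Yoneda.exists_iso_of_id (FibProd.isFibGrpd_fp h𝒳 h𝒳 h𝒴) (BasedFunctor.comp x (diag f)) c' θ
  exact ⟨AlgSt.Points.ofChart x u', by
    rw [Points.map_ofChart, Points.ofChart_iso ε, Points.ofChart_overMap]⟩

theorem surjective_diag_iff (h𝒳 : IsAlgStack Scheme.fppfPrecoverage 𝒳)
    (h𝒴 : IsAlgStack Scheme.fppfPrecoverage 𝒴) (f : 𝒳 ⥤ᵇ 𝒴) :
    IsUnivInjective Scheme.fppfPrecoverage f ↔ IsSurjective (diag f) := by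
  refine ⟨fun hf w => ?_, fun hΔ 𝒵 h𝒵 g => injective_map
    (FibProd.isFibGrpd_fp h𝒵.isStack.1 h𝒳.isStack.1 h𝒴.isStack.1) h𝒵.isStack.1
    (surjective_diag_fpFst h𝒳.isStack.1 h𝒴.isStack.1 h𝒵.isStack.1 g hΔ)⟩
  obtain ⟨W, c, u, rfl⟩ := Points.exists_ofChart_eq (FibProd.isFibGrpd_fp h𝒳.isStack.1 h𝒳.isStack.1 h𝒴.isStack.1) w
  exact mem_range_diag h𝒳.isStack.1 h𝒴.isStack.1 c (hf _ (Basic.isAlgStack_overCat W) _) u

theorem univInjective_fpFst (h𝒳 : IsAlgStack Scheme.fppfPrecoverage 𝒳)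
    (h𝒴 : IsAlgStack Scheme.fppfPrecoverage 𝒴) (h𝒵 : IsAlgStack Scheme.fppfPrecoverage 𝒵)
    (f : 𝒳 ⥤ᵇ 𝒴) (g : 𝒵 ⥤ᵇ 𝒴) (hf : IsUnivInjective Scheme.fppfPrecoverage f) :
    IsUnivInjective Scheme.fppfPrecoverage (fpFst g f) :=
  (surjective_diag_iff (Basic.isAlgStack_fp h𝒴 h𝒵 h𝒳 g f) h𝒵 _).2
    (surjective_diag_fpFst h𝒳.isStack.1 h𝒴.isStack.1 h𝒵.isStack.1 g
      ((surjective_diag_iff h𝒳 h𝒴 f).1 hf))

theorem univInjective_comp (h𝒳 : IsAlgStack Scheme.fppfPrecoverage 𝒳)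
    (h𝒴 : IsAlgStack Scheme.fppfPrecoverage 𝒴) (h𝒵 : IsAlgStack Scheme.fppfPrecoverage 𝒵)
    (f : 𝒳 ⥤ᵇ 𝒴) (g : 𝒴 ⥤ᵇ 𝒵) (hf : IsUnivInjective Scheme.fppfPrecoverage f)
    (hg : IsUnivInjective Scheme.fppfPrecoverage g) :
    IsUnivInjective Scheme.fppfPrecoverage (BasedFunctor.comp f g) := fun 𝒲 h𝒲 k => by
  have h1 := hf _ (Basic.isAlgStack_fp h𝒵 h𝒲 h𝒴 k g) (fpSnd k g)
  have h2 := hg 𝒲 h𝒲 k
  intro p q e
  obtain ⟨p, rfl⟩ := Basic.surjective_map_of_isEquivOver (Rep.isEquivOver_pasteComp k g f) p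
  obtain ⟨q, rfl⟩ := Basic.surjective_map_of_isEquivOver (Rep.isEquivOver_pasteComp k g f) q
  rw [← Basic.map_comp, ← Basic.map_comp, Rep.pasteComp_fst, Basic.map_comp, Basic.map_comp] at e
  rw [h1 (h2 e)]

theorem univInjective_of_affine (h𝒳 : IsAlgStack Scheme.fppfPrecoverage 𝒳)
    (h𝒴 : IsAlgStack Scheme.fppfPrecoverage 𝒴) (f : 𝒳 ⥤ᵇ 𝒴)
    (h : ∀ (Z : Over S) [IsAffine Z.left] (z : overCat Z ⥤ᵇ 𝒴),
      IsUnivInjective Scheme.fppfPrecoverage (fpFst z f)) :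
    IsUnivInjective Scheme.fppfPrecoverage f := by
  refine (surjective_diag_iff h𝒳 h𝒴 f).2 fun w => ?_
  obtain ⟨W, c, hW, -, ⟨u, rfl⟩, -, -⟩ :=
    Top.exists_affine_chart (Basic.isAlgStack_fp h𝒴 h𝒳 h𝒳 f f) w isOpen_univ (Set.mem_univ w)
  refine mem_range_diag h𝒳.isStack.1 h𝒴.isStack.1 c ?_ u
  exact injective_map
    (FibProd.isFibGrpd_fp (Yoneda.isFibGrpd_overCat W) h𝒳.isStack.1 h𝒴.isStack.1)
    (Yoneda.isFibGrpd_overCat W)
    ((surjective_diag_iff (Basic.isAlgStack_fp h𝒴 (Basic.isAlgStack_overCat W) h𝒳 _ f)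
      (Basic.isAlgStack_overCat W) _).1 (h W _))

theorem univInjective_of_cover (h𝒳 : IsAlgStack Scheme.fppfPrecoverage 𝒳)
    (h𝒴 : IsAlgStack Scheme.fppfPrecoverage 𝒴) (h𝒵 : IsAlgStack Scheme.fppfPrecoverage 𝒵)
    (f : 𝒳 ⥤ᵇ 𝒴) (w : 𝒵 ⥤ᵇ 𝒴) (hw₁ : RepByAlgSpWith (LocP @Flat) w)
    (hw₂ : RepByAlgSpWith (LocP @LocallyOfFinitePresentation) w)
    (hw₃ : RepByAlgSpWith AlgSp.IsSurjectiveMor w)
    (h : IsUnivInjective Scheme.fppfPrecoverage (fpFst w f)) :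
    IsUnivInjective Scheme.fppfPrecoverage f := by
  refine (surjective_diag_iff h𝒳 h𝒴 f).2 fun p => ?_
  obtain ⟨W, c, u, rfl⟩ :=
    Points.exists_ofChart_eq (FibProd.isFibGrpd_fp h𝒳.isStack.1 h𝒳.isStack.1 h𝒴.isStack.1) p
  obtain ⟨T, s, hs, z, ⟨α⟩⟩ :=
    Cover.exists_lift hw₁ hw₂ hw₃ (BasedFunctor.comp (BasedFunctor.comp c (fpFst f f)) f)
  have : Surjective s.left := hs.2.2
  obtain ⟨t, rfl⟩ := s.left.surjective u
  rw [← Points.ofChart_overMap]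
  refine mem_range_diag h𝒳.isStack.1 h𝒴.isStack.1 _ ?_ t
  let g := BasedFunctor.comp (BasedFunctor.comp (BasedFunctor.comp (overMap s) c) (fpFst f f)) f
  let α' : g ≅ BasedFunctor.comp z w := α
  intro p q e
  change AlgSt.Points.map (fpFst g f) p = AlgSt.Points.map (fpFst g f) q at e
  obtain ⟨p, rfl⟩ := Basic.surjective_map_of_isEquivOver
    (FibProd.isEquivOver_congrLeft α'.symm f) p
  obtain ⟨q, rfl⟩ := Basic.surjective_map_of_isEquivOver
    (FibProd.isEquivOver_congrLeft α'.symm f) q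
  rw [← Basic.map_comp, ← Basic.map_comp, FibProd.congrLeft_fst] at e
  obtain ⟨p, rfl⟩ := Basic.surjective_map_of_isEquivOver (Rep.isEquivOver_pasteBase z w f) p
  obtain ⟨q, rfl⟩ := Basic.surjective_map_of_isEquivOver (Rep.isEquivOver_pasteBase z w f) q
  rw [← Basic.map_comp, ← Basic.map_comp, Rep.pasteBase_fst] at e
  rw [h _ (Basic.isAlgStack_overCat T) z e]

theorem exists_section {k : Type u} [Field k] [IsAlgClosed k] {X : Scheme.{u}}
    (f : X ⟶ Spec (CommRingCat.of k)) [LocallyOfFiniteType f] [Nonempty ↥X] :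
    ∃ t : Spec (CommRingCat.of k) ⟶ X, t ≫ f = 𝟙 _ := by
  have : JacobsonSpace ↥X := LocallyOfFiniteType.jacobsonSpace f
  obtain ⟨x, -, hx⟩ := nonempty_inter_closedPoints (Set.univ_nonempty (α := ↥X))
    isClosed_univ.isLocallyClosed
  exact ⟨pointOfClosedPoint f x hx, pointOfClosedPoint_comp f x hx⟩

theorem geomPts_iff (h𝒳 : IsAlgStack Scheme.fppfPrecoverage 𝒳)
    (h𝒴 : IsAlgStack Scheme.fppfPrecoverage 𝒴) (f : 𝒳 ⥤ᵇ 𝒴) :
    IsSurjective (diag f) ↔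
      ∀ (k : Type u) [Field k] [IsAlgClosed k] (s : Spec (CommRingCat.of k) ⟶ S) (a₁ a₂ : 𝒳.obj)
        (_ : 𝒳.p.obj a₁ = Over.mk s) (_ : 𝒳.p.obj a₂ = Over.mk s) (β : f.obj a₁ ⟶ f.obj a₂),
        𝒴.p.IsHomLift (𝟙 (Over.mk s)) β →
          ∃ α : a₁ ⟶ a₂, 𝒳.p.IsHomLift (𝟙 (Over.mk s)) α ∧ f.map α = β := by
  have hF := FibProd.isFibGrpd_fp (F := f) (G := f) h𝒳.isStack.1 h𝒳.isStack.1 h𝒴.isStack.1
  have hP := Basic.isAlgStack_fp h𝒴 h𝒳 h𝒳 f f
  constructor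
  · intro hΔ k _ _ s a₁ a₂ h₁ h₂ β hβ
    have := BasedBasic.isIso_of_isHomLift_id h𝒴.isStack.1 (R := Over.mk s) β
    let w : (fp f f).obj := FibProd.objMk a₁ a₂ (asIso β) (by rw [h₁]; exact hβ)
    have hw : (fp f f).p.obj w = Over.mk s := h₁
    let c := Yoneda.fromObj hF hw
    have hrep : RepByAlgSp1 (diag f) := Main2.rep1_diag' h𝒳 h𝒴 f
    obtain ⟨T, σ, hσ, z, ⟨ι⟩, hQ⟩ :=
      Points.exists_chart_lift (Points.rep_of_isSurjective hF h𝒳.isStack.1 hrep hΔ) c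
    have := hσ
    have : LocallyOfFiniteType σ.left :=
      hQ Lib.SourceDescent.Scheme.locallyOfFiniteType (Lft.diag_lft' h𝒳 h𝒴 f)
    have : Nonempty ↥T.left :=
      ⟨(σ.left.surjective (Classical.arbitrary ↥(Spec (CommRingCat.of k)))).choose⟩
    obtain ⟨t, ht⟩ := exists_section σ.left
    have hts : t ≫ T.hom = s := by
      have : t ≫ σ.left ≫ s = t ≫ T.hom := congrArg (t ≫ ·) (Over.w σ)
      rw [← this, ← Category.assoc, ht]; exact Category.id_comp _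
    let t' : Over.mk s ⟶ T := Over.homMk t hts
    have e : t' ≫ σ = 𝟙 _ := Over.OverMorphism.ext ht
    let o : (overCat (Over.mk s)).obj := Over.mk (𝟙 (Over.mk s))
    let o' : (overCat (Over.mk s)).obj := Over.mk (𝟙 (Over.mk s) ≫ (t' ≫ σ))
    have ho : o' = o := congrArg Over.mk (by rw [e, Category.id_comp])
    let x := z.obj ((overMap t').obj o)
    have hx : 𝒳.p.obj x = Over.mk s := z.w_obj _
    let θ : (diag f).obj x ⟶ c.obj o' :=
      (BasedBasic.appIso ι ((overMap t').obj o)).inv ≫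
        eqToHom (congrArg c.obj (congrArg Over.mk (Category.assoc _ _ _)))
    obtain ⟨e₂, he₂⟩ := Yoneda.exists_fromObj_iso hF hw
    let θ' : (diag f).obj x ⟶ w := θ ≫ eqToHom (congrArg c.obj ho) ≫ e₂.hom
    have hθ' : (fp f f).p.IsHomLift (𝟙 (Over.mk s)) θ' := by
      have h0 : (fp f f).p.IsHomLift (𝟙 (Over.mk s)) (BasedBasic.appIso ι ((overMap t').obj o)).inv :=
        BasedNatTrans.isHomLift ι.inv (((overMap t').w_obj o).trans rfl)
      have : (fp f f).p.IsHomLift (𝟙 (Over.mk s)) θ := IsHomLift.eqToHom_comp_lift_iff .. |>.2 h0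
      have : (fp f f).p.IsHomLift (𝟙 (Over.mk s)) (θ ≫ eqToHom (congrArg c.obj ho)) :=
        IsHomLift.eqToHom_comp_lift_iff .. |>.2 this
      change (fp f f).p.IsHomLift (𝟙 (Over.mk s)) (θ ≫ eqToHom (congrArg c.obj ho) ≫ e₂.hom)
      rw [← Category.assoc]
      infer_instance
    have := BasedBasic.isIso_of_isHomLift_id hF (R := Over.mk s) θ'
    have hl1 : 𝒳.p.IsHomLift (𝟙 (Over.mk s)) θ'.hom.fst :=
      IsHomLift.of_fac' _ _ _ hx h₁ (IsHomLift.fac' (fp f f).p (𝟙 (Over.mk s)) θ')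
    have hi1 := BasedBasic.isIso_of_isHomLift_id h𝒳.isStack.1 (R := Over.mk s) θ'.hom.fst
    have hl2 : 𝒳.p.IsHomLift (𝟙 (Over.mk s)) θ'.hom.snd :=
      IsHomLift.of_fac' _ _ _ hx h₂ (by
        have := FibCat.fp_isHomLift_snd f f θ'
        have h3 := IsHomLift.fac' 𝒳.p ((fp f f).p.map θ') θ'.hom.snd
        refine h3.trans ((congrArg (fun m => eqToHom _ ≫ m ≫ eqToHom _)
          (IsHomLift.fac' (fp f f).p (𝟙 (Over.mk s)) θ')).trans ?_)
        simp)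
    refine ⟨inv θ'.hom.fst ≫ θ'.hom.snd, ?_, ?_⟩
    · have : 𝒳.p.IsHomLift (𝟙 (Over.mk s)) (inv θ'.hom.fst) := inferInstance
      infer_instance
    · rw [f.map_comp, f.toFunctor.map_inv]
      refine (IsIso.inv_comp_eq _).2 ?_
      exact ((θ'.hom.w).trans (Category.id_comp _)).symm
  · intro h p
    obtain ⟨W, c, u, rfl⟩ := Points.exists_ofChart_eq hF p
    let k := AlgebraicClosure ↥(W.left.residueField u)
    let g : Spec (CommRingCat.of k) ⟶ W.left :=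
      Spec.map (CommRingCat.ofHom (algebraMap ↥(W.left.residueField u) k)) ≫ W.left.fromSpecResidueField u
    let s := g ≫ W.hom
    let a : Over.mk s ⟶ W := Over.homMk g rfl
    let t : ↥(Spec (CommRingCat.of k)) := IsLocalRing.closedPoint k
    have ha : a.left t = u := (Scheme.Hom.comp_apply _ _ _).trans (Scheme.fromSpecResidueField_apply u _)
    rw [← ha, ← Points.ofChart_overMap a c t]
    let c' := BasedFunctor.comp (overMap a) c
    let o : (overCat (Over.mk s)).obj := Over.mk (𝟙 (Over.mk s))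
    let w := c'.obj o
    have hw : (fp f f).p.obj w = Over.mk s := c'.w_obj o
    have hw₂ : 𝒳.p.obj w.obj.snd = Over.mk s := (FibProd.snd_obj w).trans hw
    have hβ : 𝒴.p.IsHomLift (𝟙 (Over.mk s)) w.obj.iso.hom := by
      have H : 𝒴.p.IsHomLift (𝟙 (𝒳.p.obj w.obj.fst)) w.obj.iso.hom := w.property
      exact (show 𝒳.p.obj w.obj.fst = Over.mk s from hw) ▸ H
    obtain ⟨α, hα, e⟩ := h k s w.obj.fst w.obj.snd hw hw₂ w.obj.iso.hom hβ
    let x := Yoneda.fromObj h𝒳.isStack.1 (show 𝒳.p.obj w.obj.fst = Over.mk s from hw)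
    obtain ⟨e₁, he₁⟩ := Yoneda.exists_fromObj_iso h𝒳.isStack.1
      (show 𝒳.p.obj w.obj.fst = Over.mk s from hw)
    let θ : (diag f).obj (x.obj o) ⟶ w := FibProd.homMk e₁.hom (e₁.hom ≫ α) (by
      rw [f.map_comp, e]
      exact (Category.id_comp _).symm)
    have hθ : (fp f f).p.IsHomLift (𝟙 (Over.mk s)) θ :=
      IsHomLift.of_fac' _ _ _ (x.w_obj o) hw (IsHomLift.fac' 𝒳.p (𝟙 (Over.mk s)) e₁.hom)
    obtain ⟨ε, -⟩ := Yoneda.exists_iso_of_id hF (BasedFunctor.comp x (diag f)) c' θ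
    exact ⟨AlgSt.Points.ofChart x t, by rw [Points.map_ofChart, Points.ofChart_iso ε]⟩

end Groth.Agent.H14.Chart.UnivInj
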