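import Groth.Agent.H14.Chart.Top
import Groth.Agent.Lib.AlgSpMor.Topo

/-!
Universal topological properties of representable morphisms of algebraic stacks.
-/

set_option autoImplicit false
set_option backward.isDefEq.respectTransparency false
set_option backward.isDefEq.respectTransparency.types false

universe u

open CategoryTheory CategoryTheory.Limits AlgebraicGeometry Topology

namespace Groth.Agent.H14.Chart.UnivTop

open Groth.Agent.Lib.AlgStack
open Groth.Agent.H14.Sep
open Groth.Agent.Lib.AlgSpMor.Topo (CartLocal CartFamily)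
open FibCat (IsEquivOver fp fpFst fpSnd fpLift fpIso overCat IsFibGrpd toSelf)
open AlgSt (ofSp ofSpMap ofOverCat toOverCat spMapOfOver overMap RepByAlgSp1 RepByAlgSpWith IsAlgStack)
open AlgSp (Sp yon IsAlgSpace LocP RepWith)

variable {S : Scheme.{u}} {𝒳 𝒴 𝒵 : AlgSt.Cat S}

theorem bijective_map_of_isEquivOver {E : 𝒳 ⥤ᵇ 𝒴} (hE : IsEquivOver E) :
    Function.Bijective (AlgSt.Points.map E) := by
  obtain ⟨i, hi, ⟨ε⟩, -⟩ := BasedBasic.IsEquivOver.exists_inverse hE
  refine ⟨fun p q e => ?_, Basic.surjective_map_of_isEquivOver hE⟩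
  have := congrArg (AlgSt.Points.map i) e
  rwa [← Basic.map_comp, ← Basic.map_comp, Basic.map_iso ε, Basic.map_iso ε, Basic.map_id,
    Basic.map_id] at this

/-- The homeomorphism on points of an equivalence. -/
theorem isHomeomorph_map_of_isEquivOver (h𝒳 : IsAlgStack Scheme.fppfPrecoverage 𝒳)
    (h𝒴 : IsAlgStack Scheme.fppfPrecoverage 𝒴) {E : 𝒳 ⥤ᵇ 𝒴} (hE : IsEquivOver E) :
    IsHomeomorph (AlgSt.Points.map E) := by
  obtain ⟨i, hi, ⟨ε⟩, ⟨η⟩⟩ := BasedBasic.IsEquivOver.exists_inverse hE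
  exact Homeomorph.isHomeomorph
    { toFun := AlgSt.Points.map E
      invFun := AlgSt.Points.map i
      left_inv := fun p => by rw [← Basic.map_comp, Basic.map_iso ε, Basic.map_id]
      right_inv := fun p => by rw [← Basic.map_comp, Basic.map_iso η, Basic.map_id]
      continuous_toFun := Basic.continuous_map h𝒴 E
      continuous_invFun := Basic.continuous_map h𝒳 i }

/-! ### Points of an algebraic space -/

/-- Points of the stack of a space as points of the space. -/
noncomputable def toSp (G : AlgSp.Space S) (q : AlgSt.Points (ofSp G.obj)) : AlgSp.Points G.obj :=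
  let h := Points.exists_ofChart_eq (IsAlg.isAlgStack_ofSp G).isStack.1 q
  AlgSp.Points.ofPt (SpMapProp.ofPoint h.choose_spec.choose) h.choose_spec.choose_spec.choose

theorem toSp_ofChart (G : AlgSp.Space S) {U : Over S} (x : overCat U ⥤ᵇ ofSp G.obj) (u : ↥U.left) :
    toSp G (AlgSt.Points.ofChart x u) = AlgSp.Points.ofPt (SpMapProp.ofPoint x) u := by
  let h := Points.exists_ofChart_eq (IsAlg.isAlgStack_ofSp G).isStack.1 (AlgSt.Points.ofChart x u)
  obtain ⟨W, a, b, w, ha, hb, ⟨β⟩⟩ := Points.exists_of_ofChart_eq (IsAlg.isAlgStack_ofSp G).isStack.1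
    h.choose_spec.choose_spec.choose_spec
  have e := SpMapProp.ofPoint_eq_of_iso β
  rw [SpMapProp.ofPoint_overMap, SpMapProp.ofPoint_overMap] at e
  change AlgSp.Points.ofPt _ _ = _
  exact (congrArg (AlgSp.Points.ofPt _) ha.symm).trans ((Lib.AlgSpace.ofPt_yon_map_comp _ _ _).symm.trans
    ((congrArg (fun g => AlgSp.Points.ofPt g w) e).trans ((Lib.AlgSpace.ofPt_yon_map_comp _ _ _).trans
      (congrArg (AlgSp.Points.ofPt _) hb))))

theorem injective_toSp (G : AlgSp.Space S) : Function.Injective (toSp G) := fun p q e => by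
  have h := (IsAlg.isAlgStack_ofSp G).isStack.1
  obtain ⟨U, x, u, rfl⟩ := Points.exists_ofChart_eq h p
  obtain ⟨V, y, v, rfl⟩ := Points.exists_ofChart_eq h q
  rw [toSp_ofChart, toSp_ofChart] at e
  obtain ⟨W, a, b, w, rfl, rfl, e'⟩ := (Lib.AlgSpace.ofPt_eq_ofPt_iff _ _ _ _).1 e
  refine Points.ofChart_eq_of_iso a b (SpMapProp.isoOfPoint _ ≪≫ eqToIso (congrArg
    (fun g => BasedFunctor.comp (ofOverCat W) (ofSpMap g)) ?_) ≪≫ (SpMapProp.isoOfPoint _).symm) w
  rw [SpMapProp.ofPoint_overMap, SpMapProp.ofPoint_overMap]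
  exact e'

theorem surjective_toSp (G : AlgSp.Space S) : Function.Surjective (toSp G) := fun g => by
  obtain ⟨T, ξ, t, rfl⟩ := Lib.AlgSpace.exists_ofPt_eq g
  exact ⟨AlgSt.Points.ofChart (BasedFunctor.comp (ofOverCat T) (ofSpMap ξ)) t, by
    rw [toSp_ofChart, SpMapProp.ofPoint_atlas]⟩

theorem isHomeomorph_toSp (G : AlgSp.Space S) : IsHomeomorph (toSp G) := by
  obtain ⟨U, p, he, hs⟩ := G.property.atlas
  have hG := IsAlg.isAlgStack_ofSp G
  let a := BasedFunctor.comp (ofOverCat U) (ofSpMap p)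
  have hsm : RepByAlgSpWith (LocP @Smooth) a :=
    IsAlg.repByAlgSpWith_atlas he hs fun _ _ _ hq _ => IsAlg.locP_smooth hq
  have hsur := Points.surjective_ofChart hG.isStack.1
    (IsAlg.repByAlgSpWith_atlas (P := AlgSp.IsSurjectiveMor) he hs
      fun _ _ _ _ hq => Lib.AlgSpace.surjective_map hq)
  have hq : IsOpenQuotientMap (AlgSt.Points.ofChart a) :=
    ⟨hsur, Points.continuous_ofChart hG a, Points.isOpenMap_ofChart hG.isStack.1 hsm⟩
  have e : toSp G ∘ AlgSt.Points.ofChart a = AlgSp.Points.ofPt p := funext fun u => by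
    simp only [Function.comp_apply, a, toSp_ofChart, SpMapProp.ofPoint_atlas]
  have hp := Lib.AlgSpace.isOpenQuotientMap_ofPt he hs
  exact ⟨hq.continuous_comp_iff.1 (e ▸ hp.continuous), fun O hO => by
    rw [← Set.image_preimage_eq O hq.surjective, ← Set.image_comp, e]
    exact hp.isOpenMap _ (hO.preimage hq.continuous), injective_toSp G, surjective_toSp G⟩

theorem toSp_map {F G : AlgSp.Space S} (γ : F.obj ⟶ G.obj) (p : AlgSt.Points (ofSp F.obj)) :
    toSp G (AlgSt.Points.map (ofSpMap γ) p) = AlgSp.Points.map γ (toSp F p) := by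
  obtain ⟨U, x, u, rfl⟩ := Points.exists_ofChart_eq (IsAlg.isAlgStack_ofSp F).isStack.1 p
  rw [Points.map_ofChart, toSp_ofChart, toSp_ofChart, SpMapProp.ofPoint_comp, AlgSp.Points.map_ofPt]

/-! ### Transfer of properties of maps of spaces of points -/

variable {Φ : ∀ {A B : Type (u + 1)} [TopologicalSpace A] [TopologicalSpace B], (A → B) → Prop}

/-- Invariance under homeomorphisms of source and target. -/
def HomeoInv (Φ : ∀ {A B : Type (u + 1)} [TopologicalSpace A] [TopologicalSpace B], (A → B) → Prop) :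
    Prop :=
  ∀ {A B A' B' : Type (u + 1)} [TopologicalSpace A] [TopologicalSpace B] [TopologicalSpace A']
    [TopologicalSpace B'] (eA : A → A') (eB : B → B'), IsHomeomorph eA → IsHomeomorph eB →
    ∀ (f : A → B) (f' : A' → B'), (∀ a, eB (f a) = f' (eA a)) → (Φ f ↔ Φ f')

theorem homeoInv_of {Φ : ∀ {A B : Type (u + 1)} [TopologicalSpace A] [TopologicalSpace B], (A → B) → Prop}
    (h₁ : ∀ {A B C : Type (u + 1)} [TopologicalSpace A] [TopologicalSpace B] [TopologicalSpace C]
      (f : A → B) (e : B ≃ₜ C), Φ f → Φ (e ∘ f))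
    (h₂ : ∀ {A B C : Type (u + 1)} [TopologicalSpace A] [TopologicalSpace B] [TopologicalSpace C]
      (e : A ≃ₜ B) (f : B → C), Φ f → Φ (f ∘ e)) : HomeoInv @Φ := by
  intro A B A' B' _ _ _ _ eA eB hA hB f f' h
  let a := hA.homeomorph
  let b := hB.homeomorph
  have e : f' = b ∘ f ∘ a.symm := funext fun x => by
    obtain ⟨x, rfl⟩ := a.surjective x
    simp only [Function.comp_apply, Homeomorph.symm_apply_apply]
    exact (h x).symm
  have e' : f = b.symm ∘ f' ∘ a := funext fun x => b.injective (by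
    simp only [Function.comp_apply, Homeomorph.apply_symm_apply]
    exact h x)
  exact ⟨fun hf => e ▸ h₁ _ b (h₂ a.symm f hf), fun hf => e' ▸ h₁ _ b.symm (h₂ a f' hf)⟩

theorem homeoInv_isOpenMap : HomeoInv.{u} fun f => IsOpenMap f :=
  homeoInv_of (fun _ e h => e.isOpenMap.comp (by exact h)) fun e _ h => by exact h.comp e.isOpenMap

theorem homeoInv_isClosedMap : HomeoInv.{u} fun f => IsClosedMap f :=
  homeoInv_of (fun _ e h => e.isClosedMap.comp (by exact h)) fun e _ h => by exact h.comp e.isClosedMap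

theorem homeoInv_injective : HomeoInv.{u} fun f => Function.Injective f :=
  homeoInv_of (fun _ e h => e.injective.comp h) fun e _ h => h.comp e.injective

theorem homeoInv_isQuotientMap : HomeoInv.{u} fun f => IsQuotientMap f :=
  homeoInv_of (fun _ e h => e.isQuotientMap.comp (by exact h)) fun e _ h => by exact h.comp e.isQuotientMap

theorem homeoInv_isHomeomorph : HomeoInv.{u} fun f => IsHomeomorph f :=
  homeoInv_of (fun _ e h => e.isHomeomorph.comp (by exact h)) fun e _ h => by exact h.comp e.isHomeomorph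

/-- The projection of a represented base change on points is that of the representing map. -/
theorem phi_iff (hΦ : HomeoInv @Φ) (h𝒳 : IsAlgStack Scheme.fppfPrecoverage 𝒳)
    (h𝒴 : IsAlgStack Scheme.fppfPrecoverage 𝒴) (f : 𝒳 ⥤ᵇ 𝒴) {U : Over S} (y : overCat U ⥤ᵇ 𝒴)
    (G : AlgSp.Space S) {e : ofSp G.obj ⥤ᵇ fp y f} (he : IsEquivOver e) :
    Φ (AlgSt.Points.map (fpFst y f)) ↔
      Φ (AlgSp.Points.map (spMapOfOver (BasedFunctor.comp e (fpFst y f)))) := by
  let U' : AlgSp.Space S := (AlgSp.ofScheme S).obj U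
  let γ : G.obj ⟶ U'.obj := spMapOfOver (BasedFunctor.comp e (fpFst y f))
  have h1 : Φ (AlgSt.Points.map (ofSpMap γ)) ↔ Φ (AlgSt.Points.map (fpFst y f)) :=
    hΦ _ _ (isHomeomorph_map_of_isEquivOver (IsAlg.isAlgStack_ofSp G)
        (Basic.isAlgStack_fp h𝒴 (Basic.isAlgStack_overCat U) h𝒳 y f) he)
      (isHomeomorph_map_of_isEquivOver (IsAlg.isAlgStack_ofSp U') (Basic.isAlgStack_overCat U)
        (Rep.isEquivOver_toOverCat U)) _ _ fun p => by
      rw [← Basic.map_comp, ← Basic.map_comp]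
      exact Basic.map_iso (Rep.isoSpMapOfOver (BasedFunctor.comp e (fpFst y f))).symm p
  exact h1.symm.trans (hΦ _ _ (isHomeomorph_toSp G) (isHomeomorph_toSp U') _ _ (toSp_map γ))

theorem univ_iff (hΦ : HomeoInv @Φ) (hL : CartLocal @Φ)
    (h𝒳 : IsAlgStack Scheme.fppfPrecoverage 𝒳) (h𝒴 : IsAlgStack Scheme.fppfPrecoverage 𝒴)
    (f : 𝒳 ⥤ᵇ 𝒴) (hf : RepByAlgSp1 f) :
    RepByAlgSpWith (AlgSp.UnivSp fun _ _ g => Φ (AlgSp.Points.map g)) f ↔
      ∀ (𝒵 : AlgSt.Cat S), IsAlgStack Scheme.fppfPrecoverage 𝒵 → ∀ g : 𝒵 ⥤ᵇ 𝒴,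
        Φ (AlgSt.Points.map (fpFst g f)) := by
  constructor
  · intro h 𝒵 h𝒵 g
    obtain ⟨U, a, ha, has⟩ := h𝒵.atlas
    obtain ⟨G, e, he, hu⟩ := h U (BasedFunctor.comp a g)
    have hid := hu (IsAlgSpace.yon_obj U) (𝟙 _) (𝟙 G.obj)
      (spMapOfOver (BasedFunctor.comp e (fpFst (BasedFunctor.comp a g) f)))
      (IsPullback.of_horiz_isIso ⟨by simp⟩)
    have hU := (phi_iff hΦ h𝒳 h𝒴 f (BasedFunctor.comp a g) G he).2 hid
    have hP := Basic.isAlgStack_fp h𝒴 h𝒵 h𝒳 g f
    have hQ := Basic.isAlgStack_fp h𝒴 (Basic.isAlgStack_overCat U) h𝒳 (BasedFunctor.comp a g) f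
    obtain ⟨i, hi, -, ⟨ε⟩⟩ :=
      BasedBasic.IsEquivOver.exists_inverse (Rep.isEquivOver_pasteBase a g f)
    let q := BasedFunctor.comp i (fpSnd a (fpFst g f))
    have hfst : ∀ r, AlgSt.Points.map (fpFst a (fpFst g f)) r =
        AlgSt.Points.map (fpFst (BasedFunctor.comp a g) f) (AlgSt.Points.map (Rep.pasteBase a g f) r) :=
      fun r => by rw [← Rep.pasteBase_fst a g f, Basic.map_comp]
    refine hL (ι := PUnit) (AlgSt.Points.map (fpFst g f))
      (fun _ => AlgSt.Points.map (fpFst (BasedFunctor.comp a g) f)) (fun _ => AlgSt.Points.map q)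
      (fun _ => AlgSt.Points.map a)
      ⟨fun _ r => ?_, fun _ p b hpb => ?_, fun _ => Basic.continuous_map hP q,
        fun _ => Basic.continuous_map h𝒵 a, fun _ O hO => ?_, fun b => ?_⟩
      (Basic.continuous_map h𝒵 _) fun _ => hU
    · obtain ⟨r, rfl⟩ := Basic.surjective_map_of_isEquivOver (Rep.isEquivOver_pasteBase a g f) r
      rw [← hfst, ← Basic.map_comp, ← Basic.map_comp, ← Basic.map_comp]
      obtain ⟨-, -, ⟨η⟩, -⟩ := BasedBasic.IsEquivOver.exists_inverse
        (F := Rep.pasteBase a g f) (Rep.isEquivOver_pasteBase a g f)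
      have h2 : ∀ r, AlgSt.Points.map i (AlgSt.Points.map (Rep.pasteBase a g f) r) = r := fun r =>
        (bijective_map_of_isEquivOver (Rep.isEquivOver_pasteBase a g f)).1 (by
          rw [← Basic.map_comp i, Basic.map_iso ε, Basic.map_id])
      rw [Basic.map_comp, Basic.map_comp q, Basic.map_comp i, h2, ← Basic.map_comp]
      exact (Basic.map_iso (fpIso a (fpFst g f)) r).symm
    · obtain ⟨r, hr₁, hr₂⟩ := Basic.exists_points_fp hP.isStack.1 h𝒵.isStack.1
        (Yoneda.isFibGrpd_overCat U) (g := a) (f := fpFst g f) (p := b) (q := p) hpb.symm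
      refine ⟨AlgSt.Points.map (Rep.pasteBase a g f) r, ?_, by rw [← hfst, hr₁]⟩
      have h2 : AlgSt.Points.map i (AlgSt.Points.map (Rep.pasteBase a g f) r) = r :=
        (bijective_map_of_isEquivOver (Rep.isEquivOver_pasteBase a g f)).1 (by
          rw [← Basic.map_comp i, Basic.map_iso ε, Basic.map_id])
      rw [Basic.map_comp, h2, hr₂]
    · have hsur : Function.Surjective (AlgSt.Points.ofChart (BasedFunctor.id (overCat U))) :=
        fun p => by
          obtain ⟨W, z, w, rfl⟩ := Points.exists_ofChart_eq (Yoneda.isFibGrpd_overCat U) p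
          obtain ⟨v, ⟨ε'⟩⟩ := Points.exists_iso_overMap z
          exact ⟨v.left w, (Points.ofChart_overMap v (BasedFunctor.id _) w).symm.trans
            (Points.ofChart_iso ε' w).symm⟩
      rw [← Set.image_preimage_eq O hsur, ← Set.image_comp]
      exact Points.isOpenMap_ofChart h𝒵.isStack.1 ha _
        (hO.preimage (Points.continuous_ofChart (Basic.isAlgStack_overCat U) _))
    · obtain ⟨b', hb'⟩ := Points.isSurjective_of_rep h𝒵.isStack.1 has b
      exact ⟨⟨⟩, b', hb'⟩
  · intro h T y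
    obtain ⟨G, e, he⟩ := hf T y
    refine ⟨G, e, he, (Lib.AlgSpMor.Topo.univSp_iff_affine hL _).2 fun Z _ g P fst snd sq => ?_⟩
    have hP : IsAlgSpace P := Lib.AlgSpace.isAlgSpace_of_isPullback sq
      (IsAlgSpace.yon_obj T).diag G.property (IsAlgSpace.yon_obj Z)
    have := BasedBasic.IsEquivOver.full (Rep.isEquivOver_toOverCat T)
    have := BasedBasic.IsEquivOver.faithful (Rep.isEquivOver_toOverCat T)
    have h1 := Space.isEquivOver_sqLift (sq.flip.map (sheafToPresheaf _ _))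
    have h2 := FibProd.isEquivOver_fpMap (F := BasedFunctor.comp (ofSpMap g) (toOverCat T))
      (G := fpFst y f) (F' := ofSpMap g)
      (G' := ofSpMap (spMapOfOver (BasedFunctor.comp e (fpFst y f))))
      (BasedFunctor.id (ofSp ((yon S).obj Z))) e (toOverCat T) (Iso.refl _) (Rep.isoSpMapOfOver _)
      BasedBasic.isEquivOver_id he
    have h3 := BasedBasic.IsEquivOver.comp (BasedBasic.IsEquivOver.comp h1 h2)
      (Rep.isEquivOver_pasteBase (BasedFunctor.comp (ofSpMap g) (toOverCat T)) y f)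
    let Z' : AlgSp.Space S := (AlgSp.ofScheme S).obj Z
    let P' : AlgSp.Space S := ⟨P, hP⟩
    let snd' : P'.obj ⟶ Z'.obj := snd
    let g' : ofSp Z'.obj ⥤ᵇ 𝒴 := BasedFunctor.comp (BasedFunctor.comp (ofSpMap g) (toOverCat T)) y
    have hs := (hΦ _ _ (isHomeomorph_map_of_isEquivOver (IsAlg.isAlgStack_ofSp P')
        (Basic.isAlgStack_fp h𝒴 (IsAlg.isAlgStack_ofSp Z') h𝒳 g' f) h3)
      (isHomeomorph_map_of_isEquivOver (IsAlg.isAlgStack_ofSp Z') (IsAlg.isAlgStack_ofSp Z')
        BasedBasic.isEquivOver_id) (AlgSt.Points.map (ofSpMap snd')) (AlgSt.Points.map (fpFst g' f))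
        fun p => by rw [Basic.map_id, ← Basic.map_comp]; exact Basic.map_iso (eqToIso rfl) p).2
      (h _ (IsAlg.isAlgStack_ofSp Z') g')
    exact (hΦ _ _ (isHomeomorph_toSp P') (isHomeomorph_toSp Z') _ _ (toSp_map snd')).1 hs

end Groth.Agent.H14.Chart.UnivTop
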